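/-
Graphs with reflections in which every frame of six sees every other point exactly twice.
-/
import Mathlib

set_option autoImplicit false
set_option linter.unusedSectionVars false

namespace H49.Sextet

open scoped Classical

/-- The combinatorial system. -/
structure Sys (P : Type*) where
  Adj : P → P → Prop
  r : P → P → P
  symm : ∀ {t u}, Adj t u → Adj u t
  irrefl : ∀ {t}, ¬ Adj t t
  fix_self : ∀ t, r t t = t
  fix_adj : ∀ {t u}, Adj t u → r t u = u
  invol : ∀ t u, r t (r t u) = u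
  map_adj : ∀ t {u v}, Adj u v → Adj (r t u) (r t v)
  swap : ∀ {t u}, t ≠ u → ¬ Adj t u → r t u = r u t
  third : ∀ {t u}, t ≠ u → ¬ Adj t u → r t u ≠ t ∧ r t u ≠ u ∧ ¬ Adj t (r t u) ∧ ¬ Adj u (r t u)
  conj : ∀ t u w, r (r t u) w = r t (r u (r t w))
  common : ∀ {a b}, Adj a b → {c | Adj a c ∧ Adj b c}.ncard = 12
  triple : ∀ {a b c}, Adj a b → Adj a c → Adj b c →
    {d | Adj a d ∧ Adj b d ∧ Adj c d}.ncard = 3 ∧
      ∀ d d', Adj a d → Adj b d → Adj c d → Adj a d' → Adj b d' → Adj c d' → d ≠ d' → Adj d d'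
  two : ∀ (Φ : Finset P) (t : P), Φ.card = 6 → (∀ x ∈ Φ, ∀ y ∈ Φ, x ≠ y → Adj x y) → t ∉ Φ →
    (Φ.filter fun x => Adj t x).card = 2

namespace Sys

variable {P : Type*} [Fintype P] (Y : Sys P)

/-- A frame. -/
def IsFrame (Φ : Finset P) : Prop := Φ.card = 6 ∧ ∀ x ∈ Φ, ∀ y ∈ Φ, x ≠ y → Y.Adj x y

lemma adj_comm {t u : P} : Y.Adj t u ↔ Y.Adj u t := ⟨Y.symm, Y.symm⟩

lemma ne_of_adj {t u : P} (h : Y.Adj t u) : t ≠ u := fun e => Y.irrefl (e ▸ h)

lemma r_inj (t : P) : Function.Injective (Y.r t) := Function.LeftInverse.injective (Y.invol t)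

lemma r_adj_iff (t : P) {u v : P} : Y.Adj (Y.r t u) (Y.r t v) ↔ Y.Adj u v :=
  ⟨fun h => by simpa [Y.invol] using Y.map_adj t h, fun h => Y.map_adj t h⟩

/-- Reflections respect reflections. -/
lemma r_r (t u w : P) : Y.r t (Y.r u w) = Y.r (Y.r t u) (Y.r t w) := by
  rw [Y.conj, Y.invol]

lemma r_comm {t u : P} (h : Y.Adj t u) (w : P) : Y.r t (Y.r u w) = Y.r u (Y.r t w) := by
  rw [Y.r_r, Y.fix_adj h]

/-- The frame through a triangle. -/
noncomputable def fr (a b c : P) : Finset P :=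
  {a, b, c} ∪ Finset.univ.filter fun d => Y.Adj a d ∧ Y.Adj b d ∧ Y.Adj c d

lemma fr_mem {a b c d : P} :
    d ∈ Y.fr a b c ↔ d = a ∨ d = b ∨ d = c ∨ (Y.Adj a d ∧ Y.Adj b d ∧ Y.Adj c d) := by
  simp [fr, or_assoc]

lemma fr_frame {a b c : P} (hab : Y.Adj a b) (hac : Y.Adj a c) (hbc : Y.Adj b c) :
    Y.IsFrame (Y.fr a b c) := by
  obtain ⟨h3, hcl⟩ := Y.triple hab hac hbc
  refine ⟨?_, ?_⟩
  · rw [fr, Finset.card_union_of_disjoint]
    · have e1 : ({a, b, c} : Finset P).card = 3 := by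
        simp [Y.ne_of_adj hab, Y.ne_of_adj hac, Y.ne_of_adj hbc]
      have e2 : (Finset.univ.filter fun d => Y.Adj a d ∧ Y.Adj b d ∧ Y.Adj c d).card = 3 := by
        rw [← h3, ← Set.ncard_coe_finset]; congr 1; ext d; simp
      omega
    · rw [Finset.disjoint_left]
      intro d hd hd'
      simp only [Finset.mem_filter, Finset.mem_univ, true_and] at hd'
      simp only [Finset.mem_insert, Finset.mem_singleton] at hd
      rcases hd with rfl | rfl | rfl
      exacts [Y.irrefl hd'.1, Y.irrefl hd'.2.1, Y.irrefl hd'.2.2]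
  · intro x hx y hy hne
    rw [fr_mem] at hx hy
    rcases hx with rfl | rfl | rfl | hx <;> rcases hy with rfl | rfl | rfl | hy
    all_goals first
      | exact absurd rfl hne
      | assumption
      | exact Y.symm ‹_›
      | exact hy.1
      | exact hy.2.1
      | exact hy.2.2
      | exact Y.symm hx.1
      | exact Y.symm hx.2.1
      | exact Y.symm hx.2.2
      | exact hcl x y hx.1 hx.2.1 hx.2.2 hy.1 hy.2.1 hy.2.2 hne

lemma frame_eq {Φ : Finset P} (hΦ : Y.IsFrame Φ) {a b c : P} (ha : a ∈ Φ) (hb : b ∈ Φ) (hc : c ∈ Φ)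
    (hab : a ≠ b) (hac : a ≠ c) (hbc : b ≠ c) : Φ = Y.fr a b c := by
  refine Finset.eq_of_subset_of_card_le (fun d hd => ?_) ?_
  · rw [fr_mem]
    by_cases h1 : d = a
    · exact Or.inl h1
    by_cases h2 : d = b
    · exact Or.inr (Or.inl h2)
    by_cases h3 : d = c
    · exact Or.inr (Or.inr (Or.inl h3))
    exact Or.inr (Or.inr (Or.inr ⟨hΦ.2 a ha d hd fun e => h1 e.symm,
      hΦ.2 b hb d hd fun e => h2 e.symm, hΦ.2 c hc d hd fun e => h3 e.symm⟩))
  · rw [(Y.fr_frame (hΦ.2 a ha b hb hab) (hΦ.2 a ha c hc hac) (hΦ.2 b hb c hc hbc)).1, hΦ.1]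

/-- Same class among the common partners of an adjacent pair. -/
def Same (c d : P) : Prop := c = d ∨ Y.Adj c d

lemma Same.symm' {c d : P} (h : Y.Same c d) : Y.Same d c :=
  h.elim (fun e => Or.inl e.symm) fun e => Or.inr (Y.symm e)

section common

variable {a b : P} (hab : Y.Adj a b)
include hab

lemma same_trans {c d e : P} (hc : Y.Adj a c ∧ Y.Adj b c) (hd : Y.Adj a d ∧ Y.Adj b d)
    (he : Y.Adj a e ∧ Y.Adj b e) (h1 : Y.Same c d) (h2 : Y.Same d e) : Y.Same c e := by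
  rcases h1 with rfl | h1
  · exact h2
  rcases h2 with rfl | h2
  · exact Or.inr h1
  by_cases hce : c = e
  · exact Or.inl hce
  exact Or.inr ((Y.triple hab hd.1 hd.2).2 c e hc.1 hc.2 (Y.symm h1) he.1 he.2 h2 hce)

lemma ncard_class {c : P} (hc : Y.Adj a c ∧ Y.Adj b c) :
    {d | (Y.Adj a d ∧ Y.Adj b d) ∧ Y.Same c d}.ncard = 4 := by
  have he : {d | (Y.Adj a d ∧ Y.Adj b d) ∧ Y.Same c d} =
      insert c {d | Y.Adj a d ∧ Y.Adj b d ∧ Y.Adj c d} := by
    ext d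
    simp only [Set.mem_ofPred_eq, Set.mem_insert_iff, Sys.Same]
    constructor
    · rintro ⟨h1, rfl | h2⟩
      exacts [Or.inl rfl, Or.inr ⟨h1.1, h1.2, h2⟩]
    · rintro (rfl | h)
      exacts [⟨hc, Or.inl rfl⟩, ⟨⟨h.1, h.2.1⟩, Or.inr h.2.2⟩]
  rw [he, Set.ncard_insert_of_notMem (fun h => Y.irrefl h.2.2) (Set.toFinite _),
    (Y.triple hab hc.1 hc.2).1]

lemma r_common {u c : P} (hu : Y.Adj a u ∧ Y.Adj b u) (hc : Y.Adj a c ∧ Y.Adj b c) :
    Y.Adj a (Y.r u c) ∧ Y.Adj b (Y.r u c) := by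
  refine ⟨?_, ?_⟩
  · simpa [Y.fix_adj (Y.symm hu.1)] using Y.map_adj u hc.1
  · simpa [Y.fix_adj (Y.symm hu.2)] using Y.map_adj u hc.2

lemma not_same {u c : P} (h : ¬ Y.Same u c) :
    ¬ Y.Same u (Y.r u c) ∧ ¬ Y.Same c (Y.r u c) := by
  obtain ⟨h1, h2, h3, h4⟩ := Y.third (fun e => h (Or.inl e)) (fun e => h (Or.inr e))
  exact ⟨fun e => e.elim (fun e => h1 e.symm) h3, fun e => e.elim (fun e => h2 e.symm) h4⟩

/-- There are exactly three classes. -/
lemma three {u c w : P} (hu : Y.Adj a u ∧ Y.Adj b u) (hc : Y.Adj a c ∧ Y.Adj b c)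
    (hw : Y.Adj a w ∧ Y.Adj b w) (h : ¬ Y.Same u c) :
    Y.Same u w ∨ Y.Same c w ∨ Y.Same (Y.r u c) w := by
  obtain ⟨h1, h2⟩ := Y.not_same hab h
  have hs := Y.r_common hab hu hc
  set C := fun x => {d | (Y.Adj a d ∧ Y.Adj b d) ∧ Y.Same x d}
  have hdis : ∀ {x y}, (Y.Adj a x ∧ Y.Adj b x) → (Y.Adj a y ∧ Y.Adj b y) → ¬ Y.Same x y →
      Disjoint (C x) (C y) := fun {x y} hx hy hn => Set.disjoint_left.2 fun d hd hd' =>
    hn (Y.same_trans hab hx hd.1 hy hd.2 (Same.symm' Y hd'.2))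
  have hall : C u ∪ C c ∪ C (Y.r u c) = {d | Y.Adj a d ∧ Y.Adj b d} := by
    refine Set.eq_of_subset_of_ncard_le ?_ ?_ (Set.toFinite _)
    · rintro d ((hd | hd) | hd) <;> exact hd.1
    · rw [Set.ncard_union_eq (Set.disjoint_union_left.2 ⟨hdis hu hs h1, hdis hc hs h2⟩)
        (Set.toFinite _) (Set.toFinite _), Set.ncard_union_eq (hdis hu hc h) (Set.toFinite _)
        (Set.toFinite _), Y.common hab, Y.ncard_class hab hu, Y.ncard_class hab hc,
        Y.ncard_class hab hs]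
  have : w ∈ C u ∪ C c ∪ C (Y.r u c) := hall ▸ hw
  rcases this with (hd | hd) | hd
  exacts [Or.inl hd.2, Or.inr (Or.inl hd.2), Or.inr (Or.inr hd.2)]

/-- Two reflections from one class permute another without fixed points. -/
lemma double {u u' c : P} (hu : Y.Adj a u ∧ Y.Adj b u) (hu' : Y.Adj a u' ∧ Y.Adj b u')
    (hc : Y.Adj a c ∧ Y.Adj b c) (huu : Y.Adj u u') (h : ¬ Y.Same u c) :
    Y.Adj c (Y.r u' (Y.r u c)) := by
  have hs := Y.r_common hab hu hc
  obtain ⟨h1, h2⟩ := Y.not_same hab h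
  have hw := Y.r_common hab hu' hs
  have h' : ¬ Y.Same u' (Y.r u c) := fun e => h1 (Y.same_trans hab hu hu' hs (Or.inr huu) e)
  obtain ⟨k1, k2⟩ := Y.not_same hab h'
  rcases Y.three hab hu hc hw h with e | e | e
  · exact absurd (Y.same_trans hab hu' hu hw (Or.inr (Y.symm huu)) e) k1
  · rcases e with e | e
    · exfalso
      have h0 : ¬ Y.Same u' c := fun e' => h (Y.same_trans hab hu hu' hc (Or.inr huu) e')
      have e1 : Y.r u' c = Y.r u c := by
        conv_lhs => rw [e]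
        rw [Y.invol]
      rw [Y.swap (fun e => h (Or.inl e)) (fun e => h (Or.inr e)),
        Y.swap (fun e => h0 (Or.inl e)) (fun e => h0 (Or.inr e))] at e1
      exact Y.ne_of_adj huu (Y.r_inj c e1).symm
    · exact e
  · exact absurd e k2

end common

end Sys

end H49.Sextet
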