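/-
The eight points over two members of a labelled frame.
-/
import Cfsg.Agent.H49.Sextet.Graph

set_option autoImplicit false
set_option linter.unusedSectionVars false

namespace H49.Sextet

open scoped Classical symmDiff

variable {P : Type*} [Fintype P] {Y : Sys P}

/-- A labelled frame. -/
structure Lab (Y : Sys P) where
  e : Fin 6 → P
  inj : Function.Injective e
  adj : ∀ {i j}, i ≠ j → Y.Adj (e i) (e j)

namespace Lab

variable (L : Lab Y)

/-- The reflection as a permutation. -/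
def rp (Y : Sys P) (t : P) : Equiv.Perm P := Function.Involutive.toPerm (Y.r t) (Y.invol t)

lemma rp_apply (t u : P) : rp Y t u = Y.r t u := rfl

lemma comm (i j : Fin 6) : Commute (rp Y (L.e i)) (rp Y (L.e j)) := by
  by_cases h : i = j
  · rw [h]
  ext u
  exact Y.r_comm (L.adj h) u

/-- The sign change on a set of labels. -/
noncomputable def R (U : Finset (Fin 6)) : Equiv.Perm P :=
  U.noncommProd (fun i => rp Y (L.e i)) fun i _ j _ _ => L.comm i j

lemma R_empty (t : P) : L.R ∅ t = t := by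
  exact congrArg (fun p : Equiv.Perm P => p t) (Finset.noncommProd_empty _ _)

lemma R_insert {i : Fin 6} {U : Finset (Fin 6)} (h : i ∉ U) (t : P) :
    L.R (insert i U) t = Y.r (L.e i) (L.R U t) := by
  exact congrArg (fun p : Equiv.Perm P => p t) (Finset.noncommProd_insert_of_notMem U i _ _ h)

lemma R_single (i : Fin 6) (t : P) : L.R {i} t = Y.r (L.e i) t := by
  rw [← insert_empty_eq i, L.R_insert (Finset.notMem_empty i), L.R_empty]

lemma r_R (i : Fin 6) (U : Finset (Fin 6)) (t : P) :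
    Y.r (L.e i) (L.R U t) = L.R ({i} ∆ U) t := by
  by_cases h : i ∈ U
  · have e1 : ({i} : Finset (Fin 6)) ∆ U = U.erase i := by
      ext x; simp [Finset.mem_symmDiff, Finset.mem_erase]; by_cases hx : x = i <;> simp [hx, h]
    conv_lhs => rw [← Finset.insert_erase h]
    rw [L.R_insert (Finset.notMem_erase i U), Y.invol, e1]
  · have e1 : ({i} : Finset (Fin 6)) ∆ U = insert i U := by
      ext x; simp [Finset.mem_symmDiff]; by_cases hx : x = i <;> simp [hx, h]
    rw [e1, L.R_insert h]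

lemma R_R (U V : Finset (Fin 6)) (t : P) : L.R U (L.R V t) = L.R (U ∆ V) t := by
  induction U using Finset.induction_on with
  | empty => rw [L.R_empty, ← Finset.bot_eq_empty, bot_symmDiff]
  | @insert i U hi ih =>
    have e1 : insert i U = ({i} : Finset (Fin 6)) ∆ U := by
      ext x; simp [Finset.mem_symmDiff]; by_cases hx : x = i <;> simp [hx, hi]
    rw [L.R_insert hi, ih, L.r_R, ← symmDiff_assoc, ← e1]

lemma R_invol (U : Finset (Fin 6)) (t : P) : L.R U (L.R U t) = t := by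
  rw [L.R_R, symmDiff_self, Finset.bot_eq_empty, L.R_empty]

lemma R_adj (U : Finset (Fin 6)) {t u : P} : Y.Adj (L.R U t) (L.R U u) ↔ Y.Adj t u := by
  induction U using Finset.induction_on with
  | empty => rw [L.R_empty, L.R_empty]
  | @insert i U hi ih => rw [L.R_insert hi, L.R_insert hi, Y.r_adj_iff, ih]

lemma R_e (U : Finset (Fin 6)) (j : Fin 6) : L.R U (L.e j) = L.e j := by
  induction U using Finset.induction_on with
  | empty => rw [L.R_empty]
  | @insert i U hi ih =>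
    rw [L.R_insert hi, ih]
    by_cases h : i = j
    · rw [h, Y.fix_self]
    · exact Y.fix_adj (L.adj h)

/-- The frame as a set. -/
noncomputable def Φ : Finset P := Finset.univ.image L.e

lemma frame : Y.IsFrame L.Φ := by
  refine ⟨by rw [Φ, Finset.card_image_of_injective _ L.inj]; rfl, ?_⟩
  intro x hx y hy hne
  obtain ⟨i, -, rfl⟩ := Finset.mem_image.1 hx
  obtain ⟨j, -, rfl⟩ := Finset.mem_image.1 hy
  exact L.adj fun e => hne (e ▸ rfl)

/-- The points over two labels. -/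
def Orb (a b : Fin 6) (t : P) : Prop :=
  a ≠ b ∧ (∀ i, t ≠ L.e i) ∧ Y.Adj t (L.e a) ∧ Y.Adj t (L.e b)

lemma orb_symm {a b : Fin 6} {t : P} (h : L.Orb a b t) : L.Orb b a t :=
  ⟨h.1.symm, h.2.1, h.2.2.2, h.2.2.1⟩

lemma labels (t : P) (ht : ∀ i, t ≠ L.e i) :
    (Finset.univ.filter fun i => Y.Adj t (L.e i)).card = 2 := by
  have h := Y.two L.Φ t L.frame.1 L.frame.2 (by
    intro hm
    obtain ⟨i, -, rfl⟩ := Finset.mem_image.1 hm
    exact ht i rfl)
  rw [Φ, Finset.filter_image, Finset.card_image_of_injective _ L.inj] at h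
  exact h

lemma exists_orb (t : P) : (∃ i, t = L.e i) ∨ ∃ a b, a < b ∧ L.Orb a b t := by
  by_cases ht : ∀ i, t ≠ L.e i
  · right
    obtain ⟨a, b, hab, he⟩ := Finset.card_eq_two.1 (L.labels t ht)
    have ha : Y.Adj t (L.e a) := by
      have : a ∈ Finset.univ.filter fun i => Y.Adj t (L.e i) := by rw [he]; simp
      exact (Finset.mem_filter.1 this).2
    have hb : Y.Adj t (L.e b) := by
      have : b ∈ Finset.univ.filter fun i => Y.Adj t (L.e i) := by rw [he]; simp
      exact (Finset.mem_filter.1 this).2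
    rcases lt_or_gt_of_ne hab with h | h
    · exact ⟨a, b, h, hab, ht, ha, hb⟩
    · exact ⟨b, a, h, hab.symm, ht, hb, ha⟩
  · push Not at ht
    exact Or.inl ht

variable {a b : Fin 6} {t : P}

lemma adj_e (h : L.Orb a b t) {i : Fin 6} : Y.Adj t (L.e i) ↔ i = a ∨ i = b := by
  refine ⟨fun hi => ?_, fun hi => hi.elim (fun e => e ▸ h.2.2.1) fun e => e ▸ h.2.2.2⟩
  by_contra hn
  push Not at hn
  have hsub : ({a, b, i} : Finset (Fin 6)) ⊆ Finset.univ.filter fun i => Y.Adj t (L.e i) := by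
    intro x hx
    simp only [Finset.mem_insert, Finset.mem_singleton] at hx
    rcases hx with rfl | rfl | rfl <;> simp [h.2.2.1, h.2.2.2, hi]
  have hc := Finset.card_le_card hsub
  rw [L.labels t h.2.1] at hc
  simp [h.1, hn.1.symm, hn.2.symm] at hc

lemma r_fix_label (h : L.Orb a b t) {i : Fin 6} (hi : i = a ∨ i = b) : Y.r (L.e i) t = t :=
  Y.fix_adj (Y.symm ((L.adj_e h).2 hi))

lemma orb_R (h : L.Orb a b t) (U : Finset (Fin 6)) : L.Orb a b (L.R U t) := by
  refine ⟨h.1, fun i e => h.2.1 i ?_, ?_, ?_⟩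
  · have := congrArg (L.R U) e
    rwa [L.R_invol, L.R_e] at this
  · rw [← L.R_e U a, L.R_adj]; exact h.2.2.1
  · rw [← L.R_e U b, L.R_adj]; exact h.2.2.2

lemma orb_r (h : L.Orb a b t) (i : Fin 6) : L.Orb a b (Y.r (L.e i) t) :=
  L.R_single i t ▸ L.orb_R h {i}

lemma orb_common (h : L.Orb a b t) : Y.Adj (L.e a) t ∧ Y.Adj (L.e b) t :=
  ⟨Y.symm h.2.2.1, Y.symm h.2.2.2⟩

lemma not_same_e (h : L.Orb a b t) {k : Fin 6} (hka : k ≠ a) (hkb : k ≠ b) :
    ¬ Y.Same (L.e k) t := by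
  rintro (e | e)
  · exact h.2.1 k e.symm
  · rcases (L.adj_e h).1 (Y.symm e) with e' | e'
    exacts [hka e', hkb e']

lemma r_single (h : L.Orb a b t) {k : Fin 6} (hka : k ≠ a) (hkb : k ≠ b) :
    ¬ Y.Same t (Y.r (L.e k) t) :=
  (Y.not_same (L.adj h.1) (L.not_same_e h hka hkb)).2

lemma r_pair (h : L.Orb a b t) {k l : Fin 6} (hkl : k ≠ l) (hka : k ≠ a) (hkb : k ≠ b)
    (hla : l ≠ a) (hlb : l ≠ b) : Y.Adj t (Y.r (L.e k) (Y.r (L.e l) t)) :=
  Y.double (L.adj h.1) (u := L.e l) (u' := L.e k)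
    ⟨L.adj hla.symm, L.adj hlb.symm⟩ ⟨L.adj hka.symm, L.adj hkb.symm⟩ (L.orb_common h)
    (L.adj hkl.symm) (L.not_same_e h hla hlb)

lemma r_ne (h : L.Orb a b t) {k l : Fin 6} (hkl : k ≠ l) (hka : k ≠ a) (hkb : k ≠ b)
    (hla : l ≠ a) (hlb : l ≠ b) : Y.r (L.e k) t ≠ Y.r (L.e l) t := fun e =>
  Y.ne_of_adj (L.r_pair h hkl hka hkb hla hlb) (by rw [← e, Y.invol])

/-- Four labels. -/
def Quad (a b k l m n : Fin 6) : Prop :=
  k ≠ a ∧ k ≠ b ∧ l ≠ a ∧ l ≠ b ∧ m ≠ a ∧ m ≠ b ∧ n ≠ a ∧ n ≠ b ∧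
    k ≠ l ∧ k ≠ m ∧ k ≠ n ∧ l ≠ m ∧ l ≠ n ∧ m ≠ n

lemma card_off : ∀ a b k : Fin 6, a ≠ b → k ≠ a → k ≠ b →
    (Finset.univ \ ({a, b, k} : Finset (Fin 6))).card = 3 := by
  intro a b k h1 h2 h3
  rw [Finset.card_sdiff_of_subset (Finset.subset_univ _)]
  simp [h1, h2.symm, h3.symm]

lemma exists_off : ∀ a b : Fin 6, a ≠ b → ∃ k, k ≠ a ∧ k ≠ b := by decide

lemma exists_quad (hab : a ≠ b) {k : Fin 6} (hka : k ≠ a) (hkb : k ≠ b) :
    ∃ l m n, Quad a b k l m n := by
  obtain ⟨l, m, n, hlm, hln, hmn, he⟩ := Finset.card_eq_three.1 (card_off a b k hab hka hkb)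
  have h : ∀ i ∈ ({l, m, n} : Finset (Fin 6)), i ≠ a ∧ i ≠ b ∧ k ≠ i := fun i hi => by
    have := (Finset.mem_sdiff.1 (he ▸ hi)).2
    simp only [Finset.mem_insert, Finset.mem_singleton, not_or] at this
    exact ⟨this.1, this.2.1, fun e => this.2.2 e.symm⟩
  obtain ⟨l1, l2, l3⟩ := h l (by simp)
  obtain ⟨m1, m2, m3⟩ := h m (by simp)
  obtain ⟨n1, n2, n3⟩ := h n (by simp)
  exact ⟨l, m, n, hka, hkb, l1, l2, m1, m2, n1, n2, l3, m3, n3, hlm, hln, hmn⟩

lemma quad_cases (hab : a ≠ b) {k l m n i : Fin 6} (hq : Quad a b k l m n) :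
    i = a ∨ i = b ∨ i = k ∨ i = l ∨ i = m ∨ i = n := by
  obtain ⟨h1, h2, h3, h4, h5, h6, h7, h8, h9, h10, h11, h12, h13, h14⟩ := hq
  by_contra hn
  push Not at hn
  have hc := Finset.card_le_card (Finset.subset_univ ({i, a, b, k, l, m, n} : Finset (Fin 6)))
  simp [hn.1, hn.2.1, hn.2.2.1, hn.2.2.2.1, hn.2.2.2.2.1, hn.2.2.2.2.2, hab, h1.symm, h2.symm,
    h3.symm, h4.symm, h5.symm, h6.symm, h7.symm, h8.symm, h9, h10, h11, h12, h13, h14] at hc

lemma class_eq (h : L.Orb a b t) {k l m n : Fin 6} (hq : Quad a b k l m n) {u : P}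
    (hu : Y.Adj (L.e a) u ∧ Y.Adj (L.e b) u) (hs : Y.Same t u) :
    u = t ∨ u = Y.r (L.e k) (Y.r (L.e l) t) ∨ u = Y.r (L.e k) (Y.r (L.e m) t) ∨
      u = Y.r (L.e k) (Y.r (L.e n) t) := by
  obtain ⟨h1, h2, h3, h4, h5, h6, h7, h8, h9, h10, h11, h12, h13, h14⟩ := hq
  set F : Finset P := {t, Y.r (L.e k) (Y.r (L.e l) t), Y.r (L.e k) (Y.r (L.e m) t),
    Y.r (L.e k) (Y.r (L.e n) t)} with hF
  have p1 := L.r_pair h h9 h1 h2 h3 h4
  have p2 := L.r_pair h h10 h1 h2 h5 h6
  have p3 := L.r_pair h h11 h1 h2 h7 h8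
  have hc : F.card = 4 := by
    simp [hF, Y.ne_of_adj p1, Y.ne_of_adj p2, Y.ne_of_adj p3, (Y.r_inj (L.e k)).eq_iff,
      L.r_ne h h12 h3 h4 h5 h6, L.r_ne h h13 h3 h4 h7 h8, L.r_ne h h14 h5 h6 h7 h8]
  have hsub : (↑F : Set P) ⊆ {d | (Y.Adj (L.e a) d ∧ Y.Adj (L.e b) d) ∧ Y.Same t d} := by
    intro d hd
    simp only [hF, Finset.coe_insert, Finset.coe_singleton, Set.mem_insert_iff,
      Set.mem_singleton_iff] at hd
    rcases hd with rfl | rfl | rfl | rfl
    · exact ⟨L.orb_common h, Or.inl rfl⟩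
    · exact ⟨L.orb_common (L.orb_r (L.orb_r h l) k), Or.inr p1⟩
    · exact ⟨L.orb_common (L.orb_r (L.orb_r h m) k), Or.inr p2⟩
    · exact ⟨L.orb_common (L.orb_r (L.orb_r h n) k), Or.inr p3⟩
  have he := Set.eq_of_subset_of_ncard_le hsub (by
    rw [Y.ncard_class (L.adj h.1) (L.orb_common h), Set.ncard_coe_finset, hc]) (Set.toFinite _)
  have hm : u ∈ (↑F : Set P) := he ▸ (⟨hu, hs⟩ : u ∈ {d | _ ∧ _})
  simpa [hF] using hm

/-- The product of the four signs is trivial. -/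
lemma R_quad (h : L.Orb a b t) {k l m n : Fin 6} (hq : Quad a b k l m n) :
    L.R {k, l, m, n} t = t := by
  have hq' := hq
  obtain ⟨h1, h2, h3, h4, h5, h6, h7, h8, h9, h10, h11, h12, h13, h14⟩ := hq'
  have key : Y.r (L.e m) (Y.r (L.e n) t) = Y.r (L.e k) (Y.r (L.e l) t) := by
    have hp := L.r_pair h h14 h5 h6 h7 h8
    rcases L.class_eq h hq (L.orb_common (L.orb_r (L.orb_r h n) m)) (Or.inr hp) with e | e | e | e
    · exact absurd e.symm (Y.ne_of_adj hp)
    · exact e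
    · rw [Y.r_comm (L.adj h10) t] at e
      exact absurd (Y.r_inj _ e).symm (L.r_ne h h11 h1 h2 h7 h8)
    · rw [Y.r_comm (L.adj h14) t, Y.r_comm (L.adj h11) t] at e
      exact absurd (Y.r_inj _ e).symm (L.r_ne h h10 h1 h2 h5 h6)
  rw [L.R_insert (by simp [h9, h10, h11]), L.R_insert (by simp [h12, h13]),
    L.R_insert (by simp [h14]), L.R_single, key,
    Y.r_comm (L.adj h9.symm), Y.invol, Y.invol]

/-- The labels off the orbit. -/
noncomputable def K (a b : Fin 6) : Finset (Fin 6) := Finset.univ \ {a, b}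

lemma mem_K {i : Fin 6} : i ∈ K a b ↔ i ≠ a ∧ i ≠ b := by
  simp [K]

lemma K_quad (hab : a ≠ b) {k l m n : Fin 6} (hq : Quad a b k l m n) : K a b = {k, l, m, n} := by
  ext i
  rw [mem_K]
  obtain ⟨h1, h2, h3, h4, h5, h6, h7, h8, -⟩ := id hq
  simp only [Finset.mem_insert, Finset.mem_singleton]
  constructor
  · intro hi
    rcases quad_cases hab hq (i := i) with e | e | e | e | e | e
    exacts [absurd e hi.1, absurd e hi.2, Or.inl e, Or.inr (Or.inl e), Or.inr (Or.inr (Or.inl e)),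
      Or.inr (Or.inr (Or.inr e))]
  · rintro (rfl | rfl | rfl | rfl) <;> exact ⟨by assumption, by assumption⟩

lemma R_outside (h : L.Orb a b t) {U : Finset (Fin 6)} (hU : ∀ i ∈ U, i = a ∨ i = b) :
    L.R U t = t := by
  induction U using Finset.induction_on with
  | empty => rw [L.R_empty]
  | @insert i U hi ih =>
    rw [L.R_insert hi, ih fun j hj => hU j (Finset.mem_insert_of_mem hj),
      L.r_fix_label h (hU i (Finset.mem_insert_self i U))]

lemma R_restrict (h : L.Orb a b t) (U : Finset (Fin 6)) : L.R U t = L.R (U ∩ K a b) t := by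
  have e1 : U = (U ∩ K a b) ∆ (U \ K a b) := by
    ext x; simp [Finset.mem_symmDiff]; tauto
  conv_lhs => rw [e1]
  rw [← L.R_R, L.R_outside h fun i hi => ?_]
  have := (Finset.mem_sdiff.1 hi).2
  rw [mem_K] at this
  tauto

/-- The sign changes fixing a point. -/
lemma R_eq_self (h : L.Orb a b t) (U : Finset (Fin 6)) :
    L.R U t = t ↔ U ∩ K a b = ∅ ∨ U ∩ K a b = K a b := by
  rw [L.R_restrict h]
  set V := U ∩ K a b with hV
  have hVK : V ⊆ K a b := Finset.inter_subset_right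
  obtain ⟨k, hk⟩ := exists_off a b h.1
  obtain ⟨l, m, n, hq⟩ := exists_quad h.1 hk.1 hk.2
  have hKe := K_quad h.1 hq
  have hfull : L.R (K a b) t = t := by rw [hKe]; exact L.R_quad h hq
  constructor
  · intro hR
    by_contra hn
    push Not at hn
    have hcompl : L.R (K a b \ V) t = t := by
      have e1 : K a b \ V = K a b ∆ V := by
        ext x; simp only [Finset.mem_symmDiff, Finset.mem_sdiff]
        exact ⟨fun hx => Or.inl hx, fun hx => hx.elim id fun hx => absurd (hVK hx.1) hx.2⟩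
      rw [e1, ← L.R_R, hR, hfull]
    have hK4 : (K a b).card = 4 := by
      have hsub : ({a, b} : Finset (Fin 6)) ⊆ Finset.univ := Finset.subset_univ _
      rw [K, Finset.card_sdiff_of_subset hsub, Finset.card_pair h.1]; rfl
    have small : ∀ W ⊆ K a b, L.R W t = t → W.card = 1 ∨ W.card = 2 → False := by
      intro W hW hRW hc
      rcases hc with hc | hc
      · obtain ⟨i, rfl⟩ := Finset.card_eq_one.1 hc
        have hi := mem_K.1 (hW (Finset.mem_singleton_self i))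
        rw [L.R_single] at hRW
        exact L.r_single h hi.1 hi.2 (Or.inl hRW.symm)
      · obtain ⟨i, j, hij, rfl⟩ := Finset.card_eq_two.1 hc
        have hi := mem_K.1 (hW (Finset.mem_insert_self i _))
        have hj := mem_K.1 (hW (Finset.mem_insert_of_mem (Finset.mem_singleton_self j)))
        rw [L.R_insert (by simp [hij]), L.R_single] at hRW
        exact Y.ne_of_adj (L.r_pair h hij hi.1 hi.2 hj.1 hj.2) hRW.symm
    have h1 : 0 < V.card := Finset.card_pos.2 hn.1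
    have h2 : V.card < 4 := hK4 ▸ Finset.card_lt_card
      ((Finset.ssubset_iff_subset_ne).2 ⟨hVK, hn.2⟩)
    by_cases h3 : V.card ≤ 2
    · exact small V hVK hR (by omega)
    · exact small _ Finset.sdiff_subset hcompl
        (by rw [Finset.card_sdiff_of_subset hVK, hK4]; omega)
  · rintro (e | e)
    · rw [e, L.R_empty]
    · rw [e, hfull]

/-- The sign changes are transitive on the eight points. -/
lemma orb_trans (h : L.Orb a b t) {u : P} (hu : L.Orb a b u) : ∃ U, u = L.R U t := by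
  have key : ∀ {t u : P}, L.Orb a b t → L.Orb a b u → Y.Same t u → ∃ U, u = L.R U t := by
    intro t u ht hu hs
    obtain ⟨k, hk⟩ := exists_off a b ht.1
    obtain ⟨l, m, n, hq⟩ := exists_quad ht.1 hk.1 hk.2
    rcases L.class_eq ht hq (L.orb_common hu) hs with e | e | e | e
    · exact ⟨∅, by rw [L.R_empty]; exact e⟩
    · exact ⟨{k} ∆ {l}, by rw [← L.r_R, L.R_single]; exact e⟩
    · exact ⟨{k} ∆ {m}, by rw [← L.r_R, L.R_single]; exact e⟩
    · exact ⟨{k} ∆ {n}, by rw [← L.r_R, L.R_single]; exact e⟩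
  obtain ⟨k, hk⟩ := exists_off a b h.1
  rcases Y.three (L.adj h.1) (u := L.e k) ⟨L.adj hk.1.symm, L.adj hk.2.symm⟩ (L.orb_common h)
    (L.orb_common hu) (L.not_same_e h hk.1 hk.2) with e | e | e
  · exact absurd e (L.not_same_e hu hk.1 hk.2)
  · exact key h hu e
  · obtain ⟨U, hU⟩ := key (L.orb_r h k) hu e
    exact ⟨U ∆ {k}, by rw [hU, ← L.R_R, L.R_single]⟩

end Lab

end H49.Sextet
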