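/-
Fifteen coherent points, one over each pair of labels.
-/
import Cfsg.Agent.H49.Sextet.Orbit

set_option autoImplicit false
set_option linter.unusedSectionVars false

namespace H49.Sextet

open scoped Classical symmDiff

variable {P : Type*} [Fintype P] {Y : Sys P}

namespace Lab

variable (L : Lab Y)

lemma orb_notMem {a b : Fin 6} {t : P} (h : L.Orb a b t) : t ∉ L.Φ := by
  intro hm
  obtain ⟨i, -, rfl⟩ := Finset.mem_image.1 hm
  exact h.2.1 i rfl

lemma exists_orb_pair {a b : Fin 6} (hab : a ≠ b) : ∃ t, L.Orb a b t := by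
  by_contra hn
  push Not at hn
  obtain ⟨k, hka, hkb⟩ := exists_off a b hab
  have hsub : {c | Y.Adj (L.e a) c ∧ Y.Adj (L.e b) c} ⊆ (↑L.Φ : Set P) := fun c hc => by
    by_contra hm
    refine hn c ⟨hab, fun i e => hm ?_, Y.symm hc.1, Y.symm hc.2⟩
    exact e ▸ Finset.mem_coe.2 (Finset.mem_image_of_mem _ (Finset.mem_univ i))
  have := Set.ncard_le_ncard hsub (Finset.finite_toSet _)
  rw [Y.common (L.adj hab), Set.ncard_coe_finset, L.frame.1] at this
  omega

/-- The frame of a class over a pair. -/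
lemma class_frame {q s : Fin 6} {w : P} (hw : L.Orb q s w) :
    Y.IsFrame (Y.fr (L.e q) (L.e s) w) :=
  Y.fr_frame (L.adj hw.1) (L.orb_common hw).1 (L.orb_common hw).2

/-- At most one point of a class over `q, s` is adjacent to a point over `p, q`. -/
lemma one_in_class {p q s : Fin 6} (hps : p ≠ s) {x w w' : P} (hx : L.Orb p q x)
    (hw : L.Orb q s w) (hw' : L.Orb q s w') (hc : Y.Same w w') (h1 : Y.Adj x w)
    (h2 : Y.Adj x w') : w = w' := by
  by_contra hne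
  have hF := L.class_frame hw
  have hwF : w ∈ Y.fr (L.e q) (L.e s) w := (Y.fr_mem).2 (Or.inr (Or.inr (Or.inl rfl)))
  have hw'F : w' ∈ Y.fr (L.e q) (L.e s) w := (Y.fr_mem).2
    (Or.inr (Or.inr (Or.inr ⟨(L.orb_common hw').1, (L.orb_common hw').2,
      hc.resolve_left hne⟩)))
  have hqF : L.e q ∈ Y.fr (L.e q) (L.e s) w := (Y.fr_mem).2 (Or.inl rfl)
  have hxn : x ∉ Y.fr (L.e q) (L.e s) w := by
    intro hm
    rcases (Y.fr_mem).1 hm with e | e | e | e
    · exact hx.2.1 q e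
    · exact hx.2.1 s e
    · exact Y.ne_of_adj h1 e
    · rcases (L.adj_e hx).1 (Y.symm e.2.1) with e' | e'
      exacts [hps e'.symm, hw.1 e'.symm]
  have h3 : ({L.e q, w, w'} : Finset P) ⊆ (Y.fr (L.e q) (L.e s) w).filter fun y => Y.Adj x y := by
    intro y hy
    simp only [Finset.mem_insert, Finset.mem_singleton] at hy
    rcases hy with rfl | rfl | rfl
    exacts [Finset.mem_filter.2 ⟨hqF, hx.2.2.2⟩, Finset.mem_filter.2 ⟨hwF, h1⟩,
      Finset.mem_filter.2 ⟨hw'F, h2⟩]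
  have := Finset.card_le_card h3
  rw [Y.two _ x hF.1 hF.2 hxn] at this
  simp [(hw.2.1 q).symm, (hw'.2.1 q).symm, hne] at this

/-- Some point of the class of `w` is adjacent. -/
lemma exists_in_class {p q s : Fin 6} (hps : p ≠ s) {x w : P} (hx : L.Orb p q x)
    (hw : L.Orb q s w) (hne : x ≠ w) :
    ∃ w', L.Orb q s w' ∧ Y.Same w w' ∧ Y.Adj x w' := by
  have hF := L.class_frame hw
  by_cases hm : x ∈ Y.fr (L.e q) (L.e s) w
  · rcases (Y.fr_mem).1 hm with e | e | e | e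
    · exact absurd e (hx.2.1 q)
    · exact absurd e (hx.2.1 s)
    · exact absurd e hne
    · exact ⟨w, hw, Or.inl rfl, Y.symm e.2.2⟩
  obtain ⟨u, v, huv, he⟩ := Finset.card_eq_two.1 (Y.two _ x hF.1 hF.2 hm)
  obtain ⟨y, hy, hyq⟩ : ∃ y, y ∈ (Y.fr (L.e q) (L.e s) w).filter (fun y => Y.Adj x y) ∧ y ≠ L.e q := by
    rw [he]
    by_cases hu : u = L.e q
    · exact ⟨v, by simp, fun e => huv (hu.trans e.symm)⟩
    · exact ⟨u, by simp, hu⟩
  obtain ⟨hyF, hxy⟩ := Finset.mem_filter.1 hy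
  rcases (Y.fr_mem).1 hyF with e | e | e | e
  · exact absurd e hyq
  · rcases (L.adj_e hx).1 (e ▸ hxy) with e' | e'
    exacts [absurd e'.symm hps, absurd e'.symm hw.1]
  · exact ⟨y, e ▸ hw, Or.inl e.symm, hxy⟩
  · refine ⟨y, ⟨hw.1, fun i ei => ?_, Y.symm e.1, Y.symm e.2.1⟩, Or.inr e.2.2, hxy⟩
    subst ei
    rcases (L.adj_e hw).1 e.2.2 with rfl | rfl
    exacts [hyq rfl, Y.irrefl e.2.1]

/-- The two neighbours over an overlapping pair. -/
lemma nbrs {p q s : Fin 6} (hps : p ≠ s) {x w u : P} (hx : L.Orb p q x) (hw : L.Orb q s w)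
    (hu : L.Orb q s u) (h1 : Y.Adj x w) (h2 : Y.Adj x u) : u = w ∨ u = Y.r (L.e p) w := by
  have hpq := hx.1
  have h1' : Y.Adj x (Y.r (L.e p) w) := by
    have := Y.map_adj (L.e p) h1
    rwa [L.r_fix_label hx (Or.inl rfl)] at this
  have hns := L.not_same_e hw hpq hps
  rcases Y.three (L.adj hw.1) (u := L.e p) ⟨L.adj hpq.symm, L.adj hps.symm⟩ (L.orb_common hw)
    (L.orb_common hu) hns with e | e | e
  · exact absurd e (L.not_same_e hu hpq hps)
  · exact Or.inl (L.one_in_class hps hx hw hu e h1 h2).symm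
  · exact Or.inr (L.one_in_class hps hx (L.orb_r hw p) hu e h1' h2).symm

/-- Automorphisms respecting the reflections. -/
def IsAuto (g : P → P) : Prop :=
  Function.Bijective g ∧ (∀ {u v}, Y.Adj (g u) (g v) ↔ Y.Adj u v) ∧
    ∀ t u, g (Y.r t u) = Y.r (g t) (g u)

lemma isAuto_r (t : P) : IsAuto (Y := Y) (Y.r t) :=
  ⟨Function.Involutive.bijective (Y.invol t), Y.r_adj_iff t, Y.r_r t⟩

lemma IsAuto.comp {g h : P → P} (hg : IsAuto (Y := Y) g) (hh : IsAuto (Y := Y) h) :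
    IsAuto (Y := Y) (g ∘ h) :=
  ⟨hg.1.comp hh.1, fun {u v} => hg.2.1.trans hh.2.1, fun t u => by
    simp only [Function.comp_apply, hh.2.2, hg.2.2]⟩

/-- A double transposition of the labels. -/
lemma double_swap {a b k l m n : Fin 6} (hab : a ≠ b) (hq : Quad a b k l m n) :
    ∃ g : P → P, IsAuto (Y := Y) g ∧ g (L.e a) = L.e a ∧ g (L.e b) = L.e b ∧
      g (L.e k) = L.e l ∧ g (L.e l) = L.e k ∧ g (L.e m) = L.e n ∧ g (L.e n) = L.e m := by
  obtain ⟨h1, h2, h3, h4, h5, h6, h7, h8, h9, h10, h11, h12, h13, h14⟩ := id hq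
  obtain ⟨u, hu⟩ := L.exists_orb_pair hab
  have hcu := L.orb_common hu
  have hA := L.adj hab
  have hck : Y.Adj (L.e a) (L.e k) ∧ Y.Adj (L.e b) (L.e k) := ⟨L.adj h1.symm, L.adj h2.symm⟩
  have hcl : Y.Adj (L.e a) (L.e l) ∧ Y.Adj (L.e b) (L.e l) := ⟨L.adj h3.symm, L.adj h4.symm⟩
  have hul : ¬ Y.Same u (L.e l) := fun e => L.not_same_e hu h3 h4 (e.symm' Y)
  obtain ⟨hb1, hb2⟩ := Y.not_same hA hul
  have hb := Y.r_common hA hcu hcl
  set b0 := Y.r u (L.e l) with hb0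
  have hkb : ¬ Y.Same (L.e k) b0 := fun e =>
    hb2 (Y.same_trans hA hcl hck hb (Or.inr (L.adj h9.symm)) e)
  have hk' := Y.not_same hA hkb
  set u' := Y.r (L.e k) b0 with hu'
  have hu'c := Y.r_common hA hck hb
  have huu : Y.Adj u u' := by
    rcases Y.three hA hck hb hcu hkb with e | e | e
    · exact absurd e (L.not_same_e hu h1 h2)
    · exact absurd (e.symm' Y) hb1
    · rcases e.symm' Y with e | e
      · exfalso
        have e1 : Y.r (L.e k) u = b0 := by rw [e]; exact Y.invol _ _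
        have hus := L.not_same_e hu h1 h2
        rw [Y.swap (fun e => hus (Or.inl e)) (fun e => hus (Or.inr e))] at e1
        exact h9 (L.inj (Y.r_inj u (e1.trans hb0)))
      · exact e
  have hgk : Y.r u (Y.r u' (L.e k)) = L.e l := by
    have e1 : Y.r u' (L.e k) = Y.r (L.e k) u' :=
      Y.swap (fun e => hk'.1 (Or.inl e.symm)) (fun e => hk'.1 (Or.inr (Y.symm e)))
    rw [e1, hu', Y.invol, hb0, Y.invol]
  refine ⟨Y.r u ∘ Y.r u', (isAuto_r u).comp (isAuto_r u'), ?_, ?_, hgk, ?_, ?_⟩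
  · show Y.r u (Y.r u' _) = _
    rw [Y.fix_adj (Y.symm hu'c.1), Y.fix_adj hu.2.2.1]
  · show Y.r u (Y.r u' _) = _
    rw [Y.fix_adj (Y.symm hu'c.2), Y.fix_adj hu.2.2.2]
  · show Y.r u (Y.r u' _) = _
    rw [← hgk, Y.r_comm huu, Y.invol, Y.invol]
  have hgl : Y.r u (Y.r u' (L.e l)) = L.e k := by
    rw [← hgk, Y.r_comm huu, Y.invol, Y.invol]
  have key : ∀ {i j : Fin 6}, i ≠ a → i ≠ b → i ≠ k → i ≠ l →
      (∀ o : Fin 6, o = a ∨ o = b ∨ o = k ∨ o = l ∨ o = i ∨ o = j) →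
      Y.r u (Y.r u' (L.e i)) = L.e j := by
    intro i j ia ib ik il hall
    have hci : Y.Adj (L.e a) (L.e i) ∧ Y.Adj (L.e b) (L.e i) := ⟨L.adj ia.symm, L.adj ib.symm⟩
    have hui : ¬ Y.Same u' (L.e i) := fun e =>
      L.not_same_e hu ia ib ((Y.same_trans hA hcu hu'c hci (Or.inr huu) e).symm' Y)
    have hd := Y.double hA hu'c hcu hci (Y.symm huu) hui
    have hgi : Y.Adj (L.e k) (Y.r u (Y.r u' (L.e i))) := by
      rw [← hgl, Y.r_adj_iff, Y.r_adj_iff]
      exact L.adj (fun e => il e.symm)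
    have hmem : Y.r u (Y.r u' (L.e i)) ∈ L.Φ := by
      rw [Y.frame_eq L.frame (Finset.mem_image_of_mem L.e (Finset.mem_univ a))
        (Finset.mem_image_of_mem L.e (Finset.mem_univ b))
        (Finset.mem_image_of_mem L.e (Finset.mem_univ k)) (fun e => hab (L.inj e))
        (fun e => h1 (L.inj e).symm) (fun e => h2 (L.inj e).symm), Y.fr_mem]
      exact Or.inr (Or.inr (Or.inr ⟨(Y.r_common hA hcu (Y.r_common hA hu'c hci)).1,
        (Y.r_common hA hcu (Y.r_common hA hu'c hci)).2, hgi⟩))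
    obtain ⟨o, -, ho⟩ := Finset.mem_image.1 hmem
    rw [← ho] at hd hgi ⊢
    have hoa : L.e o ≠ L.e a := by
      intro e
      have h0 : Y.r u (Y.r u' (L.e a)) = L.e a := by
        rw [Y.fix_adj (Y.symm hu'c.1), Y.fix_adj hu.2.2.1]
      rw [ho, ← h0] at e
      exact ia (L.inj (Y.r_inj u' (Y.r_inj u e)))
    have hob : L.e o ≠ L.e b := by
      intro e
      have h0 : Y.r u (Y.r u' (L.e b)) = L.e b := by
        rw [Y.fix_adj (Y.symm hu'c.2), Y.fix_adj hu.2.2.2]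
      rw [ho, ← h0] at e
      exact ib (L.inj (Y.r_inj u' (Y.r_inj u e)))
    have hol : L.e o ≠ L.e l := by
      intro e
      rw [ho, ← hgk] at e
      exact ik (L.inj (Y.r_inj u' (Y.r_inj u e)))
    rcases hall o with e | e | e | e | e | e
    · exact absurd (by rw [e]) hoa
    · exact absurd (by rw [e]) hob
    · rw [e] at hgi; exact absurd hgi Y.irrefl
    · exact absurd (by rw [e]) hol
    · rw [e] at hd; exact absurd hd Y.irrefl
    · rw [e]
  refine ⟨key h5 h6 h10.symm h12.symm fun o => quad_cases hab hq, key h7 h8 h11.symm h13.symm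
    fun o => ?_⟩
  rcases quad_cases hab hq (i := o) with e | e | e | e | e | e
  exacts [Or.inl e, Or.inr (Or.inl e), Or.inr (Or.inr (Or.inl e)),
    Or.inr (Or.inr (Or.inr (Or.inl e))), Or.inr (Or.inr (Or.inr (Or.inr (Or.inr e)))),
    Or.inr (Or.inr (Or.inr (Or.inr (Or.inl e))))]

lemma R_auto_comm (U : Finset (Fin 6)) (k : Fin 6) (w : P) :
    L.R U (Y.r (L.e k) w) = Y.r (L.e k) (L.R U w) := by
  rw [L.r_R, ← L.R_single k w, L.R_R, symmDiff_comm]

/-- Any two coherent corners differ by a sign change. -/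
lemma corner {p q s : Fin 6} (hpq : p ≠ q) (hps : p ≠ s) (hqs : q ≠ s) {x y w x' y' w' : P}
    (hx : L.Orb p q x) (hy : L.Orb p s y) (hw : L.Orb q s w) (hx' : L.Orb p q x')
    (hy' : L.Orb p s y') (hw' : L.Orb q s w') (h1 : Y.Adj x y) (h2 : Y.Adj x w)
    (h1' : Y.Adj x' y') (h2' : Y.Adj x' w') :
    ∃ U, L.R U x = x' ∧ L.R U y = y' ∧ L.R U w = w' := by
  obtain ⟨U0, hU0⟩ := L.orb_trans hx hx'
  have hy0 : Y.Adj x' (L.R U0 y) := by rw [hU0, L.R_adj]; exact h1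
  obtain ⟨U1, hU1x, hU1y⟩ : ∃ U, L.R U x = x' ∧ L.R U y = y' := by
    rcases L.nbrs hqs (L.orb_symm hx') hy' (L.orb_R hy U0) h1' hy0 with e | e
    · exact ⟨U0, hU0.symm, e⟩
    · refine ⟨{q} ∆ U0, ?_, ?_⟩
      · rw [← L.r_R, ← hU0, L.r_fix_label hx' (Or.inr rfl)]
      · rw [← L.r_R, e, Y.invol]
  have hw0 : Y.Adj x' (L.R U1 w) := by rw [← hU1x, L.R_adj]; exact h2
  rcases L.nbrs hps hx' hw' (L.orb_R hw U1) h2' hw0 with e | e
  · exact ⟨U1, hU1x, hU1y, e⟩
  · refine ⟨{p} ∆ U1, ?_, ?_, ?_⟩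
    · rw [← L.r_R, hU1x, L.r_fix_label hx' (Or.inl rfl)]
    · rw [← L.r_R, hU1y, L.r_fix_label hy' (Or.inl rfl)]
    · rw [← L.r_R, e, Y.invol]

/-- Coherence of triangles. -/
lemma tri {p q s : Fin 6} {x y w : P} (hx : L.Orb p q x) (hy : L.Orb p s y) (hw : L.Orb q s w)
    (h1 : Y.Adj x y) (h2 : Y.Adj x w) : Y.Adj y w := by
  have hpq := hx.1
  have hps := hy.1
  have hqs := hw.1
  by_contra hn
  have hne : y ≠ w := fun e => by
    rcases (L.adj_e hy).1 (e ▸ hw.2.2.1) with e' | e'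
    exacts [hpq e'.symm, hqs e']
  obtain ⟨u, hu, hsu, hyu⟩ := L.exists_in_class hpq hy (L.orb_symm hw) hne
  have huns : ∀ i, i ≠ q → i ≠ s → ¬ Y.Same (L.e i) u := fun i hi hi' =>
    L.not_same_e (L.orb_symm hu) hi hi'
  -- the exceptional label
  obtain ⟨k, hkp, hkq, hks, hyk⟩ : ∃ k, k ≠ p ∧ k ≠ q ∧ k ≠ s ∧ Y.Adj y (Y.r (L.e k) w) := by
    obtain ⟨l, m, n, hq⟩ := exists_quad hqs hpq hps
    obtain ⟨h1q, h2q, h3q, h4q, h5q, h6q, h7q, h8q, h9, h10, h11, -⟩ := id hq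
    have hfix : ∀ {v}, Y.Adj y (Y.r (L.e p) v) → Y.Adj y v := fun {v} h => by
      have := Y.map_adj (L.e p) h
      rwa [Y.invol, L.r_fix_label hy (Or.inl rfl)] at this
    rcases L.class_eq hw hq (L.orb_common (L.orb_symm hu)) hsu with e | e | e | e
    · exact absurd (e ▸ hyu) hn
    · exact ⟨l, h9.symm, h3q, h4q, hfix (e ▸ hyu)⟩
    · exact ⟨m, h10.symm, h5q, h6q, hfix (e ▸ hyu)⟩
    · exact ⟨n, h11.symm, h7q, h8q, hfix (e ▸ hyu)⟩
  -- move the exceptional label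
  obtain ⟨l, m, n, hq4⟩ := exists_quad hpq hkp hkq
  obtain ⟨l', hl'p, hl'q, hl's, hl'k, m', hm'⟩ : ∃ l', l' ≠ p ∧ l' ≠ q ∧ l' ≠ s ∧ l' ≠ k ∧
      ∃ m', m' ≠ p ∧ m' ≠ q ∧ m' ≠ s ∧ m' ≠ k ∧ m' ≠ l' := by
    clear hq4 hyk huns
    have hc : 2 ≤ (Finset.univ \ ({p, q, s, k} : Finset (Fin 6))).card := by
      rw [Finset.card_sdiff_of_subset (Finset.subset_univ _)]
      have : ({p, q, s, k} : Finset (Fin 6)).card ≤ 4 := Finset.card_le_four
      simp only [Finset.card_univ, Fintype.card_fin]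
      omega
    obtain ⟨l', hl', m', hm', hne'⟩ := Finset.one_lt_card.1 hc
    simp only [Finset.mem_sdiff, Finset.mem_univ, true_and, Finset.mem_insert, Finset.mem_singleton,
      not_or] at hl' hm'
    exact ⟨l', hl'.1, hl'.2.1, hl'.2.2.1, hl'.2.2.2, m', hm'.1, hm'.2.1, hm'.2.2.1, hm'.2.2.2,
      hne'.symm⟩
  obtain ⟨hm'p, hm'q, hm's, hm'k, hm'l⟩ := hm'
  obtain ⟨g1, hg1, -, g1s, g1k, -, g1p, g1q⟩ := L.double_swap (a := m') (b := s) hm's
    (k := k) (l := l') (m := p) (n := q)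
    ⟨hm'k.symm, hks, hm'l.symm, hl's, hm'p.symm, hps, hm'q.symm, hqs, hl'k.symm, hkp, hkq,
      hl'p, hl'q, hpq⟩
  obtain ⟨g2, hg2, g2l, g2s, -, -, g2p, g2q⟩ := L.double_swap (a := l') (b := s) hl's
    (k := k) (l := m') (m := p) (n := q)
    ⟨hl'k.symm, hks, hm'l, hm's, hl'p.symm, hps, hl'q.symm, hqs, hm'k.symm, hkp, hkq,
      hm'p, hm'q, hpq⟩
  have hg := hg2.comp hg1
  have gp : (g2 ∘ g1) (L.e p) = L.e p := by simp [g1p, g2q]
  have gq : (g2 ∘ g1) (L.e q) = L.e q := by simp [g1q, g2p]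
  have gs : (g2 ∘ g1) (L.e s) = L.e s := by simp [g1s, g2s]
  have gk : (g2 ∘ g1) (L.e k) = L.e l' := by simp [g1k, g2l]
  set g := g2 ∘ g1 with hgdef
  have horb : ∀ {a b : Fin 6} {t : P}, g (L.e a) = L.e a → g (L.e b) = L.e b → L.Orb a b t →
      L.Orb a b (g t) := by
    intro a b t ha hb ht
    refine ⟨ht.1, ?_, by rw [← ha, hg.2.1]; exact ht.2.2.1, by rw [← hb, hg.2.1]; exact ht.2.2.2⟩
    intro i e
    have hfr : L.Φ.image g = L.Φ := by
      have himg : Y.IsFrame (L.Φ.image g) := by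
        refine ⟨by rw [Finset.card_image_of_injective _ hg.1.1, L.frame.1], ?_⟩
        intro a ha b hb hab
        obtain ⟨a', ha', rfl⟩ := Finset.mem_image.1 ha
        obtain ⟨b', hb', rfl⟩ := Finset.mem_image.1 hb
        exact hg.2.1.2 (L.frame.2 a' ha' b' hb' fun e => hab (e ▸ rfl))
      have hmem : ∀ i, L.e i ∈ L.Φ := fun i => Finset.mem_image_of_mem _ (Finset.mem_univ i)
      rw [Y.frame_eq himg (a := L.e p) (b := L.e q) (c := L.e s)
        (gp ▸ Finset.mem_image_of_mem g (hmem p)) (gq ▸ Finset.mem_image_of_mem g (hmem q))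
        (gs ▸ Finset.mem_image_of_mem g (hmem s)) (fun e => hpq (L.inj e)) (fun e => hps (L.inj e))
        (fun e => hqs (L.inj e)), ← Y.frame_eq L.frame (hmem p) (hmem q) (hmem s)
        (fun e => hpq (L.inj e)) (fun e => hps (L.inj e)) (fun e => hqs (L.inj e))]
    have hm : g t ∈ L.Φ.image g :=
      hfr.symm ▸ (e ▸ Finset.mem_image_of_mem L.e (Finset.mem_univ i) : g t ∈ L.Φ)
    obtain ⟨t', ht', e'⟩ := Finset.mem_image.1 hm
    exact L.orb_notMem ht (hg.1.1 e' ▸ ht')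
  have hx' := horb gp gq hx
  have hy' := horb gp gs hy
  have hw' := horb gq gs hw
  obtain ⟨U, -, hUy, hUw⟩ := L.corner hpq hps hqs hx hy hw hx' hy' hw' h1 h2 (hg.2.1.2 h1)
    (hg.2.1.2 h2)
  have ha : Y.Adj (g y) (Y.r (L.e k) (g w)) := by
    rw [← hUy, ← hUw, ← L.R_auto_comm, L.R_adj]
    exact hyk
  have hb : Y.Adj (g y) (Y.r (L.e l') (g w)) := by
    rw [← gk, ← hg.2.2, hg.2.1]
    exact hyk
  have hp' := L.r_pair hw' (k := k) (l := l') hl'k.symm hkq hks hl'q hl's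
  have hsame : Y.Same (Y.r (L.e k) (g w)) (Y.r (L.e l') (g w)) := by
    refine Or.inr ?_
    have := Y.map_adj (L.e k) hp'
    rwa [Y.invol] at this
  exact L.r_ne hw' hl'k.symm hkq hks hl'q hl's
    (L.one_in_class hpq hy' (L.orb_symm (L.orb_r hw' k)) (L.orb_symm (L.orb_r hw' l')) hsame ha hb)

/-- Five points around one label. -/
lemma star {a b b' : Fin 6} (hbb : b ≠ b') {x y : P} (hx : L.Orb a b x) (hy : L.Orb a b' y)
    (hxy : Y.Adj x y) :
    ∃ f : Fin 6 → P, f b = x ∧ f b' = y ∧ (∀ c, c ≠ a → L.Orb a c (f c)) ∧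
      (∀ c d, c ≠ a → d ≠ a → c ≠ d → Y.Adj (f c) (f d)) ∧
      ∀ c z, c ≠ b → c ≠ b' → L.Orb a c z → Y.Adj z x → Y.Adj z y → z = f c := by
  set F := Y.fr (L.e a) x y with hF
  have hFr : Y.IsFrame F := Y.fr_frame (L.orb_common hx).1 (L.orb_common hy).1 hxy
  have hlab : ∀ z ∈ F, z ≠ L.e a → ∃ c, L.Orb a c z := by
    intro z hz hza
    rcases L.exists_orb z with ⟨i, rfl⟩ | ⟨c, d, -, ho⟩
    · exfalso
      rcases (Y.fr_mem).1 hz with e | e | e | e
      · exact hza e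
      · exact hx.2.1 i e.symm
      · exact hy.2.1 i e.symm
      · rcases (L.adj_e hx).1 e.2.1 with rfl | rfl
        · exact hza rfl
        · rcases (L.adj_e hy).1 e.2.2 with rfl | rfl
          exacts [hza rfl, hbb rfl]
    · have hadj : Y.Adj z (L.e a) := hFr.2 z hz _ ((Y.fr_mem).2 (Or.inl rfl)) hza
      rcases (L.adj_e ho).1 hadj with rfl | rfl
      · exact ⟨d, ho⟩
      · exact ⟨c, L.orb_symm ho⟩
  have huniq : ∀ z ∈ F, ∀ z' ∈ F, ∀ c, L.Orb a c z → L.Orb a c z' → z = z' := by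
    intro z hz z' hz' c ho ho'
    by_contra hne
    have hadj := hFr.2 z hz z' hz' hne
    have he := Y.frame_eq hFr (a := L.e a) (b := z) (c := z') ((Y.fr_mem).2 (Or.inl rfl)) hz hz'
      (fun e => ho.2.1 a e.symm) (fun e => ho'.2.1 a e.symm) hne
    have hm : L.e c ∈ F := he ▸ (Y.fr_mem).2 (Or.inr (Or.inr (Or.inr
      ⟨L.adj ho.1, ho.2.2.2, ho'.2.2.2⟩)))
    obtain ⟨c', hc'⟩ := hlab _ hm fun e => ho.1 (L.inj e).symm
    exact hc'.2.1 c rfl
  have hsurj : ∀ c, c ≠ a → ∃ z ∈ F, L.Orb a c z := by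
    intro c hc
    by_contra hn
    push Not at hn
    choose lab hlab' using fun z : {z // z ∈ F.erase (L.e a)} =>
      hlab z.1 (Finset.mem_of_mem_erase z.2) (Finset.ne_of_mem_erase z.2)
    have hle := Finset.card_le_card_of_injOn (s := (F.erase (L.e a)).attach) lab
      (t := (Finset.univ.erase a).erase c) (fun z _ => by
        refine Finset.mem_erase.2 ⟨fun e => hn z.1 (Finset.mem_of_mem_erase z.2) (e ▸ hlab' z),
          Finset.mem_erase.2 ⟨(hlab' z).1.symm, Finset.mem_univ _⟩⟩)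
      (fun z _ z' _ e => Subtype.ext (huniq _ (Finset.mem_of_mem_erase z.2) _
        (Finset.mem_of_mem_erase z'.2) _ (hlab' z) (e ▸ hlab' z')))
    rw [Finset.card_attach, Finset.card_erase_of_mem ((Y.fr_mem).2 (Or.inl rfl)), hFr.1,
      Finset.card_erase_of_mem (Finset.mem_erase.2 ⟨hc, Finset.mem_univ c⟩),
      Finset.card_erase_of_mem (Finset.mem_univ a), Finset.card_univ, Fintype.card_fin] at hle
    omega
  choose g hgF hg using hsurj
  have hxF : x ∈ F := (Y.fr_mem).2 (Or.inr (Or.inl rfl))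
  have hyF : y ∈ F := (Y.fr_mem).2 (Or.inr (Or.inr (Or.inl rfl)))
  refine ⟨fun c => if h : c = a then L.e a else g c h, ?_, ?_, fun c hc => ?_, ?_, ?_⟩
  · dsimp only; rw [dif_neg hx.1.symm]; exact huniq _ (hgF _ _) _ hxF b (hg _ _) hx
  · dsimp only; rw [dif_neg hy.1.symm]; exact huniq _ (hgF _ _) _ hyF b' (hg _ _) hy
  · dsimp only; rw [dif_neg hc]; exact hg c hc
  · intro c d hc hd hcd
    dsimp only
    rw [dif_neg hc, dif_neg hd]
    refine hFr.2 _ (hgF _ _) _ (hgF _ _) fun e => ?_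
    rcases (L.adj_e (hg d hd)).1 (e ▸ (hg c hc).2.2.2) with e' | e'
    exacts [hc e', hcd e']
  · intro c z hcb hcb' ho hzx hzy
    dsimp only
    rw [dif_neg ho.1.symm]
    exact huniq z ((Y.fr_mem).2 (Or.inr (Or.inr (Or.inr
      ⟨Y.symm ho.2.2.1, Y.symm hzx, Y.symm hzy⟩)))) _ (hgF _ _) c ho (hg _ _)

/-- A coherent family. -/
structure Bases where
  B : Fin 6 → Fin 6 → P
  symm : ∀ a b, a ≠ b → B a b = B b a
  orb : ∀ a b, a ≠ b → L.Orb a b (B a b)
  adj : ∀ a b c, a ≠ b → a ≠ c → b ≠ c → Y.Adj (B a b) (B a c)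

theorem exists_bases : Nonempty L.Bases := by
  obtain ⟨x, hx⟩ := L.exists_orb_pair (a := 4) (b := 5) (by decide)
  obtain ⟨v, hv⟩ := L.exists_orb_pair (a := 5) (b := 3) (by decide)
  have hxv : x ≠ v := fun e => by
    rcases (L.adj_e hx).1 (e ▸ hv.2.2.2) with e' | e' <;> exact absurd e' (by decide)
  obtain ⟨y, hy, -, hxy⟩ := L.exists_in_class (p := 4) (q := 5) (s := 3) (by decide) hx hv hxv
  obtain ⟨v', hv'⟩ := L.exists_orb_pair (a := 4) (b := 3) (by decide)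
  have hxv' : x ≠ v' := fun e => by
    rcases (L.adj_e hx).1 (e ▸ hv'.2.2.2) with e' | e' <;> exact absurd e' (by decide)
  obtain ⟨w, hw, -, hxw⟩ := L.exists_in_class (p := 5) (q := 4) (s := 3) (by decide) (L.orb_symm hx)
    hv' hxv'
  have hyw : Y.Adj y w := L.tri (L.orb_symm hx) hy hw hxy hxw
  obtain ⟨f5, f54, f53, o5, a5, -⟩ := L.star (a := 5) (b := 4) (b' := 3) (by decide)
    (L.orb_symm hx) hy hxy
  obtain ⟨f4, f45, f43, o4, a4, -⟩ := L.star (a := 4) (b := 5) (b' := 3) (by decide) hx hw hxw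
  obtain ⟨f3, f35, f34, o3, a3, -⟩ := L.star (a := 3) (b := 5) (b' := 4) (by decide)
    (L.orb_symm hy) (L.orb_symm hw) hyw
  have hcase5 : ∀ a : Fin 6, ¬ a < 3 → ¬ a = 3 → ¬ a = 4 → a = 5 := by decide
  have hne : ∀ k : Fin 6, k < 3 → k ≠ 3 ∧ k ≠ 4 ∧ k ≠ 5 := by decide
  have h45 : ∀ k : Fin 6, k < 3 → Y.Adj (f4 k) (f5 k) := by
    intro k hk
    obtain ⟨-, k4, k5⟩ := hne k hk
    exact L.tri hx (o4 k k4) (o5 k k5) (f45 ▸ a4 5 k (by decide) k4 k5.symm)
      (f54 ▸ a5 4 k (by decide) k5 k4.symm)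
  choose fk fk4 fk5 ok ak uk using fun (k : Fin 6) (hk : k < 3) =>
    L.star (a := k) (b := 4) (b' := 5) (by decide) (L.orb_symm (o4 k (hne k hk).2.1))
      (L.orb_symm (o5 k (hne k hk).2.2)) (h45 k hk)
  have e3 : ∀ k (hk : k < 3), fk k hk 3 = f3 k := by
    intro k hk
    obtain ⟨k3, k4, k5⟩ := hne k hk
    refine (uk k hk 3 _ (by decide) (by decide) (L.orb_symm (o3 k k3)) ?_ ?_).symm
    · exact L.tri (L.orb_symm hw) (o3 k k3) (o4 k k4) (f34 ▸ a3 4 k (by decide) k3 k4.symm)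
        (f43 ▸ a4 3 k (by decide) k4 k3.symm)
    · exact L.tri (L.orb_symm hy) (o3 k k3) (o5 k k5) (f35 ▸ a3 5 k (by decide) k3 k5.symm)
        (f53 ▸ a5 3 k (by decide) k5 k3.symm)
  have ekl : ∀ k (hk : k < 3) l (hl : l < 3), k ≠ l → fk k hk l = fk l hl k := by
    intro k hk l hl hkl
    obtain ⟨k3, k4, k5⟩ := hne k hk
    obtain ⟨l3, l4, l5⟩ := hne l hl
    refine uk l hl k _ k4 k5 (L.orb_symm (ok k hk l hkl.symm)) ?_ ?_
    · exact (Y.symm (L.tri (o4 k k4) (o4 l l4) (ok k hk l hkl.symm) (a4 k l k4 l4 hkl)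
        (fk4 k hk ▸ ak k hk 4 l k4.symm hkl.symm l4.symm)))
    · exact (Y.symm (L.tri (o5 k k5) (o5 l l5) (ok k hk l hkl.symm) (a5 k l k5 l5 hkl)
        (fk5 k hk ▸ ak k hk 5 l k5.symm hkl.symm l5.symm)))
  refine ⟨⟨fun a => if h : a < 3 then fk a h else if a = 3 then f3 else if a = 4 then f4 else f5,
    ?_, ?_, ?_⟩⟩
  · have hcase : ∀ a : Fin 6, a < 3 ∨ a = 3 ∨ a = 4 ∨ a = 5 := by decide
    intro a b hab
    rcases hcase a with ha | rfl | rfl | rfl <;> rcases hcase b with hb | rfl | rfl | rfl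
    all_goals simp only [dif_pos, dif_neg, if_pos, if_neg, show ¬ ((3 : Fin 6) < 3) by decide,
      show ¬ ((4 : Fin 6) < 3) by decide, show ¬ ((5 : Fin 6) < 3) by decide,
      show (4 : Fin 6) ≠ 3 by decide, show (5 : Fin 6) ≠ 3 by decide,
      show (5 : Fin 6) ≠ 4 by decide, *, not_false_eq_true]
    · exact ekl a ha b hb hab
    all_goals first
      | exact absurd rfl hab
      | exact e3 a ha
      | exact (e3 b hb).symm
      | exact fk4 a ha
      | exact (fk4 b hb).symm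
      | exact fk5 a ha
      | exact (fk5 b hb).symm
      | exact f34.trans f43.symm
      | exact f43.trans f34.symm
      | exact f35.trans f53.symm
      | exact f53.trans f35.symm
      | exact f45.trans f54.symm
      | exact f54.trans f45.symm
  · intro a b hab
    split_ifs with h h3 h4
    · exact ok a h b hab.symm
    · subst h3; exact o3 b hab.symm
    · subst h4; exact o4 b hab.symm
    · have : a = 5 := hcase5 a h h3 h4
      subst this; exact o5 b hab.symm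
  · intro a b c hab hac hbc
    split_ifs with h h3 h4
    · exact ak a h b c hab.symm hac.symm hbc
    · subst h3; exact a3 b c hab.symm hac.symm hbc
    · subst h4; exact a4 b c hab.symm hac.symm hbc
    · have : a = 5 := hcase5 a h h3 h4
      subst this; exact a5 b c hab.symm hac.symm hbc

end Lab

end H49.Sextet
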