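/-
The points of the system as norm-one vectors of the sum of six squares modulo three.
-/
import Cfsg.Agent.H49.Sextet.Bases

set_option autoImplicit false
set_option linter.unusedSectionVars false

namespace H49.Sextet

open scoped Classical symmDiff

variable {P : Type*} [Fintype P] {Y : Sys P}

namespace Lab

variable (L : Lab Y)

lemma card_K {a b : Fin 6} (h : a ≠ b) : (K a b).card = 4 := by
  rw [K, Finset.card_sdiff_of_subset (Finset.subset_univ _), Finset.card_pair h]; rfl

lemma K_comm (a b : Fin 6) : K a b = K b a := by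
  rw [K, K, Finset.pair_comm]

lemma R_compl {a b : Fin 6} {t : P} (h : L.Orb a b t) (U : Finset (Fin 6)) :
    L.R U t = L.R (K a b \ U) t := by
  have hf : L.R (K a b) t = t := (L.R_eq_self h _).2 (Or.inr (Finset.inter_self _))
  rw [L.R_restrict h U]
  conv_rhs => rw [show K a b \ U = (U ∩ K a b) ∆ K a b by
    ext x; simp only [Finset.mem_symmDiff, Finset.mem_sdiff, Finset.mem_inter]; tauto]
  rw [← L.R_R, hf]

lemma adj_translate {x t : P} {W : Finset (Fin 6)} (hW : L.R W x = x) (U : Finset (Fin 6)) :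
    Y.Adj x (L.R (W ∆ U) t) ↔ Y.Adj x (L.R U t) := by
  conv_lhs => rw [← hW, ← L.R_R, L.R_adj]

variable {L} (C : L.Bases)

/-- The overlap condition. -/
def Crit (J U : Finset (Fin 6)) : Prop := 3 ∣ J.card + (J ∩ U).card

lemma adj_same {a b : Fin 6} (h : a ≠ b) (U : Finset (Fin 6)) :
    Y.Adj (C.B a b) (L.R U (C.B a b)) ↔ Crit (K a b ∩ K a b) U := by
  have ho := C.orb a b h
  rw [Finset.inter_self, Crit, card_K h, L.R_restrict ho, Finset.inter_comm (K a b) U]
  set V := U ∩ K a b with hV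
  have hVK : V ⊆ K a b := Finset.inter_subset_right
  have hle : V.card ≤ 4 := card_K h ▸ Finset.card_le_card hVK
  have pair : ∀ W ⊆ K a b, W.card = 2 → Y.Adj (C.B a b) (L.R W (C.B a b)) := by
    intro W hW hc
    obtain ⟨i, j, hij, rfl⟩ := Finset.card_eq_two.1 hc
    have hi := mem_K.1 (hW (Finset.mem_insert_self i _))
    have hj := mem_K.1 (hW (Finset.mem_insert_of_mem (Finset.mem_singleton_self j)))
    rw [L.R_insert (by simp [hij]), L.R_single]
    exact L.r_pair ho hij hi.1 hi.2 hj.1 hj.2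
  have single : ∀ W ⊆ K a b, W.card = 1 → ¬ Y.Adj (C.B a b) (L.R W (C.B a b)) := by
    intro W hW hc hA
    obtain ⟨i, rfl⟩ := Finset.card_eq_one.1 hc
    have hi := mem_K.1 (hW (Finset.mem_singleton_self i))
    rw [L.R_single] at hA
    exact L.r_single ho hi.1 hi.2 (Or.inr hA)
  obtain ⟨k, hk⟩ : ∃ k, V.card = k := ⟨_, rfl⟩
  rw [hk] at hle ⊢
  interval_cases k
  · rw [Finset.card_eq_zero.1 hk, L.R_empty]
    exact iff_of_false Y.irrefl (by norm_num)
  · exact iff_of_false (single V hVK hk) (by norm_num)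
  · exact iff_of_true (pair V hVK hk) (by norm_num)
  · rw [L.R_compl ho]
    exact iff_of_false (single _ Finset.sdiff_subset
      (by rw [Finset.card_sdiff_of_subset hVK, card_K h, hk])) (by norm_num)
  · rw [Finset.eq_of_subset_of_card_le hVK (by rw [card_K h, hk]),
      (L.R_eq_self ho _).2 (Or.inr (Finset.inter_self _))]
    exact iff_of_false Y.irrefl (by norm_num)

lemma adj_meet {a b c : Fin 6} (hab : a ≠ b) (hac : a ≠ c) (hbc : b ≠ c) (U : Finset (Fin 6)) :
    Y.Adj (C.B a b) (L.R U (C.B a c)) ↔ Crit (K a b ∩ K a c) U := by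
  have ho := C.orb a b hab
  have ho' := C.orb a c hac
  set J := K a b ∩ K a c with hJ
  have hJK : J = (K a c).erase b := by
    ext x; simp only [hJ, Finset.mem_inter, mem_K, Finset.mem_erase]; tauto
  have hbK : b ∈ K a c := mem_K.2 ⟨hab.symm, hbc⟩
  have hJc : J.card = 3 := by rw [hJK, Finset.card_erase_of_mem hbK, card_K hac]
  have key : Y.Adj (C.B a b) (L.R U (C.B a c)) ↔ J ∩ U = ∅ ∨ J ∩ U = J := by
    have hfix : L.R {b} (C.B a b) = C.B a b := L.R_outside ho (by simp)
    constructor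
    · intro hA
      have hsets : ∀ V, V ∩ K a c = ∅ ∨ V ∩ K a c = K a c → J ∩ V = ∅ ∨ J ∩ V = J := by
        intro V hV
        rcases hV with e | e
        · exact Or.inl (Finset.subset_empty.1 (e ▸ fun x hx => by
            rw [hJK, Finset.mem_inter, Finset.mem_erase] at hx
            exact Finset.mem_inter.2 ⟨hx.2, hx.1.2⟩))
        · exact Or.inr (Finset.inter_eq_left.2 fun x hx => by
            rw [hJK, Finset.mem_erase] at hx
            exact (Finset.mem_inter.1 (e.symm ▸ hx.2)).1)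
      rcases L.nbrs hbc (L.orb_symm ho) ho' (L.orb_R ho' U) (C.adj a b c hab hac hbc) hA with e | e
      · exact hsets U ((L.R_eq_self ho' U).1 e)
      · have e' : L.R ({b} ∆ U) (C.B a c) = C.B a c := by
          rw [← L.r_R, e, Y.invol]
        have hbJ : b ∉ J := by rw [hJK]; simp
        have hJeq : J ∩ ({b} ∆ U) = J ∩ U := by
          ext x
          simp only [Finset.mem_inter, Finset.mem_symmDiff, Finset.mem_singleton]
          constructor
          · rintro ⟨hx, h1 | h1⟩
            exacts [absurd (h1.1 ▸ hx) hbJ, ⟨hx, h1.1⟩]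
          · rintro ⟨hx, h1⟩
            exact ⟨hx, Or.inr ⟨h1, fun e => hbJ (e ▸ hx)⟩⟩
        rw [← hJeq]
        exact hsets _ ((L.R_eq_self ho' _).1 e')
    · intro hJU
      have hbU : L.R U (C.B a c) = C.B a c ∨ L.R ({b} ∆ U) (C.B a c) = C.B a c := by
        rw [L.R_eq_self ho', L.R_eq_self ho']
        rcases hJU with e | e <;> by_cases hb : b ∈ U
        · right; left
          apply Finset.eq_empty_of_forall_notMem
          intro x hx
          simp only [Finset.mem_inter, Finset.mem_symmDiff, Finset.mem_singleton] at hx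
          rcases hx.1 with h1 | h1
          · exact h1.2 (h1.1 ▸ hb)
          · exact Finset.eq_empty_iff_forall_notMem.1 e x
              (Finset.mem_inter.2 ⟨hJK ▸ Finset.mem_erase.2 ⟨h1.2, hx.2⟩, h1.1⟩)
        · left; left
          apply Finset.eq_empty_of_forall_notMem
          intro x hx
          rw [Finset.mem_inter] at hx
          exact Finset.eq_empty_iff_forall_notMem.1 e x (Finset.mem_inter.2
            ⟨hJK ▸ Finset.mem_erase.2 ⟨fun h => hb (h ▸ hx.1), hx.2⟩, hx.1⟩)
        · left; right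
          refine Finset.inter_eq_right.2 fun x hx => ?_
          by_cases hxb : x = b
          · exact hxb ▸ hb
          · exact Finset.inter_eq_left.1 e (hJK ▸ Finset.mem_erase.2 ⟨hxb, hx⟩)
        · right; right
          refine Finset.inter_eq_right.2 fun x hx => Finset.mem_symmDiff.2 ?_
          by_cases hxb : x = b
          · exact Or.inl ⟨Finset.mem_singleton.2 hxb, hxb ▸ hb⟩
          · exact Or.inr ⟨Finset.inter_eq_left.1 e (hJK ▸ Finset.mem_erase.2 ⟨hxb, hx⟩),
              fun h => hxb (Finset.mem_singleton.1 h)⟩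
      rcases hbU with e | e
      · rw [e]; exact C.adj a b c hab hac hbc
      · rw [← L.adj_translate hfix U, e]; exact C.adj a b c hab hac hbc
  rw [key, Crit, hJc]
  have hle : (J ∩ U).card ≤ 3 := hJc ▸ Finset.card_le_card Finset.inter_subset_left
  constructor
  · rintro (e | e) <;> simp [e, hJc]
  · intro h
    rcases (show (J ∩ U).card = 0 ∨ (J ∩ U).card = 3 by omega) with e | e
    · exact Or.inl (Finset.card_eq_zero.1 e)
    · exact Or.inr (Finset.eq_of_subset_of_card_le Finset.inter_subset_left (by omega))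

lemma not_adj_base {a b c d : Fin 6} (hab : a ≠ b) (hcd : c ≠ d) (hac : a ≠ c) (had : a ≠ d)
    (hbc : b ≠ c) (hbd : b ≠ d) : ¬ Y.Adj (C.B a b) (C.B c d) := by
  intro hA
  have o1 := C.orb a b hab
  have o2 := C.orb a c hac
  have o3 := C.orb a d had
  have o := C.orb c d hcd
  set F := Y.fr (L.e a) (C.B a b) (C.B a c) with hF
  have hFr : Y.IsFrame F :=
    Y.fr_frame (L.orb_common o1).1 (L.orb_common o2).1 (C.adj a b c hab hac hbc)
  have hm : C.B c d ∉ F := fun hm => by
    have h1 : Y.Adj (C.B c d) (L.e a) := hFr.2 _ hm _ ((Y.fr_mem).2 (Or.inl rfl)) (o.2.1 a)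
    rcases (L.adj_e o).1 h1 with e | e
    exacts [hac e, had e]
  have hAc : Y.Adj (C.B c d) (C.B a c) := by
    have := C.adj c a d hac.symm hcd had
    rw [C.symm c a hac.symm] at this
    exact Y.symm this
  have hAd : Y.Adj (C.B c d) (C.B a d) := by
    have := C.adj d a c had.symm hcd.symm hac
    rw [C.symm d a had.symm, C.symm d c hcd.symm] at this
    exact Y.symm this
  have h3 : ({C.B a b, C.B a c, C.B a d} : Finset P) ⊆ F.filter fun y => Y.Adj (C.B c d) y := by
    intro y hy
    simp only [Finset.mem_insert, Finset.mem_singleton] at hy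
    rcases hy with rfl | rfl | rfl
    · exact Finset.mem_filter.2 ⟨(Y.fr_mem).2 (Or.inr (Or.inl rfl)), Y.symm hA⟩
    · exact Finset.mem_filter.2 ⟨(Y.fr_mem).2 (Or.inr (Or.inr (Or.inl rfl))), hAc⟩
    · exact Finset.mem_filter.2 ⟨(Y.fr_mem).2 (Or.inr (Or.inr (Or.inr
        ⟨(L.orb_common o3).1, C.adj a b d hab had hbd, C.adj a c d hac had hcd⟩))), hAd⟩
  have := Finset.card_le_card h3
  rw [Y.two _ _ hFr.1 hFr.2 hm] at this
  simp [Y.ne_of_adj (C.adj a b c hab hac hbc), Y.ne_of_adj (C.adj a b d hab had hbd),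
    Y.ne_of_adj (C.adj a c d hac had hcd)] at this

lemma adj_far {a b c d : Fin 6} (hab : a ≠ b) (hcd : c ≠ d) (hac : a ≠ c) (had : a ≠ d)
    (hbc : b ≠ c) (hbd : b ≠ d) (U : Finset (Fin 6)) :
    Y.Adj (C.B a b) (L.R U (C.B c d)) ↔ Crit (K a b ∩ K c d) U := by
  have ho := C.orb a b hab
  have ho' := C.orb c d hcd
  obtain ⟨l, m, n, hq⟩ := exists_quad hcd hac had
  obtain ⟨e, f, hef, hJe⟩ : ∃ e f, e ≠ f ∧ K a b ∩ K c d = {e, f} := by
    refine Finset.card_eq_two.1 ?_
    have : K a b ∩ K c d = Finset.univ \ ({a, b, c, d} : Finset (Fin 6)) := by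
      ext x; simp [K]; tauto
    rw [this, Finset.card_sdiff_of_subset (Finset.subset_univ _)]
    simp [hab, hac, had, hbc, hbd, hcd]
  have he : (e ≠ a ∧ e ≠ b) ∧ e ≠ c ∧ e ≠ d := by
    have : e ∈ K a b ∩ K c d := hJe ▸ Finset.mem_insert_self e _
    simpa [mem_K] using this
  have hf : (f ≠ a ∧ f ≠ b) ∧ f ≠ c ∧ f ≠ d := by
    have : f ∈ K a b ∩ K c d := hJe ▸ Finset.mem_insert_of_mem (Finset.mem_singleton_self f)
    simpa [mem_K] using this
  have hq : Quad c d a b e f :=
    ⟨hac, had, hbc, hbd, he.2.1, he.2.2, hf.2.1, hf.2.2, hab, he.1.1.symm, hf.1.1.symm, he.1.2.symm,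
      hf.1.2.symm, hef⟩
  set w := C.B c d with hw
  set x := C.B a b with hx
  have ha' : ∀ y, Y.Adj x (Y.r (L.e a) y) ↔ Y.Adj x y := fun y => by
    conv_lhs => rw [← L.r_fix_label ho (Or.inl rfl) (i := a), Y.r_adj_iff]
  have hb' : ∀ y, Y.Adj x (Y.r (L.e b) y) ↔ Y.Adj x y := fun y => by
    conv_lhs => rw [← L.r_fix_label ho (Or.inr rfl) (i := b), Y.r_adj_iff]
  have n0 : ¬ Y.Adj x w := not_adj_base C hab hcd hac had hbc hbd
  have nab : ¬ Y.Adj x (Y.r (L.e a) (Y.r (L.e b) w)) := by rw [ha', hb']; exact n0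
  -- the class frame
  have hF := L.class_frame ho'
  have hxF : x ∉ Y.fr (L.e c) (L.e d) w := by
    intro hm
    rcases (Y.fr_mem).1 hm with h | h | h | h
    · exact ho.2.1 c h
    · exact ho.2.1 d h
    · rcases (L.adj_e ho').1 (h ▸ ho.2.2.1) with e' | e'
      exacts [hac e', had e']
    · rcases (L.adj_e ho).1 (Y.symm h.1) with e' | e'
      exacts [hac e'.symm, hbc e'.symm]
  have two2 : Y.Adj x (Y.r (L.e a) (Y.r (L.e e) w)) ∧ Y.Adj x (Y.r (L.e a) (Y.r (L.e f) w)) := by
    have hsub : (Y.fr (L.e c) (L.e d) w).filter (fun y => Y.Adj x y) ⊆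
        {Y.r (L.e a) (Y.r (L.e e) w), Y.r (L.e a) (Y.r (L.e f) w)} := by
      intro y hy
      obtain ⟨hyF, hxy⟩ := Finset.mem_filter.1 hy
      rcases (Y.fr_mem).1 hyF with h | h | h | h
      · rcases (L.adj_e ho).1 (h ▸ hxy) with e' | e'
        exacts [absurd e'.symm hac, absurd e'.symm hbc]
      · rcases (L.adj_e ho).1 (h ▸ hxy) with e' | e'
        exacts [absurd e'.symm had, absurd e'.symm hbd]
      · exact absurd (h ▸ hxy) n0
      · rcases L.class_eq ho' hq ⟨h.1, h.2.1⟩ (Or.inr h.2.2) with h' | h' | h' | h'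
        · exact absurd (h' ▸ hxy) n0
        · exact absurd (h' ▸ hxy) nab
        · rw [h']; exact Finset.mem_insert_self _ _
        · rw [h']; exact Finset.mem_insert_of_mem (Finset.mem_singleton_self _)
    have heq := Finset.eq_of_subset_of_card_le hsub
      (by rw [Y.two _ x hF.1 hF.2 hxF]; exact Finset.card_le_two)
    constructor
    · exact (Finset.mem_filter.1 (heq.symm ▸ Finset.mem_insert_self _ _)).2
    · exact (Finset.mem_filter.1
        (heq.symm ▸ Finset.mem_insert_of_mem (Finset.mem_singleton_self _))).2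
  rw [ha', ha'] at two2
  -- only the overlap matters
  have hrest : Y.Adj x (L.R U w) ↔ Y.Adj x (L.R ({e, f} ∩ U) w) := by
    have e1 : U = (U ∩ {a, b}) ∆ ((({e, f} : Finset (Fin 6)) ∩ U) ∆ (U ∩ {c, d})) := by
      ext i
      rcases quad_cases hcd hq (i := i) with h | h | h | h | h | h <;> subst h <;>
        simp [Finset.mem_symmDiff, hab, hac, had, hbc, hbd, hcd, hef, he.1.1, he.1.2, he.2.1, he.2.2,
          hf.1.1, hf.1.2, hf.2.1, hf.2.2, hab.symm, hac.symm, had.symm, hbc.symm, hbd.symm, hcd.symm,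
          hef.symm, he.1.1.symm, he.1.2.symm, he.2.1.symm, he.2.2.symm, hf.1.1.symm, hf.1.2.symm,
          hf.2.1.symm, hf.2.2.symm]
    conv_lhs => rw [e1]
    have h1 : L.R (U ∩ {a, b}) x = x := L.R_outside ho (by intro i hi; simpa using (Finset.mem_inter.1 hi).2)
    have h2 : L.R (U ∩ {c, d}) w = w :=
      L.R_outside ho' (by intro i hi; simpa using (Finset.mem_inter.1 hi).2)
    rw [L.adj_translate h1, ← L.R_R, h2]
  rw [hrest, Crit, hJe, Finset.card_pair hef]
  by_cases he' : e ∈ U <;> by_cases hf' : f ∈ U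
  · have h0 : ({e, f} : Finset (Fin 6)) ∩ U = {e, f} :=
      Finset.inter_eq_left.2 (by simp [Finset.insert_subset_iff, he', hf'])
    have hc2 : L.R {e, f} w = L.R {a, b} w := by
      rw [L.R_compl ho']
      congr 2
      ext i
      rw [Finset.mem_sdiff, K_quad hcd hq]
      simp only [Finset.mem_insert, Finset.mem_singleton]
      constructor
      · rintro ⟨(h | h | h | h), hn⟩
        exacts [Or.inl h, Or.inr h, absurd (Or.inl h) hn, absurd (Or.inr h) hn]
      · rintro (h | h) <;> subst h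
        · exact ⟨Or.inl rfl, by rintro (h | h); exacts [he.1.1 h.symm, hf.1.1 h.symm]⟩
        · exact ⟨Or.inr (Or.inl rfl), by rintro (h | h); exacts [he.1.2 h.symm, hf.1.2 h.symm]⟩
    rw [h0, hc2, L.R_insert (by simp [hab]), L.R_single, Finset.card_pair hef]
    exact iff_of_false nab (by norm_num)
  · have h0 : ({e, f} : Finset (Fin 6)) ∩ U = {e} := by
      ext i; simp only [Finset.mem_inter, Finset.mem_insert, Finset.mem_singleton]
      exact ⟨fun h => h.1.resolve_right fun h' => hf' (h' ▸ h.2), fun h => ⟨Or.inl h, h ▸ he'⟩⟩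
    rw [h0, L.R_single]
    exact iff_of_true two2.1 (by simp)
  · have h0 : ({e, f} : Finset (Fin 6)) ∩ U = {f} := by
      ext i; simp only [Finset.mem_inter, Finset.mem_insert, Finset.mem_singleton]
      exact ⟨fun h => h.1.resolve_left fun h' => he' (h' ▸ h.2), fun h => ⟨Or.inr h, h ▸ hf'⟩⟩
    rw [h0, L.R_single]
    exact iff_of_true two2.2 (by simp)
  · have h0 : ({e, f} : Finset (Fin 6)) ∩ U = ∅ := by
      ext i; simp only [Finset.mem_inter, Finset.mem_insert, Finset.mem_singleton,
        Finset.notMem_empty, iff_false, not_and]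
      rintro (h | h) <;> subst h <;> assumption
    rw [h0, L.R_empty]
    exact iff_of_false n0 (by simp)

lemma adj_base {a b c d : Fin 6} (hab : a ≠ b) (hcd : c ≠ d) (U : Finset (Fin 6)) :
    Y.Adj (C.B a b) (L.R U (C.B c d)) ↔ Crit (K a b ∩ K c d) U := by
  by_cases hac : c = a
  · subst hac
    by_cases hbd : d = b
    · subst hbd; exact adj_same C hab U
    · exact adj_meet C hab hcd (Ne.symm hbd) U
  by_cases had : d = a
  · subst had
    rw [C.symm c d hcd, K_comm c d]
    by_cases hbc : c = b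
    · subst hbc; exact adj_same C hab U
    · exact adj_meet C hab hcd.symm (Ne.symm hbc) U
  by_cases hbc : c = b
  · subst hbc
    rw [C.symm a c hab, K_comm a c]
    exact adj_meet C hab.symm hcd (Ne.symm had) U
  by_cases hbd : d = b
  · subst hbd
    rw [C.symm a d hab, K_comm a d, C.symm c d hcd, K_comm c d]
    exact adj_meet C hab.symm hcd.symm (Ne.symm hac) U
  exact adj_far C hab hcd (Ne.symm hac) (Ne.symm had) (Ne.symm hbc) (Ne.symm hbd) U

/-- Adjacency of two signed base points. -/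
lemma adj_signed {a b c d : Fin 6} (hab : a ≠ b) (hcd : c ≠ d) (U V : Finset (Fin 6)) :
    Y.Adj (L.R U (C.B a b)) (L.R V (C.B c d)) ↔ Crit (K a b ∩ K c d) (U ∆ V) := by
  rw [← adj_base C hab hcd, ← L.R_R, ← L.R_adj (u := L.R U (L.R V (C.B c d))) U, L.R_invol]

end Lab

end H49.Sextet
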