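/-
Points as lines of norm one.
-/
import Cfsg.Agent.H49.Sextet.Coords

set_option autoImplicit false
set_option linter.unusedSectionVars false

namespace H49.Sextet

open scoped Classical symmDiff

variable {P : Type*} [Fintype P] {Y : Sys P}

/-- The standard inner product. -/
def ip (v w : Fin 6 → ZMod 3) : ZMod 3 := ∑ i, v i * w i

/-- The support. -/
def supp (v : Fin 6 → ZMod 3) : Finset (Fin 6) := Finset.univ.filter fun i => v i ≠ 0

/-- The negative coordinates. -/
def ng (v : Fin 6 → ZMod 3) : Finset (Fin 6) := Finset.univ.filter fun i => v i = 2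

lemma mem_supp {v : Fin 6 → ZMod 3} {i : Fin 6} : i ∈ supp v ↔ v i ≠ 0 := by simp [supp]

lemma mem_ng {v : Fin 6 → ZMod 3} {i : Fin 6} : i ∈ ng v ↔ v i = 2 := by simp [ng]

lemma ip_eq (v w : Fin 6 → ZMod 3) :
    ip v w = (((supp v ∩ supp w).card + (supp v ∩ supp w ∩ (ng v ∆ ng w)).card : ℕ) : ZMod 3) := by
  have key : ∀ x y : ZMod 3, x * y =
      (if x ≠ 0 ∧ y ≠ 0 then 1 else 0) + (if x ≠ 0 ∧ y ≠ 0 ∧ ¬ (x = 2 ↔ y = 2) then 1 else 0) := by
    decide
  rw [ip, Finset.sum_congr rfl fun i _ => key (v i) (w i), Finset.sum_add_distrib, Nat.cast_add,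
    Finset.sum_boole, Finset.sum_boole]
  congr 3
  · ext i; simp [mem_supp]
  · ext i
    simp only [Finset.mem_filter, Finset.mem_univ, true_and, Finset.mem_inter, mem_supp,
      Finset.mem_symmDiff, mem_ng]
    tauto

lemma supp_cases {v : Fin 6 → ZMod 3} (h : ip v v = 1) :
    (∃ i, supp v = {i}) ∨ ∃ a b, a ≠ b ∧ supp v = Lab.K a b := by
  rw [ip_eq, symmDiff_self, Finset.bot_eq_empty, Finset.inter_empty, Finset.card_empty,
    Finset.inter_self, Nat.add_zero] at h
  have hle : (supp v).card ≤ 6 := (Finset.card_le_univ _).trans_eq (Fintype.card_fin 6)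
  obtain ⟨k, hk⟩ : ∃ k, (supp v).card = k := ⟨_, rfl⟩
  rw [hk] at h hle
  have hk' : k = 1 ∨ k = 4 := by
    interval_cases k <;> first | omega | exact absurd h (by decide)
  rcases hk' with rfl | rfl
  · exact Or.inl (Finset.card_eq_one.1 hk)
  · right
    obtain ⟨a, b, hab, he⟩ := Finset.card_eq_two.1
      (show (Finset.univ \ supp v).card = 2 by
        rw [Finset.card_sdiff_of_subset (Finset.subset_univ _), Finset.card_univ, Fintype.card_fin, hk])
    refine ⟨a, b, hab, ?_⟩
    rw [Lab.K, ← he]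
    ext i; simp

lemma eq_or_neg {v w : Fin 6 → ZMod 3} (h : supp v = supp w)
    (hn : supp v ∩ (ng v ∆ ng w) = ∅ ∨ supp v ∩ (ng v ∆ ng w) = supp v) : w = v ∨ w = -v := by
  have hsame : ∀ x y : ZMod 3, (x ≠ 0 ↔ y ≠ 0) →
      (((x ≠ 0 → (x = 2 ↔ y = 2)) → y = x) ∧ ((x ≠ 0 → ¬ (x = 2 ↔ y = 2)) → y = -x)) := by decide
  have hs : ∀ i, v i ≠ 0 ↔ w i ≠ 0 := fun i => by rw [← mem_supp, ← mem_supp, h]
  rcases hn with e | e
  · refine Or.inl (funext fun i => (hsame _ _ (hs i)).1 fun hv => ?_)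
    have := Finset.eq_empty_iff_forall_notMem.1 e i
    simp only [Finset.mem_inter, mem_supp, Finset.mem_symmDiff, mem_ng] at this
    tauto
  · refine Or.inr (funext fun i => (hsame _ _ (hs i)).2 fun hv => ?_)
    have := (Finset.inter_eq_left.1 e) (mem_supp.2 hv)
    simp only [Finset.mem_symmDiff, mem_ng] at this
    tauto

lemma supp_neg (v : Fin 6 → ZMod 3) : supp (-v) = supp v := by
  ext i; simp [mem_supp]

lemma ng_neg {v : Fin 6 → ZMod 3} : supp v ∩ (ng v ∆ ng (-v)) = supp v := by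
  refine Finset.inter_eq_left.2 fun i hi => ?_
  have key : ∀ x : ZMod 3, x ≠ 0 → (x = 2 ∧ ¬ -x = 2 ∨ -x = 2 ∧ ¬ x = 2) := by decide
  simpa [Finset.mem_symmDiff, mem_ng] using key (v i) (mem_supp.1 hi)

namespace Lab

variable {L : Lab Y} (C : L.Bases)

/-- The point of a vector. -/
noncomputable def pt (v : Fin 6 → ZMod 3) : P :=
  if h : ∃ i, supp v = {i} then L.e h.choose
  else if h : ∃ a b, a ≠ b ∧ supp v = K a b then L.R (ng v) (C.B h.choose h.choose_spec.choose)
  else L.e 0

lemma pt_one {v : Fin 6 → ZMod 3} {i : Fin 6} (h : supp v = {i}) : pt C v = L.e i := by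
  have h' : ∃ i, supp v = {i} := ⟨i, h⟩
  rw [pt, dif_pos h', Finset.singleton_injective (h'.choose_spec.symm.trans h)]

lemma K_inj {a b c d : Fin 6} (hab : a ≠ b) (hcd : c ≠ d) (h : K a b = K c d) :
    (c = a ∧ d = b) ∨ (c = b ∧ d = a) := by
  have hc : c ∉ K a b := h ▸ fun hm => (mem_K.1 hm).1 rfl
  have hd : d ∉ K a b := h ▸ fun hm => (mem_K.1 hm).2 rfl
  rw [mem_K, not_and_or, not_not, not_not] at hc hd
  rcases hc with e | e <;> rcases hd with e' | e'
  · exact absurd (e.trans e'.symm) hcd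
  · exact Or.inl ⟨e, e'⟩
  · exact Or.inr ⟨e, e'⟩
  · exact absurd (e.trans e'.symm) hcd

lemma pt_four {v : Fin 6 → ZMod 3} {a b : Fin 6} (hab : a ≠ b) (h : supp v = K a b) :
    pt C v = L.R (ng v) (C.B a b) := by
  have h1 : ¬ ∃ i, supp v = {i} := fun ⟨i, hi⟩ => by
    have := congrArg Finset.card (hi.symm.trans h)
    rw [card_K hab, Finset.card_singleton] at this
    omega
  have h2 : ∃ a b, a ≠ b ∧ supp v = K a b := ⟨a, b, hab, h⟩
  rw [pt, dif_neg h1, dif_pos h2]
  obtain ⟨hcd, he⟩ := h2.choose_spec.choose_spec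
  rcases K_inj hab hcd (h.symm.trans he) with ⟨e1, e2⟩ | ⟨e1, e2⟩
  · rw [e2, e1]
  · rw [e2, e1, C.symm b a hab.symm]

lemma crit_iff (J U : Finset (Fin 6)) :
    Crit J U ↔ ((J.card + (J ∩ U).card : ℕ) : ZMod 3) = 0 := by
  rw [Crit, ZMod.natCast_eq_zero_iff]

lemma pt_adj {v w : Fin 6 → ZMod 3} (hv : ip v v = 1) (hw : ip w w = 1) :
    Y.Adj (pt C v) (pt C w) ↔ ip v w = 0 := by
  have mixed : ∀ {v w : Fin 6 → ZMod 3} {i a b : Fin 6}, supp v = {i} → a ≠ b → supp w = K a b →
      (Y.Adj (pt C v) (pt C w) ↔ ip v w = 0) := by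
    intro v w i a b hi hab hw
    rw [pt_one C hi, pt_four C hab hw, Y.adj_comm, L.adj_e (L.orb_R (C.orb a b hab) _), ip_eq, hi, hw]
    by_cases hm : i ∈ K a b
    · rw [Finset.singleton_inter_of_mem hm, Finset.card_singleton]
      refine iff_of_false (fun h => ?_) ?_
      · rw [mem_K] at hm; tauto
      · by_cases h : i ∈ ng v ∆ ng w
        · rw [Finset.singleton_inter_of_mem h, Finset.card_singleton]; decide
        · rw [Finset.singleton_inter_of_notMem h, Finset.card_empty]; decide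
    · rw [Finset.singleton_inter_of_notMem hm, Finset.empty_inter, Finset.card_empty]
      refine iff_of_true ?_ (by decide)
      rw [mem_K, not_and_or, not_not, not_not] at hm
      exact hm
  rcases supp_cases hv with ⟨i, hi⟩ | ⟨a, b, hab, hA⟩ <;>
    rcases supp_cases hw with ⟨j, hj⟩ | ⟨c, d, hcd, hB⟩
  · rw [pt_one C hi, pt_one C hj, ip_eq, hi, hj]
    by_cases hij : i = j
    · subst hij
      rw [Finset.inter_self, Finset.card_singleton]
      refine iff_of_false Y.irrefl ?_
      by_cases h : i ∈ ng v ∆ ng w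
      · rw [Finset.singleton_inter_of_mem h, Finset.card_singleton]; decide
      · rw [Finset.singleton_inter_of_notMem h, Finset.card_empty]; decide
    · rw [Finset.singleton_inter_of_notMem (by simpa using hij), Finset.empty_inter, Finset.card_empty]
      exact iff_of_true (L.adj hij) (by decide)
  · exact mixed hi hcd hB
  · rw [Y.adj_comm, mixed hj hab hA, show ip w v = ip v w by simp [ip, mul_comm]]
  · rw [pt_four C hab hA, pt_four C hcd hB, adj_signed C hab hcd, crit_iff, ip_eq, hA, hB]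

lemma pt_surj (t : P) : ∃ v, ip v v = 1 ∧ pt C v = t := by
  rcases L.exists_orb t with ⟨i, rfl⟩ | ⟨a, b, -, ho⟩
  · refine ⟨Pi.single i 1, ?_, pt_one C ?_⟩
    · simp [ip, Pi.single_apply]
    · ext j; simp [mem_supp, Pi.single_apply]
  · have hab := ho.1
    obtain ⟨U, hU⟩ := L.orb_trans (C.orb a b hab) ho
    let v : Fin 6 → ZMod 3 := fun i => if i ∈ K a b then (if i ∈ U then 2 else 1) else 0
    have hs : supp v = K a b := by
      ext i
      by_cases hm : i ∈ K a b <;> by_cases hu : i ∈ U <;> simp [mem_supp, v, hm, hu] <;> decide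
    refine ⟨v, ?_, ?_⟩
    · rw [ip_eq, symmDiff_self, Finset.bot_eq_empty, Finset.inter_empty, Finset.inter_self, hs,
        card_K hab]
      rfl
    · rw [pt_four C hab hs, hU, L.R_restrict (C.orb a b hab) U]
      congr 2
      ext i
      by_cases hm : i ∈ K a b <;> by_cases hu : i ∈ U <;> simp [mem_ng, v, hm, hu] <;> decide

lemma pt_eq {v w : Fin 6 → ZMod 3} (hv : ip v v = 1) (hw : ip w w = 1) :
    pt C v = pt C w ↔ w = v ∨ w = -v := by
  have mixed : ∀ {v w : Fin 6 → ZMod 3} {i a b : Fin 6}, supp v = {i} → a ≠ b → supp w = K a b →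
      pt C v ≠ pt C w := by
    intro v w i a b hi hab hw h
    rw [pt_one C hi, pt_four C hab hw] at h
    exact (L.orb_R (C.orb a b hab) _).2.1 i h.symm
  constructor
  · intro h
    rcases supp_cases hv with ⟨i, hi⟩ | ⟨a, b, hab, hA⟩ <;>
      rcases supp_cases hw with ⟨j, hj⟩ | ⟨c, d, hcd, hB⟩
    · rw [pt_one C hi, pt_one C hj] at h
      obtain rfl := L.inj h
      refine eq_or_neg (hi.trans hj.symm) ?_
      rw [hi]
      by_cases hm : i ∈ ng v ∆ ng w
      · exact Or.inr (Finset.singleton_inter_of_mem hm)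
      · exact Or.inl (Finset.singleton_inter_of_notMem hm)
    · exact absurd h (mixed hi hcd hB)
    · exact absurd h.symm (mixed hj hab hA)
    · rw [pt_four C hab hA, pt_four C hcd hB] at h
      have hK : K a b = K c d := by
        have o1 := L.orb_R (C.orb a b hab) (ng v)
        have o2 := L.orb_R (C.orb c d hcd) (ng w)
        ext i
        rw [mem_K, mem_K, ← not_or, ← not_or, ← L.adj_e o1 (i := i), ← L.adj_e o2 (i := i), h]
      refine eq_or_neg (by rw [hA, hB, hK]) ?_
      have hB' : C.B c d = C.B a b := by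
        rcases K_inj hab hcd hK with ⟨e1, e2⟩ | ⟨e1, e2⟩
        · rw [e1, e2]
        · rw [e1, e2, C.symm b a hab.symm]
      rw [hB'] at h
      have h' := congrArg (L.R (ng w)) h.symm
      rw [L.R_invol, L.R_R] at h'
      rw [hA, Finset.inter_comm, symmDiff_comm]
      exact (L.R_eq_self (C.orb a b hab) _).1 h'.symm
  · rintro (rfl | rfl)
    · rfl
    · rcases supp_cases hv with ⟨i, hi⟩ | ⟨a, b, hab, hA⟩
      · rw [pt_one C hi, pt_one C (by rw [supp_neg]; exact hi)]
      · rw [pt_four C hab hA, pt_four C hab (by rw [supp_neg]; exact hA)]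
        have h0 : L.R (ng v ∆ ng (-v)) (C.B a b) = C.B a b :=
          (L.R_eq_self (C.orb a b hab) _).2 (Or.inr (by rw [Finset.inter_comm, ← hA]; exact ng_neg))
        conv_lhs => rw [← h0, L.R_R]
        rw [← symmDiff_assoc, symmDiff_self, bot_symmDiff]

end Lab

end H49.Sextet
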