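/-
The automorphisms of the system are no more than those of the quadratic space.
-/
import Cfsg.Agent.H49.Sextet.Vectors

set_option autoImplicit false
set_option linter.unusedSectionVars false

namespace H49.Sextet

open scoped Classical symmDiff

lemma card_norm_one : (Finset.univ.filter fun v : Fin 6 → ZMod 3 => ip v v = 1).card = 252 := by
  decide +kernel

lemma card_norm_one_perp :
    (Finset.univ.filter fun v : Fin 6 → ZMod 3 => ip v v = 1 ∧ v 0 = 0).card = 90 := by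
  decide +kernel

variable {P : Type*} [Fintype P] (Y : Sys P)

/-- The automorphism group of the graph. -/
def autGrp : Subgroup (Equiv.Perm P) where
  carrier := {σ | ∀ u v, Y.Adj (σ u) (σ v) ↔ Y.Adj u v}
  one_mem' := fun _ _ => Iff.rfl
  mul_mem' := fun {σ τ} hσ hτ u v => (hσ (τ u) (τ v)).trans (hτ u v)
  inv_mem' := fun {σ} hσ u v => by
    conv_rhs => rw [← σ.apply_symm_apply u, ← σ.apply_symm_apply v, hσ]
    rfl

variable {Y}

lemma card_le_mul {P : Type*} [Fintype P] (H : Subgroup (Equiv.Perm P)) (x : P) (S : Finset P)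
    (hS : ∀ σ ∈ H, σ x ∈ S) :
    Nat.card ↥H ≤ S.card * Nat.card ↥(H ⊓ MulAction.stabilizer (Equiv.Perm P) x) := by
  classical
  have e : Nat.card ↥(MulAction.stabilizer ↥H x) =
      Nat.card ↥(H ⊓ MulAction.stabilizer (Equiv.Perm P) x) :=
    Nat.card_congr ⟨fun σ => ⟨σ.1.1, σ.1.2, σ.2⟩, fun σ => ⟨⟨σ.1, σ.2.1⟩, σ.2.2⟩,
      fun _ => rfl, fun _ => rfl⟩
  rw [← e, ← Nat.card_congr (MulAction.orbitProdStabilizerEquivGroup ↥H x), Nat.card_prod]
  refine Nat.mul_le_mul_right _ ?_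
  rw [Nat.card_coe_set_eq, ← Set.ncard_coe_finset]
  refine Set.ncard_le_ncard ?_ (Finset.finite_toSet S)
  rintro _ ⟨σ, rfl⟩
  exact hS σ.1 σ.2

namespace Lab

variable {L : Lab Y} (C : L.Bases)

lemma two_to_one (Q : (Fin 6 → ZMod 3) → Prop) (hQ : ∀ v, Q v → Q (-v))
    (hQ1 : ∀ v, Q v → ip v v = 1) :
    2 * ((Finset.univ.filter Q).image (pt C)).card = (Finset.univ.filter Q).card := by
  rw [Finset.card_eq_sum_card_image (pt C) (Finset.univ.filter Q),
    Finset.sum_const_nat (m := 2), mul_comm]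
  intro t ht
  obtain ⟨v, hv, rfl⟩ := Finset.mem_image.1 ht
  have hvQ := (Finset.mem_filter.1 hv).2
  have hne : v ≠ -v := fun h => by
    have h1 := hQ1 v hvQ
    have : ∀ x : ZMod 3, x = -x → x = 0 := by decide
    have h0 : v = 0 := funext fun i => this _ (congrFun h i)
    rw [h0] at h1
    simp [ip] at h1
  refine (congrArg Finset.card ?_).trans (Finset.card_pair hne)
  ext w
  simp only [Finset.mem_filter, Finset.mem_univ, true_and, Finset.mem_insert, Finset.mem_singleton]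
  constructor
  · rintro ⟨hw, he⟩
    exact (pt_eq C (hQ1 v hvQ) (hQ1 w hw)).1 he.symm
  · intro h
    have hw : Q w := by
      rcases h with rfl | rfl
      exacts [hvQ, hQ v hvQ]
    exact ⟨hw, ((pt_eq C (hQ1 v hvQ) (hQ1 w hw)).2 h).symm⟩

include C in
lemma card_points : Fintype.card P = 126 := by
  have h := two_to_one C (fun v => ip v v = 1) (fun v hv => by
    simpa [ip] using hv) (fun v hv => hv)
  have h := h.trans ((congrArg Finset.card (Finset.ext fun v => by simp)).trans card_norm_one)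
  have : ((Finset.univ.filter fun v : Fin 6 → ZMod 3 => ip v v = 1).image (pt C)) = Finset.univ := by
    refine Finset.eq_univ_of_forall fun t => ?_
    obtain ⟨v, hv, rfl⟩ := pt_surj C t
    exact Finset.mem_image.2 ⟨v, Finset.mem_filter.2 ⟨Finset.mem_univ v, hv⟩, rfl⟩
  have h' : 2 * Fintype.card P = 252 := by
    rw [← Finset.card_univ, ← this]; convert h
  omega

lemma supp_single (i : Fin 6) : supp (Pi.single i (1 : ZMod 3)) = {i} := by
  ext j; simp [mem_supp, Pi.single_apply]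

include C in
lemma card_nbrs : (Finset.univ.filter fun t => Y.Adj (L.e 0) t).card = 45 := by
  have h := two_to_one C (fun v => ip v v = 1 ∧ v 0 = 0)
    (fun v hv => ⟨by simpa [ip] using hv.1, by simp [hv.2]⟩) (fun v hv => hv.1)
  have h := h.trans ((congrArg Finset.card (Finset.ext fun v => by simp)).trans card_norm_one_perp)
  have h0 : ip (Pi.single (0 : Fin 6) (1 : ZMod 3)) (Pi.single 0 1) = 1 := by
    simp [ip, Pi.single_apply]
  have hip : ∀ v : Fin 6 → ZMod 3, ip (Pi.single 0 1) v = v 0 := fun v => by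
    simp [ip, Pi.single_apply]
  have : ((Finset.univ.filter fun v : Fin 6 → ZMod 3 => ip v v = 1 ∧ v 0 = 0).image (pt C)) =
      Finset.univ.filter fun t => Y.Adj (L.e 0) t := by
    ext t
    simp only [Finset.mem_image, Finset.mem_filter, Finset.mem_univ, true_and]
    constructor
    · rintro ⟨v, hv, rfl⟩
      rw [← pt_one C (supp_single 0), pt_adj C h0 hv.1, hip]
      exact hv.2
    · intro ht
      obtain ⟨v, hv, rfl⟩ := pt_surj C t
      rw [← pt_one C (supp_single 0), pt_adj C h0 hv, hip] at ht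
      exact ⟨v, ⟨hv, ht⟩, rfl⟩
  have h' : 2 * (Finset.univ.filter fun t => Y.Adj (L.e 0) t).card = 90 := by
    rw [← this]; convert h
  omega

/-- An automorphism fixing the frame and two members of a star fixes the star. -/
lemma fix_star {σ : Equiv.Perm P} (hσ : σ ∈ autGrp Y) (he : ∀ i, σ (L.e i) = L.e i) {a b b' c : Fin 6}
    (hb : b ≠ a) (hb' : b' ≠ a) (hc : c ≠ a) (hbb : b ≠ b') (hcb : c ≠ b) (hcb' : c ≠ b')
    (h1 : σ (C.B a b) = C.B a b) (h2 : σ (C.B a b') = C.B a b') : σ (C.B a c) = C.B a c := by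
  obtain ⟨f, -, -, -, -, huniq⟩ := L.star hbb (C.orb a b hb.symm) (C.orb a b' hb'.symm)
    (C.adj a b b' hb.symm hb'.symm hbb)
  have ho := C.orb a c hc.symm
  have hA := C.adj a c b hc.symm hb.symm hcb
  have hA' := C.adj a c b' hc.symm hb'.symm hcb'
  have e1 := huniq c _ hcb hcb' ho hA hA'
  have e2 := huniq c (σ (C.B a c)) hcb hcb'
    ⟨ho.1, fun i h => ho.2.1 i (σ.injective (h.trans (he i).symm)),
      by rw [← he a, hσ]; exact ho.2.2.1, by rw [← he c, hσ]; exact ho.2.2.2⟩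
    (by rw [← h1, hσ]; exact hA) (by rw [← h2, hσ]; exact hA')
  exact e2.trans e1.symm

lemma fix_all {σ : Equiv.Perm P} (hσ : σ ∈ autGrp Y) (he : ∀ i, σ (L.e i) = L.e i)
    (h45 : σ (C.B 4 5) = C.B 4 5) (h43 : σ (C.B 4 3) = C.B 4 3) (h53 : σ (C.B 5 3) = C.B 5 3) :
    σ = 1 := by
  have sw : ∀ {a b : Fin 6}, a ≠ b → σ (C.B a b) = C.B a b → σ (C.B b a) = C.B b a :=
    fun {a b} hab h => by rw [C.symm b a hab.symm]; exact h
  have h54 := sw (by decide) h45
  have h34 := sw (by decide) h43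
  have h35 := sw (by decide) h53
  have hB : ∀ a b, a ≠ b → σ (C.B a b) = C.B a b := by
    have big : ∀ a b : Fin 6, (a = 3 ∨ a = 4 ∨ a = 5) → a ≠ b → σ (C.B a b) = C.B a b := by
      intro a b ha hab
      rcases ha with rfl | rfl | rfl
      · by_cases e4 : b = 4
        · exact e4 ▸ h34
        by_cases e5 : b = 5
        · exact e5 ▸ h35
        exact fix_star C hσ he (by decide) (by decide) hab.symm (by decide) e4 e5 h34 h35
      · by_cases e4 : b = 5
        · exact e4 ▸ h45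
        by_cases e5 : b = 3
        · exact e5 ▸ h43
        exact fix_star C hσ he (by decide) (by decide) hab.symm (by decide) e4 e5 h45 h43
      · by_cases e4 : b = 4
        · exact e4 ▸ h54
        by_cases e5 : b = 3
        · exact e5 ▸ h53
        exact fix_star C hσ he (by decide) (by decide) hab.symm (by decide) e4 e5 h54 h53
    intro a b hab
    by_cases ha : a = 3 ∨ a = 4 ∨ a = 5
    · exact big a b ha hab
    push Not at ha
    by_cases e4 : b = 4
    · exact e4 ▸ sw ha.2.1.symm (big 4 a (by decide) ha.2.1.symm)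
    by_cases e5 : b = 5
    · exact e5 ▸ sw ha.2.2.symm (big 5 a (by decide) ha.2.2.symm)
    exact fix_star C hσ he ha.2.1.symm ha.2.2.symm hab.symm (by decide) e4 e5
      (sw ha.2.1.symm (big 4 a (by decide) ha.2.1.symm))
      (sw ha.2.2.symm (big 5 a (by decide) ha.2.2.symm))
  ext t
  rcases L.exists_orb t with ⟨i, rfl⟩ | ⟨a, b, -, ho⟩
  · exact he i
  have hab := ho.1
  have ho' : L.Orb a b (σ t) :=
    ⟨hab, fun i h => ho.2.1 i (σ.injective (h.trans (he i).symm)),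
      by rw [← he a, hσ]; exact ho.2.2.1, by rw [← he b, hσ]; exact ho.2.2.2⟩
  obtain ⟨U, hU⟩ := L.orb_trans (C.orb a b hab) ho
  obtain ⟨V, hV⟩ := L.orb_trans (C.orb a b hab) ho'
  have key : ∀ k ∈ K a b, ∀ l ∈ K a b, k ≠ l → (k ∈ U ∆ V ↔ l ∈ U ∆ V) := by
    intro k hk l hl hkl
    obtain ⟨c, d, hcd, hCD⟩ := Finset.card_eq_two.1
      (show (K a b \ {k, l}).card = 2 by
        rw [Finset.card_sdiff_of_subset (Finset.insert_subset hk (Finset.singleton_subset_iff.2 hl)),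
          card_K hab, Finset.card_pair hkl])
    have hcrit : Crit (K c d ∩ K a b) U ↔ Crit (K c d ∩ K a b) V := by
      rw [← adj_base C hcd hab, ← adj_base C hcd hab, ← hU, ← hV]
      conv_rhs => rw [← hB c d hcd, hσ]
    have hJ : K c d ∩ K a b = {k, l} := by
      ext i
      have hi : i ∈ K a b \ {k, l} ↔ i ∈ ({c, d} : Finset (Fin 6)) := by rw [hCD]
      simp only [Finset.mem_sdiff, Finset.mem_insert, Finset.mem_singleton] at hi
      simp only [Finset.mem_inter, Finset.mem_insert, Finset.mem_singleton, mem_K (a := c) (b := d)]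
      constructor
      · rintro ⟨h1, h2⟩
        by_contra hn
        rcases hi.1 ⟨h2, hn⟩ with h | h
        exacts [h1.1 h, h1.2 h]
      · intro h
        refine ⟨?_, h.elim (fun e => e ▸ hk) fun e => e ▸ hl⟩
        exact ⟨fun e => (hi.2 (Or.inl e)).2 h, fun e => (hi.2 (Or.inr e)).2 h⟩
    rw [hJ] at hcrit
    by_cases hkU : k ∈ U <;> by_cases hlU : l ∈ U <;> by_cases hkV : k ∈ V <;> by_cases hlV : l ∈ V <;>
      simp [Crit, Finset.mem_symmDiff, hkU, hlU, hkV, hlV, Finset.card_pair hkl,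
        Finset.insert_inter_of_mem, Finset.insert_inter_of_notMem, Finset.singleton_inter_of_mem,
        Finset.singleton_inter_of_notMem] at hcrit ⊢
  have hfix : L.R (U ∆ V) (C.B a b) = C.B a b := by
    rw [L.R_eq_self (C.orb a b hab)]
    by_cases hne : ((U ∆ V) ∩ K a b) = ∅
    · exact Or.inl hne
    obtain ⟨k, hk⟩ := Finset.nonempty_iff_ne_empty.2 hne
    obtain ⟨hk1, hk2⟩ := Finset.mem_inter.1 hk
    refine Or.inr (Finset.inter_eq_right.2 fun l hl => ?_)
    by_cases hkl : k = l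
    · exact hkl ▸ hk1
    · exact (key k hk2 l hl hkl).1 hk1
  show σ t = t
  rw [hV, hU]
  conv_rhs => rw [← hfix, L.R_R, ← symmDiff_assoc, symmDiff_self, bot_symmDiff]

lemma le_step {H H' : Subgroup (Equiv.Perm P)} {x : P} (S : Finset P) {n N : ℕ}
    (hH' : H' = H ⊓ MulAction.stabilizer (Equiv.Perm P) x) (hS : ∀ σ ∈ H, σ x ∈ S)
    (hn : S.card ≤ n) (hN : Nat.card ↥H' ≤ N) : Nat.card ↥H ≤ n * N :=
  (card_le_mul H x S hS).trans (Nat.mul_le_mul hn (hH' ▸ hN))

include C in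
/-- There are at most 13063680 automorphisms. -/
theorem card_aut_le : Nat.card ↥(autGrp Y) ≤ 13063680 := by
  set st := fun x : P => MulAction.stabilizer (Equiv.Perm P) x
  have hfix : ∀ {σ : Equiv.Perm P} {H : Subgroup (Equiv.Perm P)} {x : P}, σ ∈ H ⊓ st x → σ x = x :=
    fun {σ H x} h => h.2
  set H0 := autGrp Y
  set H1 := H0 ⊓ st (L.e 0) with hH1
  set H2 := H1 ⊓ st (L.e 1) with hH2
  set H3 := H2 ⊓ st (L.e 2) with hH3
  set H4 := H3 ⊓ st (L.e 3) with hH4
  set H5 := H4 ⊓ st (L.e 4) with hH5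
  set H6 := H5 ⊓ st (L.e 5) with hH6
  set H7 := H6 ⊓ st (C.B 4 5) with hH7
  set H8 := H7 ⊓ st (C.B 4 3) with hH8
  set H9 := H8 ⊓ st (C.B 5 3) with hH9
  have m1 : ∀ σ ∈ H1, σ ∈ H0 ∧ σ (L.e 0) = L.e 0 := fun σ h => ⟨h.1, h.2⟩
  have m2 : ∀ σ ∈ H2, σ ∈ H0 ∧ σ (L.e 0) = L.e 0 ∧ σ (L.e 1) = L.e 1 :=
    fun σ h => ⟨(m1 σ h.1).1, (m1 σ h.1).2, h.2⟩
  have m3 : ∀ σ ∈ H3, σ ∈ H0 ∧ σ (L.e 0) = L.e 0 ∧ σ (L.e 1) = L.e 1 ∧ σ (L.e 2) = L.e 2 :=
    fun σ h => ⟨(m2 σ h.1).1, (m2 σ h.1).2.1, (m2 σ h.1).2.2, h.2⟩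
  have he : ∀ σ ∈ H6, ∀ i, σ (L.e i) = L.e i := fun σ h i => by
    have hi : i = 0 ∨ i = 1 ∨ i = 2 ∨ i = 3 ∨ i = 4 ∨ i = 5 := by revert i; decide
    rcases hi with rfl | rfl | rfl | rfl | rfl | rfl
    exacts [h.1.1.1.1.1.2, h.1.1.1.1.2, h.1.1.1.2, h.1.1.2, h.1.2, h.2]
  have h0 : ∀ σ ∈ H6, σ ∈ H0 := fun σ h => h.1.1.1.1.1.1
  have adjm : ∀ {σ : Equiv.Perm P}, σ ∈ H0 → ∀ {u v : P}, σ u = u → Y.Adj u v → Y.Adj u (σ v) :=
    fun {σ} hσ {u v} hu h => by rw [← hu, hσ]; exact h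
  have orbm : ∀ σ ∈ H6, ∀ {a b : Fin 6} {t : P}, L.Orb a b t → L.Orb a b (σ t) := by
    intro σ h a b t ho
    exact ⟨ho.1, fun i e => ho.2.1 i (σ.injective (e.trans (he σ h i).symm)),
      Y.symm (adjm (h0 σ h) (he σ h a) (Y.symm ho.2.2.1)),
      Y.symm (adjm (h0 σ h) (he σ h b) (Y.symm ho.2.2.2))⟩
  have t3 := Y.triple (L.adj (show (0 : Fin 6) ≠ 1 by decide)) (L.adj (show (0 : Fin 6) ≠ 2 by decide))
    (L.adj (show (1 : Fin 6) ≠ 2 by decide))
  let S3 := Finset.univ.filter fun d => Y.Adj (L.e 0) d ∧ Y.Adj (L.e 1) d ∧ Y.Adj (L.e 2) d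
  have hS3 : S3.card = 3 := by
    rw [← t3.1, ← Set.ncard_coe_finset]; congr 1; ext d; simp [S3]
  have he3 : ∀ i : Fin 6, i ≠ 0 → i ≠ 1 → i ≠ 2 → L.e i ∈ S3 := fun i a b c =>
    Finset.mem_filter.2 ⟨Finset.mem_univ _, L.adj a.symm, L.adj b.symm, L.adj c.symm⟩
  have hS3m : ∀ σ ∈ H3, ∀ i : Fin 6, i ≠ 0 → i ≠ 1 → i ≠ 2 → σ (L.e i) ∈ S3 := fun σ h i a b c => by
    obtain ⟨g0, g1, g2, g3⟩ := m3 σ h
    exact Finset.mem_filter.2 ⟨Finset.mem_univ _, adjm g0 g1 (L.adj a.symm),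
      adjm g0 g2 (L.adj b.symm), adjm g0 g3 (L.adj c.symm)⟩
  have hO : ∀ {a b : Fin 6}, a ≠ b → (Finset.univ.filter (L.Orb a b)).card ≤ 8 := by
    intro a b hab
    have hc : {c | Y.Adj (L.e a) c ∧ Y.Adj (L.e b) c}.ncard = 12 := Y.common (L.adj hab)
    have hsub : (↑((Finset.univ.filter (L.Orb a b)) ∪ (K a b).image L.e) : Set P) ⊆
        {c | Y.Adj (L.e a) c ∧ Y.Adj (L.e b) c} := by
      intro c hc
      simp only [Finset.coe_union, Set.mem_union, Finset.coe_filter, Finset.coe_image, Set.mem_image,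
        Set.mem_ofPred_eq, Finset.mem_coe, Finset.mem_univ, true_and] at hc
      rcases hc with h | ⟨i, hi, rfl⟩
      · exact L.orb_common h
      · exact ⟨L.adj (mem_K.1 hi).1.symm, L.adj (mem_K.1 hi).2.symm⟩
    have := Set.ncard_le_ncard hsub (Set.toFinite _)
    rw [hc, Set.ncard_coe_finset, Finset.card_union_of_disjoint, Finset.card_image_of_injective _ L.inj,
      card_K hab] at this
    · omega
    · rw [Finset.disjoint_left]
      intro c hc hc'
      obtain ⟨i, -, rfl⟩ := Finset.mem_image.1 hc'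
      exact (Finset.mem_filter.1 hc).2.2.1 i rfl
  have b9 : Nat.card ↥H9 ≤ 1 := by
    have : H9 = ⊥ := by
      rw [Subgroup.eq_bot_iff_forall]
      intro σ h
      exact fix_all C (h0 σ h.1.1.1) (he σ h.1.1.1) h.1.1.2 h.1.2 h.2
    rw [this, Subgroup.card_bot]
  have two_max : ∀ (x : P) {a b c : Fin 6}, L.Orb a b x → a ≠ c → b ≠ c → ∀ (u v : P),
      L.Orb b c u → Y.Adj x u → L.Orb b c v → Y.Adj x v → v = u ∨ v = Y.r (L.e a) u :=
    fun x a b c ho hac _ u v hu hxu hv hxv => L.nbrs hac ho hu hv hxu hxv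
  have o45 := C.orb 4 5 (by decide)
  have o43 := C.orb 4 3 (by decide)
  have o53 := C.orb 5 3 (by decide)
  have a1 : Y.Adj (C.B 4 5) (C.B 4 3) := C.adj 4 5 3 (by decide) (by decide) (by decide)
  have a2 : Y.Adj (C.B 4 5) (C.B 5 3) := by
    rw [C.symm 4 5 (by decide)]; exact C.adj 5 4 3 (by decide) (by decide) (by decide)
  have b8 : Nat.card ↥H8 ≤ 2 * 1 := le_step {C.B 5 3, Y.r (L.e 4) (C.B 5 3)} hH9 (fun σ h => by
    rcases two_max _ (L.orb_R o45 ∅ |> fun h => (L.R_empty (C.B 4 5)) ▸ h) (by decide) (by decide) _ _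
      o53 a2 (orbm σ h.1.1 o53) (adjm (h0 σ h.1.1) h.1.2 a2) with e | e <;>
      rw [e] <;> simp) Finset.card_le_two b9
  have b7 : Nat.card ↥H7 ≤ 2 * (2 * 1) := le_step {C.B 4 3, Y.r (L.e 5) (C.B 4 3)} hH8 (fun σ h => by
    rcases two_max _ (L.orb_symm o45) (by decide) (by decide) _ _
      o43 a1 (orbm σ h.1 o43) (adjm (h0 σ h.1) h.2 a1) with e | e <;>
      rw [e] <;> simp) Finset.card_le_two b8
  have b6 : Nat.card ↥H6 ≤ 8 * (2 * (2 * 1)) := le_step (Finset.univ.filter (L.Orb 4 5)) hH7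
    (fun σ h => Finset.mem_filter.2 ⟨Finset.mem_univ _, orbm σ h o45⟩) (hO (by decide)) b7
  have b5 : Nat.card ↥H5 ≤ 1 * (8 * (2 * (2 * 1))) := le_step ((S3.erase (L.e 3)).erase (L.e 4)) hH6
    (fun σ h => Finset.mem_erase.2 ⟨fun e => (L.inj.ne (show (5 : Fin 6) ≠ 4 by decide))
      (σ.injective (e.trans (hfix h).symm)), Finset.mem_erase.2
        ⟨fun e => (L.inj.ne (show (5 : Fin 6) ≠ 3 by decide)) (σ.injective (e.trans (hfix h.1).symm)),
          hS3m σ h.1.1 5 (by decide) (by decide) (by decide)⟩⟩)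
    (by rw [Finset.card_erase_of_mem (Finset.mem_erase.2 ⟨L.inj.ne (by decide),
          he3 4 (by decide) (by decide) (by decide)⟩),
        Finset.card_erase_of_mem (he3 3 (by decide) (by decide) (by decide)), hS3]) b6
  have b4 : Nat.card ↥H4 ≤ 2 * (1 * (8 * (2 * (2 * 1)))) := le_step (S3.erase (L.e 3)) hH5
    (fun σ h => Finset.mem_erase.2
      ⟨fun e => (L.inj.ne (show (4 : Fin 6) ≠ 3 by decide)) (σ.injective (e.trans (hfix h).symm)),
        hS3m σ h.1 4 (by decide) (by decide) (by decide)⟩)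
    (by rw [Finset.card_erase_of_mem (he3 3 (by decide) (by decide) (by decide)), hS3]) b5
  have b3 : Nat.card ↥H3 ≤ 3 * (2 * (1 * (8 * (2 * (2 * 1))))) := le_step S3 hH4
    (fun σ h => hS3m σ h 3 (by decide) (by decide) (by decide)) hS3.le b4
  have b2 : Nat.card ↥H2 ≤ 12 * (3 * (2 * (1 * (8 * (2 * (2 * 1)))))) := le_step
    (Finset.univ.filter fun d => Y.Adj (L.e 0) d ∧ Y.Adj (L.e 1) d) hH3
    (fun σ h => by
      obtain ⟨g0, g1, g2⟩ := m2 σ h
      exact Finset.mem_filter.2 ⟨Finset.mem_univ _, adjm g0 g1 (L.adj (by decide)),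
        adjm g0 g2 (L.adj (by decide))⟩)
    (le_of_eq (by
      rw [← Y.common (L.adj (show (0 : Fin 6) ≠ 1 by decide)), ← Set.ncard_coe_finset]
      congr 1; ext d; simp)) b3
  have b1 : Nat.card ↥H1 ≤ 45 * (12 * (3 * (2 * (1 * (8 * (2 * (2 * 1))))))) := le_step
    (Finset.univ.filter fun t => Y.Adj (L.e 0) t) hH2
    (fun σ h => Finset.mem_filter.2 ⟨Finset.mem_univ _, adjm (m1 σ h).1 (m1 σ h).2 (L.adj (by decide))⟩)
    (card_nbrs C).le b2
  have := le_step (H := H0) Finset.univ hH1 (fun σ _ => Finset.mem_univ _)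
    (by rw [Finset.card_univ, card_points C]) b1
  linarith

end Lab

end H49.Sextet
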