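/-
The sum of six squares modulo three: isometries, centre of the commutator subgroup.
-/
import Cfsg.Agent.H49.Sextet.AutBound
import Cfsg.Agent.H44.Fischer.ReflCard
import Cfsg.Agent.H44.Fischer.ReflQuot
import Cfsg.Agent.S0303
import Cfsg.Agent.H81.U43.Code

set_option autoImplicit false
set_option linter.unusedSectionVars false

namespace H49.Sextet

open Cfsg Matrix
open scoped Classical commutatorElement

local instance factThreeOrth : Fact (Nat.Prime 3) := ⟨Nat.prime_three⟩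

/-- The sum of six squares. -/
noncomputable def sq6 : QuadraticForm (ZMod 3) (Fin 6 → ZMod 3) :=
  QuadraticMap.weightedSumSquares (ZMod 3) (1 : Fin 6 → ZMod 3)

lemma sq6_apply (v : Fin 6 → ZMod 3) : sq6 v = ip v v := by
  simp [sq6, ip, QuadraticMap.weightedSumSquares_apply]

lemma polar_sq6 (v w : Fin 6 → ZMod 3) : QuadraticMap.polar (⇑sq6) v w = 2 * ip v w := by
  simp only [QuadraticMap.polar, sq6_apply, ip, Finset.mul_sum, ← Finset.sum_sub_distrib, Pi.add_apply]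
  exact Finset.sum_congr rfl fun i _ => by ring

lemma nondeg_sq6 : (QuadraticMap.polarBilin sq6).Nondegenerate := by
  have key : ∀ v, (∀ w, QuadraticMap.polar (⇑sq6) v w = 0) → v = 0 := by
    intro v hv
    funext i
    have := hv (Pi.single i 1)
    rw [polar_sq6] at this
    simpa [ip, Pi.single_apply, show (2 : ZMod 3) ≠ 0 by decide] using this
  refine ⟨fun v hv => key v fun w => by simpa using hv w, fun v hv => key v fun w => ?_⟩
  rw [QuadraticMap.polar_comm]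
  simpa using hv w

lemma det_sq6 : Cfsg.polarGramDet (⇑sq6) = 1 := by
  have : (Matrix.of fun i j : Fin 6 => QuadraticMap.polar (⇑sq6) (Pi.single i 1) (Pi.single j 1)) =
      Matrix.diagonal fun _ => (2 : ZMod 3) := by
    ext i j
    rw [Matrix.of_apply, polar_sq6]
    by_cases h : i = j
    · subst h; simp [ip, Pi.single_apply]
    · simp [ip, Pi.single_apply, h, Matrix.diagonal_apply_ne _ h, Ne.symm h]
  rw [Cfsg.polarGramDet, this, Matrix.det_diagonal]
  decide +kernel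

/-- The isometries. -/
noncomputable abbrev GO6 : Subgroup (GL (Fin 6) (ZMod 3)) := Cfsg.isometryGroup (ZMod 3) (⇑sq6)

lemma card_GO6 : Nat.card ↥GO6 = 26127360 := H44.Fischer.card_isometry_six sq6 nondeg_sq6 det_sq6

lemma mem_GO6 {g : GL (Fin 6) (ZMod 3)} :
    g ∈ GO6 ↔ ∀ v, sq6 ((g : Matrix (Fin 6) (Fin 6) (ZMod 3)) *ᵥ v) = sq6 v :=
  ⟨fun h v => h v v, fun h v _ => h v⟩

lemma GO6_ip (g : ↥GO6) (v w : Fin 6 → ZMod 3) :
    ip (((g : GL (Fin 6) (ZMod 3)) : Matrix (Fin 6) (Fin 6) (ZMod 3)) *ᵥ v)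
      (((g : GL (Fin 6) (ZMod 3)) : Matrix (Fin 6) (Fin 6) (ZMod 3)) *ᵥ w) = ip v w := by
  have h : ∀ u, sq6 (((g : GL (Fin 6) (ZMod 3)) : Matrix (Fin 6) (Fin 6) (ZMod 3)) *ᵥ u) = sq6 u :=
    mem_GO6.1 g.2
  have key : ∀ a b : ZMod 3, 2 * a = 2 * b → a = b := by decide
  refine key _ _ ?_
  rw [← polar_sq6, ← polar_sq6, QuadraticMap.polar, QuadraticMap.polar, ← Matrix.mulVec_add, h, h, h]

/-- An orthogonal matrix as an isometry. -/
noncomputable def mkIso (M : Matrix (Fin 6) (Fin 6) (ZMod 3)) (h : Mᵀ * M = 1) : ↥GO6 :=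
  ⟨⟨M, Mᵀ, mul_eq_one_comm.1 h, h⟩, mem_GO6.2 fun v => by
    rw [sq6_apply, sq6_apply]
    show dotProduct (M *ᵥ v) (M *ᵥ v) = dotProduct v v
    rw [Matrix.dotProduct_mulVec, ← Matrix.mulVec_transpose, Matrix.mulVec_mulVec, h, Matrix.one_mulVec]⟩

lemma mkIso_coe (M : Matrix (Fin 6) (Fin 6) (ZMod 3)) (h : Mᵀ * M = 1) :
    (((mkIso M h : ↥GO6) : GL (Fin 6) (ZMod 3)) : Matrix (Fin 6) (Fin 6) (ZMod 3)) = M := rfl

/-- The matrix of a permutation. -/
def pm (σ : Equiv.Perm (Fin 6)) : Matrix (Fin 6) (Fin 6) (ZMod 3) :=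
  Matrix.of fun i j => if σ j = i then 1 else 0

lemma pm_mul (σ τ : Equiv.Perm (Fin 6)) : pm σ * pm τ = pm (σ * τ) := by
  ext i j
  simp [pm, Matrix.mul_apply]
  congr

lemma pm_one : pm 1 = 1 := by
  ext i j; simp [pm, Matrix.one_apply, eq_comm]

lemma pm_transpose (σ : Equiv.Perm (Fin 6)) : (pm σ)ᵀ = pm σ⁻¹ := by
  ext i j
  simp only [pm, Matrix.transpose_apply, Matrix.of_apply, Equiv.Perm.inv_def]
  congr 1
  exact propext ⟨fun h => by rw [← h, Equiv.symm_apply_apply], fun h => by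
    rw [← h, Equiv.apply_symm_apply]⟩

/-- Permutations as isometries. -/
noncomputable def permIso : Equiv.Perm (Fin 6) →* ↥GO6 :=
  MonoidHom.mk' (fun σ => mkIso (pm σ) (by rw [pm_transpose, pm_mul, inv_mul_cancel, pm_one]))
    fun σ τ => Subtype.ext (Units.ext (pm_mul σ τ).symm)

/-- A single sign change. -/
noncomputable def sgn (i : Fin 6) : ↥GO6 :=
  mkIso (Matrix.diagonal fun j => if j = i then -1 else 1) (by
    rw [Matrix.diagonal_transpose, Matrix.diagonal_mul_diagonal, ← Matrix.diagonal_one]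
    congr 1; funext j; split_ifs <;> simp)

lemma sgn_inv (i : Fin 6) : (sgn i)⁻¹ = sgn i := by
  refine inv_eq_of_mul_eq_one_right (Subtype.ext (Units.ext ?_))
  show Matrix.diagonal _ * Matrix.diagonal _ = 1
  rw [Matrix.diagonal_mul_diagonal, ← Matrix.diagonal_one]
  congr 1; funext j; split_ifs <;> simp

/-- The diagonal matrix of a set of signs. -/
def dm (s : Finset (Fin 6)) : Matrix (Fin 6) (Fin 6) (ZMod 3) :=
  Matrix.diagonal fun j => if j ∈ s then -1 else 1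

/-- Two sign changes are a commutator. -/
lemma pair_sign {i j : Fin 6} (hij : i ≠ j) :
    ∃ g ∈ commutator ↥GO6, ((g : GL (Fin 6) (ZMod 3)) : Matrix (Fin 6) (Fin 6) (ZMod 3)) = dm {i, j} := by
  refine ⟨⁅sgn i, permIso (Equiv.swap i j)⁆,
    Subgroup.commutator_mem_commutator (Subgroup.mem_top _) (Subgroup.mem_top _), ?_⟩
  rw [commutatorElement_def, sgn_inv, ← map_inv, Equiv.swap_inv]
  show Matrix.diagonal _ * pm _ * Matrix.diagonal _ * pm _ = _
  ext a b
  simp only [Matrix.diagonal_mul, Matrix.mul_diagonal, Matrix.mul_apply (M := _ * Matrix.diagonal _),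
    pm, Matrix.of_apply, dm]
  rw [Finset.sum_eq_single (Equiv.swap i j b)]
  · by_cases hab : a = b
    · subst hab
      by_cases hai : a = i
      · subst hai; simp [hij, Ne.symm hij]
      · by_cases haj : a = j
        · subst haj; simp [hij, hai]
        · simp [hai, haj, Equiv.swap_apply_of_ne_of_ne hai haj]
    · simp [Matrix.diagonal_apply_ne _ hab, Ne.symm hab]
  · intro c _ hc
    simp [Ne.symm hc]
  · simp

lemma neg_one_mem : ∃ g ∈ commutator ↥GO6,
    ((g : GL (Fin 6) (ZMod 3)) : Matrix (Fin 6) (Fin 6) (ZMod 3)) = -1 := by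
  obtain ⟨g1, h1, e1⟩ := pair_sign (show (0 : Fin 6) ≠ 1 by decide)
  obtain ⟨g2, h2, e2⟩ := pair_sign (show (2 : Fin 6) ≠ 3 by decide)
  obtain ⟨g3, h3, e3⟩ := pair_sign (show (4 : Fin 6) ≠ 5 by decide)
  refine ⟨g1 * g2 * g3, mul_mem (mul_mem h1 h2) h3, ?_⟩
  rw [Subgroup.coe_mul, Subgroup.coe_mul, Units.val_mul, Units.val_mul, e1, e2, e3, dm, dm, dm,
    Matrix.diagonal_mul_diagonal, Matrix.diagonal_mul_diagonal, ← Matrix.diagonal_one,
    Matrix.diagonal_neg]
  congr 1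
  funext a
  revert a
  decide

/-- Only scalars commute with the commutator subgroup. -/
lemma scalar_of_central {c : ↥GO6} (hc : ∀ g ∈ commutator ↥GO6, Commute c g) :
    ((c : GL (Fin 6) (ZMod 3)) : Matrix (Fin 6) (Fin 6) (ZMod 3)) = 1 ∨
      ((c : GL (Fin 6) (ZMod 3)) : Matrix (Fin 6) (Fin 6) (ZMod 3)) = -1 := by
  set M := ((c : GL (Fin 6) (ZMod 3)) : Matrix (Fin 6) (Fin 6) (ZMod 3)) with hM
  have hcomm : ∀ g ∈ commutator ↥GO6, M * ((g : GL (Fin 6) (ZMod 3)) : Matrix (Fin 6) (Fin 6) (ZMod 3)) =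
      ((g : GL (Fin 6) (ZMod 3)) : Matrix (Fin 6) (Fin 6) (ZMod 3)) * M := fun g hg =>
    congrArg (fun x : ↥GO6 => ((x : GL (Fin 6) (ZMod 3)) : Matrix (Fin 6) (Fin 6) (ZMod 3))) (hc g hg).eq
  have hoff : ∀ i j, i ≠ j → M i j = 0 := by
    intro i j hij
    obtain ⟨k, hki, hkj⟩ : ∃ k, k ≠ i ∧ k ≠ j := by revert i j; decide
    obtain ⟨g, hg, he⟩ := pair_sign (Ne.symm hki)
    have h := congrFun (congrFun (hcomm g hg) i) j
    rw [he, dm, Matrix.mul_diagonal, Matrix.diagonal_mul] at h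
    have e1 : j ∉ ({i, k} : Finset (Fin 6)) := by simp [Ne.symm hij, Ne.symm hkj]
    rw [if_neg e1, if_pos (Finset.mem_insert_self i _), mul_one] at h
    have key : ∀ x : ZMod 3, x = -1 * x → x = 0 := by decide
    exact key _ h
  have hdiag : M = Matrix.diagonal fun i => M i i := by
    ext i j
    by_cases h : i = j
    · subst h; simp
    · rw [hoff i j h, Matrix.diagonal_apply_ne _ h]
  have heq : ∀ i, M i i = M 0 0 := by
    intro l
    by_cases hl : (0 : Fin 6) = l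
    · rw [← hl]
    obtain ⟨j, k, hσ⟩ : ∃ j k, ⁅Equiv.swap (0 : Fin 6) j, Equiv.swap j k⁆ 0 = l := by
      have : ∀ l : Fin 6, (0 : Fin 6) ≠ l → ∃ j k, (Equiv.swap (0 : Fin 6) j * Equiv.swap j k *
          Equiv.swap (0 : Fin 6) j * Equiv.swap j k) 0 = l := by decide +kernel
      obtain ⟨j, k, h⟩ := this l hl
      exact ⟨j, k, by rw [commutatorElement_def, Equiv.swap_inv, Equiv.swap_inv]; exact h⟩
    set σ := ⁅Equiv.swap (0 : Fin 6) j, Equiv.swap j k⁆ with hσd
    have hg : permIso σ ∈ commutator ↥GO6 := by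
      rw [hσd, map_commutatorElement]
      exact Subgroup.commutator_mem_commutator (Subgroup.mem_top _) (Subgroup.mem_top _)
    have hσM : (((permIso σ : ↥GO6) : GL (Fin 6) (ZMod 3)) : Matrix (Fin 6) (Fin 6) (ZMod 3)) = pm σ :=
      rfl
    have h := congrFun (congrFun (hcomm _ hg) l) 0
    rw [hσM, hdiag, Matrix.diagonal_mul, Matrix.mul_diagonal] at h
    simpa [pm, hσ] using h
  have hunit : M 0 0 = 1 ∨ M 0 0 = -1 := by
    have h := GO6_ip c (Pi.single 0 1) (Pi.single 0 1)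
    rw [show ((c : GL (Fin 6) (ZMod 3)) : Matrix (Fin 6) (Fin 6) (ZMod 3)) = M from rfl, hdiag] at h
    simp [ip, Matrix.mulVec_diagonal, Pi.single_apply] at h
    exact (show ∀ x : ZMod 3, x * x = 1 → x = 1 ∨ x = -1 by decide) _ h
  rcases hunit with h | h
  · left; rw [hdiag, ← Matrix.diagonal_one]; congr 1; funext i; rw [heq i, h]
  · right; rw [hdiag, ← Matrix.diagonal_one, Matrix.diagonal_neg]; congr 1; funext i; rw [heq i, h]

/-- The central quotient of the commutator subgroup is `PSU(4, 9)`. -/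
theorem exists_psu : ∃ (K : Type) (_ : Field K) (_ : Fintype K), Fintype.card K = 9 ∧
    Nat.card (PSU 4 K 3) = 3265920 ∧
    Nonempty (↥(commutator ↥GO6) ⧸ Subgroup.center ↥(commutator ↥GO6) ≃* PSU 4 K 3) := by
  haveI : Fintype (GaloisField 3 2) := Fintype.ofFinite _
  have hK : Fintype.card (GaloisField 3 2) = 9 := by
    rw [Fintype.card_eq_nat_card, GaloisField.card 3 2 (by norm_num)]; norm_num
  have hab : ∀ z₁ z₂ : ZMod 3, z₁ ^ 2 + 0 * z₁ * z₂ + 1 * z₂ ^ 2 = 0 → z₁ = 0 ∧ z₂ = 0 := by decide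
  obtain ⟨g, hg⟩ := H47.equiv_of_det (F := ZMod 3) (by rw [ZMod.card]; decide) sq6
    (H43.qMinus 2 (ZMod 3) 0 1) (H44.polarSep_of_nondegenerate nondeg_sq6)
    (H44.polarSep_of_nondegenerate (H43.qMinus_nondeg 2 hab))
    (Pi.basisFun (ZMod 3) (Fin 6)) (Pi.basisFun (ZMod 3) ((Fin 2 ⊕ Fin 2) ⊕ Fin 2)) (by simp) (by
      simp only [Pi.basisFun_apply]
      have h1 := det_sq6
      rw [Cfsg.polarGramDet] at h1
      rw [h1, one_mul]
      have h2 := H38.gram_minus_det (F := ZMod 3) 2 0 1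
      simp only [H43.polB_apply] at h2
      rw [h2]
      decide)
  let e0 := (H38.isometryGroupCongr g (Q := ⇑sq6) (Q' := ⇑(H43.qMinus 2 (ZMod 3) 0 1)) hg).trans
    (H38.isometryGroupCongr (LinearEquiv.refl (ZMod 3) _) (Q := ⇑(H43.qMinus 2 (ZMod 3) 0 1))
      (Q' := ⇑(H43.qMinus 2 (ZMod 3) 0 1)) fun _ => rfl).symm
  have e1 : ↥(commutator ↥GO6) ≃* ↥(Cfsg.Omega (ZMod 3) (Cfsg.quadFormMinus 2 (ZMod 3) 0 1)) :=
    (H44.Fischer.derivedCongr e0).trans
      (H44.Fischer.derivedCongr (MulEquiv.subgroupCongr (by rw [H43.coe_qMinus])))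
  obtain ⟨e2⟩ := Cfsg.Agent.S0303.result (F := ZMod 3) (K := GaloisField 3 2) (q := 3) (ZMod.card 3)
    (by rw [hK]; norm_num) 0 1 hab
  refine ⟨GaloisField 3 2, inferInstance, inferInstance, hK, ?_, ⟨?_⟩⟩
  · rw [H81.U43.card_PSU43 hK]
  refine (QuotientGroup.congr (Subgroup.center ↥(commutator ↥GO6))
    (Subgroup.center ↥(Cfsg.Omega (ZMod 3) (Cfsg.quadFormMinus 2 (ZMod 3) 0 1))) e1 ?_).trans e2
  ext x
  rw [show x ∈ Subgroup.map (↑e1) (Subgroup.center ↥(commutator ↥GO6)) ↔ x ∈ Subgroup.map e1.toMonoidHom (Subgroup.center ↥(commutator ↥GO6)) from Iff.rfl, Subgroup.mem_map_equiv, Subgroup.mem_center_iff, Subgroup.mem_center_iff]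
  constructor
  · intro h y
    have := congrArg e1 (h (e1.symm y))
    simpa using this
  · intro h y
    apply e1.injective
    simpa using h (e1 y)

end H49.Sextet
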