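/-
How the members of a class of type M(24) sit around a clique of twenty-four: each commutes with one,
two or eight members of the clique, or lies in it.
-/
import Cfsg.Agent.H49.Parity.Flag

set_option autoImplicit false
set_option linter.unusedSectionVars false

namespace H49.Sextet

open Cfsg H99 H49.Parity
open scoped Classical

variable {G : Type*} [Group G] [Finite G] {D : Set G}

lemma double_count {α β : Type*} [DecidableEq β] (R : Finset α) (A : Finset β) (K : α → Finset β)
    (hK : ∀ x ∈ R, K x ⊆ A) (i : ℕ) :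
    ∑ x ∈ R, (K x).card.choose i = ∑ U ∈ A.powersetCard i, (R.filter fun x => U ⊆ K x).card := by
  classical
  calc ∑ x ∈ R, (K x).card.choose i = ∑ x ∈ R, ((A.powersetCard i).filter fun U => U ⊆ K x).card := by
        refine Finset.sum_congr rfl fun x hx => ?_
        rw [← Finset.card_powersetCard]
        congr 1
        ext U
        simp only [Finset.mem_powersetCard, Finset.mem_filter]
        exact ⟨fun h => ⟨⟨h.1.trans (hK x hx), h.2⟩, h.1⟩, fun h => ⟨h.2, h.1.2⟩⟩
    _ = ∑ x ∈ R, ∑ U ∈ A.powersetCard i, if U ⊆ K x then 1 else 0 :=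
      Finset.sum_congr rfl fun x _ => Finset.card_filter _ _
    _ = ∑ U ∈ A.powersetCard i, ∑ x ∈ R, if U ⊆ K x then 1 else 0 := Finset.sum_comm
    _ = _ := Finset.sum_congr rfl fun U _ => (Finset.card_filter _ _).symm

variable (S : Ctx D) {O : Finset G} {x : G}
include S

lemma card_tt24 (hO : IsOct D O) (hx : x ∈ cp D (↑O : Set G)) : (tt24 D O x).card = 24 := by
  rw [tt24, Finset.card_union_of_disjoint, S.card_plane hO hx, hO.2.1]
  rw [Finset.disjoint_left]
  exact fun y hy hy' => notMem_of_cp (mem_plane.1 hy').1 hy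

lemma oct_sub (hO : IsOct D O) (hx : x ∈ cp D (↑O : Set G)) {O' M : Finset G} (hO' : IsOct D O')
    (hMO' : M ⊆ O') (hM : M.card = 5) (hMΩ : M ⊆ tt24 D O x) : O' ⊆ tt24 D O x := by
  have hcl := S.cliq_tt24 hO hx
  intro y hy
  refine S.mem_tt24_of_commute hO hx (hO'.1.1 (Finset.mem_coe.2 hy)) fun t ht => ?_
  by_cases hyM : y ∈ M
  · exact hcl.2 t ht y (hMΩ hyM)
  by_cases htO : t ∈ O'
  · exact hO'.1.2 t htO y hy
  have htM : t ∈ cp D (↑M : Set G) := ⟨hcl.1 (Finset.mem_coe.2 ht), fun m hm =>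
    ⟨fun e => htO (e ▸ hMO' (Finset.mem_coe.1 hm)), hcl.2 m (hMΩ (Finset.mem_coe.1 hm)) t ht⟩⟩
  exact ((S.cp_five hO' hMO' hM htM htO).2 y (Finset.mem_coe.2 hy)).2.symm

lemma cliq_oct_five {M : Finset G} (hM : Cliq D M) (hc : M.card = 5) {O' : Finset G}
    (hO' : IsOct D O') (hMO' : M ⊆ O') :
    cp D (↑M : Set G) = ↑(O' \ M) ∪ cp D (↑O' : Set G) := by
  ext y
  constructor
  · intro hy
    by_cases hyO : y ∈ O'
    · exact Or.inl (Finset.mem_coe.2 (Finset.mem_sdiff.2 ⟨hyO, notMem_of_cp hy⟩))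
    · exact Or.inr (S.cp_five hO' hMO' hc hy hyO)
  · rintro (hy | hy)
    · rw [Finset.mem_coe, Finset.mem_sdiff] at hy
      exact ⟨hO'.1.1 (Finset.mem_coe.2 hy.1), fun m hm => ⟨fun e => hy.2 (e ▸ Finset.mem_coe.1 hm),
        hO'.1.2 m (hMO' (Finset.mem_coe.1 hm)) y hy.1⟩⟩
    · exact ⟨hy.1, fun m hm => hy.2 m (Finset.mem_coe.2 (hMO' (Finset.mem_coe.1 hm)))⟩

/-- The common partners outside the clique of at most five of its members. -/
lemma ncard_out (hO : IsOct D O) (hx : x ∈ cp D (↑O : Set G)) {U : Finset G}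
    (hU : U ⊆ tt24 D O x) :
    (U.card ≤ 4 → (cp D (↑U : Set G) \ ↑(tt24 D O x)).ncard = Ctx.E U.card - (24 - U.card)) ∧
    (U.card = 5 → (cp D (↑U : Set G) \ ↑(tt24 D O x)).ncard = 32) := by
  have hcl := S.cliq_tt24 hO hx
  have hsub : (↑(tt24 D O x \ U) : Set G) ⊆ cp D (↑U : Set G) := fun y hy => by
    rw [Finset.mem_coe, Finset.mem_sdiff] at hy
    exact ⟨hcl.1 (Finset.mem_coe.2 hy.1), fun m hm => ⟨fun e => hy.2 (e ▸ Finset.mem_coe.1 hm),
      hcl.2 m (hU (Finset.mem_coe.1 hm)) y hy.1⟩⟩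
  have he : cp D (↑U : Set G) \ ↑(tt24 D O x) = cp D (↑U : Set G) \ ↑(tt24 D O x \ U) := by
    ext y
    simp only [Set.mem_sdiff, Finset.mem_coe, Finset.mem_sdiff]
    exact ⟨fun h => ⟨h.1, fun h' => h.2 h'.1⟩, fun h => ⟨h.1, fun h' => h.2 ⟨h', notMem_of_cp h.1⟩⟩⟩
  have hsd : (tt24 D O x \ U).card = 24 - U.card := by
    rw [Finset.card_sdiff_of_subset hU, card_tt24 S hO hx]
  rw [he, Set.ncard_sdiff hsub (Finset.finite_toSet _), Set.ncard_coe_finset, hsd]
  refine ⟨fun hc => by rw [S.ncard_cp (hcl.mono hU) hc rfl], fun hc => ?_⟩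
  obtain ⟨O', ⟨hO', hMO'⟩, -⟩ := S.oct_five (hcl.mono hU) hc
  rw [cliq_oct_five S (hcl.mono hU) hc hO' hMO', Set.ncard_union_eq ?_ (Set.toFinite _)
    (Set.toFinite _), Set.ncard_coe_finset, Finset.card_sdiff_of_subset hMO', hO'.2.1, hO'.2.2, hc]
  rw [Set.disjoint_left]
  intro y hy hy'
  exact notMem_of_cp hy' (Finset.mem_sdiff.1 (Finset.mem_coe.1 hy)).1

omit S in
/-- The members of the clique commuting with `y`. -/
noncomputable def seen (D : Set G) (O : Finset G) (x y : G) : Finset G :=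
  (tt24 D O x).filter fun e => Commute y e

omit S in
/-- The members of `D` outside the clique. -/
noncomputable def outs (D : Set G) (O : Finset G) (x : G) : Finset G :=
  (Set.toFinite (D \ ↑(tt24 D O x))).toFinset

omit S in
lemma mem_outs {y : G} : y ∈ outs D O x ↔ y ∈ D ∧ y ∉ tt24 D O x := by
  rw [outs, Set.Finite.mem_toFinset]; simp

omit S in
lemma mem_cp_of_seen {y : G} {U : Finset G} (hy : y ∈ outs D O x) (hU : U ⊆ seen D O x y) :
    y ∈ cp D (↑U : Set G) := by
  refine ⟨(mem_outs.1 hy).1, fun m hm => ?_⟩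
  have := Finset.mem_filter.1 (hU (Finset.mem_coe.1 hm))
  exact ⟨fun e => (mem_outs.1 hy).2 (e ▸ this.1), this.2.symm⟩

/-- Subsets seen by outside members. -/
lemma card_seeing (hO : IsOct D O) (hx : x ∈ cp D (↑O : Set G)) {T U : Finset G}
    (hT : T ⊆ tt24 D O x) (hU : U ⊆ tt24 D O x \ T) :
    (((outs D O x).filter fun y => T ⊆ seen D O x y).filter fun y => U ⊆ seen D O x y \ T).card =
      (cp D (↑(T ∪ U) : Set G) \ ↑(tt24 D O x)).ncard := by
  rw [← Set.ncard_coe_finset]
  congr 1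
  ext y
  simp only [Finset.coe_filter, Finset.mem_filter, Set.mem_ofPred_eq, Set.mem_sdiff, Finset.mem_coe]
  constructor
  · rintro ⟨⟨hy, hT'⟩, hU'⟩
    exact ⟨mem_cp_of_seen hy (Finset.union_subset hT' (hU'.trans Finset.sdiff_subset)),
      (mem_outs.1 hy).2⟩
  · rintro ⟨hy, hn⟩
    have hmem : ∀ e ∈ T ∪ U, e ∈ tt24 D O x → e ∈ seen D O x y := fun e he he' =>
      Finset.mem_filter.2 ⟨he', (hy.2 e (Finset.mem_coe.2 he)).2.symm⟩
    exact ⟨⟨mem_outs.2 ⟨hy.1, hn⟩, fun e he => hmem e (Finset.mem_union_left _ he) (hT he)⟩,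
      fun e he => Finset.mem_sdiff.2 ⟨hmem e (Finset.mem_union_right _ he) (Finset.mem_sdiff.1 (hU he)).1,
        (Finset.mem_sdiff.1 (hU he)).2⟩⟩

/-- Three seen members force exactly eight. -/
lemma seen_eight (hO : IsOct D O) (hx : x ∈ cp D (↑O : Set G)) {y : G} (hy : y ∈ outs D O x)
    (h3 : 3 ≤ (seen D O x y).card) : (seen D O x y).card = 8 := by
  obtain ⟨T, hTs, hT⟩ := Finset.exists_subset_card_eq h3
  have hTΩ : T ⊆ tt24 D O x := hTs.trans (Finset.filter_subset _ _)
  set R := (outs D O x).filter fun w => T ⊆ seen D O x w with hR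
  set A := tt24 D O x \ T with hA
  have hAc : A.card = 21 := by rw [hA, Finset.card_sdiff_of_subset hTΩ, card_tt24 S hO hx, hT]
  have key : ∀ i, i ≤ 2 → ∑ w ∈ R, ((seen D O x w \ T).card.choose i) =
      (Nat.choose 21 i) * (if i = 0 then 672 else if i = 1 then 160 else 32) := by
    intro i hi
    rw [double_count R A (fun w => seen D O x w \ T)
      (fun w _ => Finset.sdiff_subset_sdiff (Finset.filter_subset _ _) (le_refl T)) i]
    rw [Finset.sum_const_nat (m := if i = 0 then 672 else if i = 1 then 160 else 32),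
      Finset.card_powersetCard, hAc]
    intro U hU
    obtain ⟨hUA, hUc⟩ := Finset.mem_powersetCard.1 hU
    rw [card_seeing S hO hx hTΩ hUA]
    have hc : (T ∪ U).card = 3 + i := by
      rw [Finset.card_union_of_disjoint, hT, hUc]
      exact Finset.disjoint_left.2 fun e he he' => (Finset.mem_sdiff.1 (hUA he')).2 he
    have hsub : T ∪ U ⊆ tt24 D O x := Finset.union_subset hTΩ (hUA.trans Finset.sdiff_subset)
    obtain ⟨h4, h5⟩ := ncard_out S hO hx hsub
    interval_cases i
    · rw [h4 (by omega), hc]; rfl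
    · rw [h4 (by omega), hc]; rfl
    · rw [h5 (by omega)]; rfl
  have e0 := key 0 (by norm_num)
  have e1 := key 1 (by norm_num)
  have e2 := key 2 (by norm_num)
  simp only [Nat.choose_zero_right, Finset.sum_const, smul_eq_mul, mul_one, if_true, one_mul] at e0
  simp only [Nat.choose_one_right, one_ne_zero, if_false, if_true] at e1
  simp only [OfNat.ofNat_ne_zero, OfNat.ofNat_ne_one, if_false,
    show Nat.choose 21 2 = 210 by rfl] at e2
  have hz : ∑ w ∈ R, (((seen D O x w \ T).card : ℤ) - 5) ^ 2 = 0 := by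
    have hch : ∀ n : ℕ, ((n : ℤ) - 5) ^ 2 = 2 * (n.choose 2 : ℕ) - 9 * n + 25 := by
      intro n
      have h := Nat.choose_two_right n
      have hd : 2 ∣ n * (n - 1) := (Nat.even_mul_pred_self n).two_dvd
      have h2 : 2 * n.choose 2 = n * (n - 1) := by rw [h]; exact Nat.mul_div_cancel' hd
      rcases n with _ | m
      · norm_num
      · rw [Nat.add_sub_cancel] at h2
        have h2' : (2 : ℤ) * ((m + 1).choose 2 : ℕ) = (m + 1) * m := by exact_mod_cast h2
        push_cast
        linarith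
    simp_rw [hch]
    rw [Finset.sum_add_distrib, Finset.sum_sub_distrib, ← Finset.mul_sum, ← Finset.mul_sum,
      ← Nat.cast_sum, ← Nat.cast_sum, e1, e2, Finset.sum_const, e0]
    norm_num
  have hyR : y ∈ R := Finset.mem_filter.2 ⟨hy, hTs⟩
  have h5 := (Finset.sum_eq_zero_iff_of_nonneg fun w _ => sq_nonneg _).1 hz y hyR
  have h5' : (seen D O x y \ T).card = 5 := by
    have := pow_eq_zero_iff (n := 2) (by norm_num) |>.1 h5
    omega
  rw [Finset.card_sdiff_of_subset hTs, hT] at h5'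
  omega

/-- Nothing avoids the whole clique. -/
lemma seen_pos (hO : IsOct D O) (hx : x ∈ cp D (↑O : Set G)) {y : G} (hy : y ∈ outs D O x) :
    0 < (seen D O x y).card := by
  set R := outs D O x with hR
  have hRc : R.card = 306912 := by
    rw [hR, outs, ← Set.ncard_eq_toFinset_card,
      Set.ncard_sdiff (S.cliq_tt24 hO hx).1 (Finset.finite_toSet _), Set.ncard_coe_finset,
      card_tt24 S hO hx]
    have := S.ncard_cp (M := ∅) ⟨by simp, by intro a ha; simp at ha⟩ (k := 0) (by norm_num) rfl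
    rw [Finset.coe_empty, cp_empty] at this
    rw [this]
    rfl
  have key : ∀ i, 1 ≤ i → i ≤ 3 → ∑ w ∈ R, ((seen D O x w).card.choose i) =
      (Nat.choose 24 i) * (if i = 1 then 31648 else if i = 2 then 3488 else 672) := by
    intro i h1 hi
    rw [double_count R (tt24 D O x) (fun w => seen D O x w) (fun w _ => Finset.filter_subset _ _) i]
    rw [Finset.sum_const_nat (m := if i = 1 then 31648 else if i = 2 then 3488 else 672),
      Finset.card_powersetCard, card_tt24 S hO hx]
    intro U hU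
    obtain ⟨hUA, hUc⟩ := Finset.mem_powersetCard.1 hU
    have := card_seeing S hO hx (T := ∅) (Finset.empty_subset _) (U := U)
      (by rw [Finset.sdiff_empty]; exact hUA)
    simp only [Finset.empty_subset, Finset.filter_true, Finset.sdiff_empty, Finset.empty_union] at this
    rw [this, (ncard_out S hO hx hUA).1 (by omega), hUc]
    interval_cases i <;> rfl
  have e1 := key 1 le_rfl (by norm_num)
  have e2 := key 2 (by norm_num) (by norm_num)
  have e3 := key 3 (by norm_num) le_rfl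
  have hc24 : Nat.choose 24 1 = 24 ∧ Nat.choose 24 2 = 276 ∧ Nat.choose 24 3 = 2024 := ⟨rfl, rfl, rfl⟩
  obtain ⟨c1, c2, c3⟩ := hc24
  rw [c1] at e1
  rw [c2] at e2
  rw [c3] at e3
  norm_num at e1 e2 e3
  let f : ℕ → ℤ := fun k => 8 - 8 * k + 8 * (k.choose 2 : ℕ) - 3 * (k.choose 3 : ℕ)
  have hf : ∀ w ∈ R, 0 ≤ f (seen D O x w).card ∧ ((seen D O x w).card = 0 → f (seen D O x w).card = 8) := by
    intro w hw
    by_cases h3 : 3 ≤ (seen D O x w).card
    · rw [seen_eight S hO hx hw h3]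
      exact ⟨by decide, fun h => absurd h (by norm_num)⟩
    · obtain ⟨k, hk⟩ : ∃ k, (seen D O x w).card = k := ⟨_, rfl⟩
      rw [hk] at h3 ⊢
      have h3' : k < 3 := by omega
      interval_cases k <;> decide
  have hsum : ∑ w ∈ R, f (seen D O x w).card = 0 := by
    simp only [f, Finset.sum_sub_distrib, Finset.sum_add_distrib, Finset.sum_const, ← Finset.mul_sum,
      ← Nat.cast_sum, hRc]
    rw [e2, e3]
    have : (∑ w ∈ R, (seen D O x w).card) = 24 * 31648 := by simpa using e1
    rw [this]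
    norm_num
  by_contra h0
  have := (Finset.sum_eq_zero_iff_of_nonneg fun w hw => (hf w hw).1).1 hsum y hy
  rw [(hf y hy).2 (by omega)] at this
  norm_num at this

end H49.Sextet
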