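/-
The sets of four commuting members of a class of type M(24) with a given product.
-/
import Cfsg.Agent.H49.Sextet.Count
import Cfsg.Agent.H99.Fischer.Cliques

set_option autoImplicit false
set_option linter.unusedSectionVars false

namespace H49.Sextet

open Cfsg H99 H49.Parity
open scoped Classical symmDiff

variable {G : Type*} [Group G] [Finite G] {D : Set G} {z : G}

/-- Four commuting members with product `z`. -/
def IsTet (D : Set G) (z : G) (T : Finset G) : Prop := Cliq D T ∧ T.card = 4 ∧ pp T = z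

lemma IsTet.nonempty {T : Finset G} (hT : IsTet D z T) : T.Nonempty :=
  Finset.card_pos.1 (by rw [hT.2.1]; norm_num)

lemma IsTet.commute_z {T : Finset G} (hT : IsTet D z T) {a : G} (ha : a ∈ T) : Commute a z :=
  hT.2.2 ▸ commute_pp hT.1.2 fun u hu => hT.1.2 a ha u hu

lemma pp_toFinset : ∀ l : List G, l.Nodup → (∀ a ∈ l, ∀ b ∈ l, Commute a b) →
    pp l.toFinset = l.prod
  | [], _, _ => by simp [pp_empty]
  | a :: t, hn, hc => by
    obtain ⟨ha, ht⟩ := List.nodup_cons.1 hn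
    rw [List.toFinset_cons, pp_insert (fun u hu v hv => hc u
        (by simpa using hu) v (by simpa using hv)) (by simpa using ha),
      pp_toFinset t ht (fun u hu v hv => hc u (List.mem_cons_of_mem a hu) v (List.mem_cons_of_mem a hv)),
      List.prod_cons]

variable (S : Ctx D)
include S

/-- No relation of at most six commuting members. -/
lemma no_rel_six {U : Finset G} (hU : Cliq D U) (hc : U.card ≤ 6) (h1 : pp U = 1) : U = ∅ := by
  by_contra hne
  have hne' : U.Nonempty := Finset.nonempty_iff_ne_empty.2 hne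
  by_cases h4 : U.card ≤ 4
  · exact S.pp_ne_one hU hne' h4 h1
  obtain ⟨M, hMU, hM⟩ := Finset.exists_subset_card_eq (s := U) (n := 5) (by omega)
  obtain ⟨O, ⟨hO, hMO⟩, -⟩ := S.oct_five (hU.mono hMU) hM
  have hcl : Cliq D (U ∪ O) := by
    refine ⟨?_, ?_⟩
    · rw [Finset.coe_union]; exact Set.union_subset hU.1 hO.1.1
    · intro a ha b hb
      have key : ∀ a ∈ U, ∀ b ∈ O, Commute a b := by
        intro a ha b hb
        by_cases haO : a ∈ O
        · exact hO.1.2 a haO b hb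
        have haM : a ∈ cp D (↑M : Set G) := ⟨hU.1 (Finset.mem_coe.2 ha), fun m hm =>
          ⟨fun e => haO (e ▸ hMO (Finset.mem_coe.1 hm)), hU.2 m (hMU (Finset.mem_coe.1 hm)) a ha⟩⟩
        exact ((S.cp_five hO hMO hM haM haO).2 b (Finset.mem_coe.2 hb)).2.symm
      rcases Finset.mem_union.1 ha with ha | ha <;> rcases Finset.mem_union.1 hb with hb | hb
      · exact hU.2 a ha b hb
      · exact key a ha b hb
      · exact (key b hb a ha).symm
      · exact hO.1.2 a ha b hb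
  have hpp : pp (U ∆ O) = 1 := by
    rw [pp_symmDiff hcl.2 (hcl.sq S.tt), h1, S.pp_oct hO, one_mul]
  have hsub : U ∆ O ⊆ U ∪ O := fun w hw => by
    rcases Finset.mem_symmDiff.1 hw with h | h
    exacts [Finset.mem_union_left _ h.1, Finset.mem_union_right _ h.1]
  have hcd := card_symmDiff_add U O
  rw [hO.2.1] at hcd
  have h5 : 5 ≤ (U ∩ O).card := hM ▸ Finset.card_le_card (Finset.subset_inter hMU hMO)
  have hi : (U ∩ O).card ≤ U.card := Finset.card_le_card Finset.inter_subset_left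
  exact S.pp_ne_one (hcl.mono hsub) (Finset.card_pos.1 (by omega)) (by omega) hpp

/-- A member commuting with `z` and one of a tetrad commutes with all of it. -/
lemma tet_all {T : Finset G} (hT : IsTet D z T) {x : G} (hx : x ∈ D) (hxz : Commute x z)
    {a : G} (ha : a ∈ T) (hxa : Commute x a) : ∀ b ∈ T, Commute x b := by
  intro b hb
  by_cases hba : b = a
  · exact hba ▸ hxa
  have hTe : T = insert a (T.erase a) := (Finset.insert_erase ha).symm
  have hz : z = a * pp (T.erase a) := by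
    rw [← pp_insert (by rw [← hTe]; exact hT.1.2) (Finset.notMem_erase a T), ← hTe, hT.2.2]
  have hxp : Commute x (pp (T.erase a)) := by
    have := hxa.inv_right.mul_right hxz
    rwa [hz, inv_mul_cancel_left] at this
  set l := (T.erase a).toList with hl
  have hcl : H99.Fi.IsCl D l := ⟨Finset.nodup_toList _, fun u hu =>
      hT.1.1 (Finset.mem_coe.2 (Finset.mem_of_mem_erase (Finset.mem_toList.1 hu))),
    fun u hu v hv => hT.1.2 u (Finset.mem_of_mem_erase (Finset.mem_toList.1 hu)) v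
      (Finset.mem_of_mem_erase (Finset.mem_toList.1 hv))⟩
  have hlp : l.prod = pp (T.erase a) := by
    rw [← pp_toFinset l hcl.1 hcl.2.2, Finset.toList_toFinset]
  refine hcl.commute_of_prod S.tt S.conj ?_ hx (hlp ▸ hxp) b
    (Finset.mem_toList.2 (Finset.mem_erase.2 ⟨hba, hb⟩))
  rw [hl, Finset.length_toList, Finset.card_erase_of_mem ha, hT.2.1]

lemma cp_of_commute {T : Finset G} (hT : IsTet D z T) {x : G} (hx : x ∈ D) (hxz : Commute x z)
    {a : G} (ha : a ∈ T) (hxa : Commute x a) (hn : x ∉ T) : x ∈ cp D (↑T : Set G) :=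
  ⟨hx, fun m hm => ⟨fun e => hn (e ▸ Finset.mem_coe.1 hm),
    (tet_all S hT hx hxz ha hxa m (Finset.mem_coe.1 hm)).symm⟩⟩

/-- A tetrad and one common partner give an octad, the rest of which is a tetrad. -/
lemma tet_compl {T : Finset G} (hT : IsTet D z T) {y : G} (hy : y ∈ cp D (↑T : Set G)) :
    ∃ O, IsOct D O ∧ T ⊆ O ∧ y ∈ O ∧ IsTet D z (O \ T) ∧ y ∈ O \ T := by
  have hM := cliq_insert hT.1 hy
  have hc : (insert y T).card = 5 := by
    rw [Finset.card_insert_of_notMem (notMem_of_cp hy), hT.2.1]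
  obtain ⟨O, ⟨hO, hMO⟩, -⟩ := S.oct_five hM hc
  have hTO : T ⊆ O := (Finset.subset_insert y T).trans hMO
  have hyO : y ∈ O := hMO (Finset.mem_insert_self y T)
  refine ⟨O, hO, hTO, hyO, ⟨hO.1.mono Finset.sdiff_subset, ?_, ?_⟩,
    Finset.mem_sdiff.2 ⟨hyO, notMem_of_cp hy⟩⟩
  · rw [Finset.card_sdiff_of_subset hTO, hO.2.1, hT.2.1]
  · have h := pp_union (U := T) (V := O \ T) (by
      rw [Finset.union_sdiff_of_subset hTO]; exact hO.1.2) Finset.disjoint_sdiff
    rw [Finset.union_sdiff_of_subset hTO, S.pp_oct hO, hT.2.2] at h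
    have h2 : z * z = 1 := hT.2.2 ▸ pp_sq hT.1.2 (hT.1.sq S.tt)
    have := congrArg (z * ·) h
    simp only [mul_one, ← mul_assoc, h2, one_mul] at this
    exact this.symm

/-- Tetrads sharing a member coincide. -/
lemma tet_eq {T T' : Finset G} (hT : IsTet D z T) (hT' : IsTet D z T') {x : G} (hx : x ∈ T)
    (hx' : x ∈ T') : T = T' := by
  have hcl : Cliq D (T ∪ T') := by
    refine ⟨?_, ?_⟩
    · rw [Finset.coe_union]; exact Set.union_subset hT.1.1 hT'.1.1
    · intro a ha b hb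
      have key : ∀ a ∈ T', ∀ b ∈ T, Commute a b := fun a ha b hb =>
        tet_all S hT (hT'.1.1 (Finset.mem_coe.2 ha)) (hT'.commute_z ha) hx (hT'.1.2 a ha x hx') b hb
      rcases Finset.mem_union.1 ha with ha | ha <;> rcases Finset.mem_union.1 hb with hb | hb
      · exact hT.1.2 a ha b hb
      · exact (key b hb a ha).symm
      · exact key a ha b hb
      · exact hT'.1.2 a ha b hb
  have hpp : pp (T ∆ T') = 1 := by
    rw [pp_symmDiff hcl.2 (hcl.sq S.tt), hT.2.2, hT'.2.2]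
    exact hT.2.2 ▸ pp_sq hT.1.2 (hT.1.sq S.tt)
  have hsub : T ∆ T' ⊆ T ∪ T' := fun w hw => by
    rcases Finset.mem_symmDiff.1 hw with h | h
    exacts [Finset.mem_union_left _ h.1, Finset.mem_union_right _ h.1]
  have hcd := card_symmDiff_add T T'
  rw [hT.2.1, hT'.2.1] at hcd
  have h1 : 1 ≤ (T ∩ T').card := Finset.card_pos.2 ⟨x, Finset.mem_inter.2 ⟨hx, hx'⟩⟩
  have he := no_rel_six S (hcl.mono hsub) (by omega) hpp
  exact symmDiff_eq_bot.1 (by rw [he]; rfl)

/-- Two tetrads either form an octad or have no commuting pairs across. -/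
lemma tet_cases {T T' : Finset G} (hT : IsTet D z T) (hT' : IsTet D z T') (hne : T ≠ T') :
    IsOct D (T ∪ T') ∨ ∀ a ∈ T, ∀ b ∈ T', ¬ Commute a b := by
  by_cases h : ∀ a ∈ T, ∀ b ∈ T', ¬ Commute a b
  · exact Or.inr h
  push Not at h
  obtain ⟨a, ha, b, hb, hab⟩ := h
  have hbn : b ∉ T := fun h => hne (tet_eq S hT hT' h hb)
  obtain ⟨O, hO, hTO, hbO, hT'', hb''⟩ := tet_compl S hT
    (cp_of_commute S hT (hT'.1.1 (Finset.mem_coe.2 hb)) (hT'.commute_z hb) ha hab.symm hbn)
  rw [tet_eq S hT' hT'' hb hb'', Finset.union_sdiff_of_subset hTO]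
  exact Or.inl hO

lemma tet_disjoint {T T' : Finset G} (hT : IsTet D z T) (hT' : IsTet D z T') (hne : T ≠ T') :
    Disjoint T T' :=
  Finset.disjoint_left.2 fun _ h h' => hne (tet_eq S hT hT' h h')

/-- A clique of twenty-four through a tetrad splits into tetrads. -/
lemma tet_part {O : Finset G} {w : G} (hO : IsOct D O) (hw : w ∈ cp D (↑O : Set G))
    {T : Finset G} (hT : IsTet D z T) (hTΩ : T ⊆ tt24 D O w) {e : G} (he : e ∈ tt24 D O w) :
    Commute e z ∧ ∃ T', IsTet D z T' ∧ T' ⊆ tt24 D O w ∧ e ∈ T' := by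
  have hcl := S.cliq_tt24 hO hw
  refine ⟨hT.2.2 ▸ commute_pp hT.1.2 fun u hu => hcl.2 e he u (hTΩ hu), ?_⟩
  by_cases heT : e ∈ T
  · exact ⟨T, hT, hTΩ, heT⟩
  have hy : e ∈ cp D (↑T : Set G) := ⟨hcl.1 (Finset.mem_coe.2 he), fun m hm =>
    ⟨fun h => heT (h ▸ Finset.mem_coe.1 hm), hcl.2 m (hTΩ (Finset.mem_coe.1 hm)) e he⟩⟩
  obtain ⟨O', hO', hTO', heO', hT', heT'⟩ := tet_compl S hT hy
  refine ⟨O' \ T, hT', Finset.sdiff_subset.trans ?_, heT'⟩
  refine oct_sub S hO hw hO' (M := insert e T) (Finset.insert_subset heO' hTO') ?_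
    (Finset.insert_subset he hTΩ)
  rw [Finset.card_insert_of_notMem heT, hT.2.1]

lemma tet_clique {T : Finset G} (hT : IsTet D z T) :
    ∃ O w, IsOct D O ∧ w ∈ cp D (↑O : Set G) ∧ T ⊆ tt24 D O w := by
  obtain ⟨y, hy⟩ := Set.nonempty_of_ncard_ne_zero (s := cp D (↑T : Set G))
    (by rw [S.ncard_cp hT.1 (k := 4) le_rfl hT.2.1]; simp [Ctx.E])
  obtain ⟨O, hO, hTO, -, -, -⟩ := tet_compl S hT hy
  obtain ⟨w, hw⟩ := Set.nonempty_of_ncard_ne_zero (s := cp D (↑O : Set G))
    (by rw [hO.2.2]; norm_num)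
  exact ⟨O, w, hO, hw, hTO.trans Finset.subset_union_left⟩

/-- Every member commuting with `z` lies in a tetrad. -/
lemma tet_cover {T : Finset G} (hT : IsTet D z T) {x : G} (hx : x ∈ D) (hxz : Commute x z) :
    ∃ T', IsTet D z T' ∧ x ∈ T' := by
  obtain ⟨O, w, hO, hw, hTΩ⟩ := tet_clique S hT
  by_cases hxΩ : x ∈ tt24 D O w
  · obtain ⟨-, T', h1, -, h2⟩ := tet_part S hO hw hT hTΩ hxΩ
    exact ⟨T', h1, h2⟩
  obtain ⟨e, he⟩ := Finset.card_pos.1 (seen_pos S hO hw (mem_outs.2 ⟨hx, hxΩ⟩))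
  obtain ⟨heΩ, hxe⟩ := Finset.mem_filter.1 he
  obtain ⟨-, T1, h1, hsub, h2⟩ := tet_part S hO hw hT hTΩ heΩ
  obtain ⟨O', -, -, -, h3, h4⟩ := tet_compl S h1
    (cp_of_commute S h1 hx hxz h2 hxe fun h => hxΩ (hsub h))
  exact ⟨_, h3, h4⟩

lemma tet_cimg {T : Finset G} (hT : IsTet D z T) {g : G} (hg : Commute g z) :
    IsTet D z (cimg g T) := by
  refine ⟨cliq_cimg S.conj g hT.1, by rw [card_cimg, hT.2.1], ?_⟩
  rw [Ctx.pp_cimg g hT.1.2, hT.2.2]
  exact conj_eq_of_commute hg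

/-- A member of one tetrad moves another to the tetrad of the third points. -/
lemma tet_reflect {T T' : Finset G} (hT : IsTet D z T) (hT' : IsTet D z T')
    (hn : ∀ a ∈ T, ∀ b ∈ T', ¬ Commute a b) {x a : G} (hx : x ∈ T) (ha : a ∈ T') :
    cimg x T' = cimg a T := by
  refine tet_eq S (tet_cimg S hT' (hT.commute_z hx)) (tet_cimg S hT (hT'.commute_z ha))
    (x := x * a * x⁻¹) (Finset.mem_image_of_mem _ ha) ?_
  have hxD := hT.1.1 (Finset.mem_coe.2 hx)
  have haD := hT'.1.1 (Finset.mem_coe.2 ha)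
  refine Finset.mem_image.2 ⟨x, hx, ?_⟩
  rw [tt_inv S.tt haD, tt_inv S.tt hxD, tt_braid S.tt hxD haD (hn x hx a ha)]

lemma tet_fixed {T T' : Finset G} (hO : IsOct D (T ∪ T')) {x : G} (hx : x ∈ T) : cimg x T' = T' := by
  refine (Finset.image_congr fun a ha => ?_).trans Finset.image_id
  exact conj_eq_of_commute (hO.1.2 x (Finset.mem_union_left _ hx) a
    (Finset.mem_union_right _ (Finset.mem_coe.1 ha)))

end H49.Sextet
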