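/-
The tetrads of a product form a system.
-/
import Cfsg.Agent.H49.Sextet.Tetrads
import Cfsg.Agent.H49.Sextet.AutBound

set_option autoImplicit false
set_option linter.unusedSectionVars false

namespace H49.Sextet

open Cfsg H99 H49.Parity
open scoped Classical symmDiff

variable {G : Type*} [Group G] [Finite G] {D : Set G} {z : G}

/-- The tetrads of `z`. -/
abbrev Tet (D : Set G) (z : G) : Type _ := {T : Finset G // IsTet D z T}

noncomputable instance : Fintype (Tet D z) := Fintype.ofFinite {T : Finset G // IsTet D z T}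

lemma Tet.ext' {T T' : Tet D z} (h : T.1 = T'.1) : T = T' := Subtype.ext h

/-- A chosen member. -/
noncomputable def Tet.rep (T : Tet D z) : G := T.2.nonempty.choose

lemma Tet.rep_mem (T : Tet D z) : T.rep ∈ T.1 := T.2.nonempty.choose_spec

/-- Commuting tetrads. -/
def TAdj (T U : Tet D z) : Prop := T ≠ U ∧ ∀ a ∈ T.1, ∀ b ∈ U.1, Commute a b

variable (S : Ctx D)
include S

/-- Conjugation by an element commuting with `z`. -/
noncomputable def tconj (g : G) (hg : Commute g z) (T : Tet D z) : Tet D z :=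
  ⟨cimg g T.1, tet_cimg S T.2 hg⟩

lemma tconj_adj (g : G) (hg : Commute g z) (T U : Tet D z) :
    TAdj (tconj S g hg T) (tconj S g hg U) ↔ TAdj T U := by
  have hinj : ∀ {T U : Tet D z}, tconj S g hg T = tconj S g hg U → T = U := fun {T U} h => by
    have := congrArg (cimg g⁻¹) (congrArg Subtype.val h)
    simp only [tconj, cimg_inv] at this
    exact Tet.ext' this
  constructor
  · rintro ⟨hne, h⟩
    exact ⟨fun e => hne (e ▸ rfl), fun a ha b hb => (conj_commute_iff g a b).1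
      (h _ (Finset.mem_image_of_mem _ ha) _ (Finset.mem_image_of_mem _ hb))⟩
  · rintro ⟨hne, h⟩
    refine ⟨fun e => hne (hinj e), fun a ha b hb => ?_⟩
    obtain ⟨a', ha', rfl⟩ := Finset.mem_image.1 ha
    obtain ⟨b', hb', rfl⟩ := Finset.mem_image.1 hb
    exact (conj_commute_iff g a' b').2 (h a' ha' b' hb')

/-- The reflection of a tetrad. -/
noncomputable def tref (T U : Tet D z) : Tet D z :=
  tconj S T.rep (T.2.commute_z T.rep_mem) U

lemma tadj_iff (T U : Tet D z) : TAdj T U ↔ T ≠ U ∧ IsOct D (T.1 ∪ U.1) := by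
  constructor
  · rintro ⟨hne, h⟩
    rcases tet_cases S T.2 U.2 (fun e => hne (Tet.ext' e)) with hO | hn
    · exact ⟨hne, hO⟩
    · exact absurd (h _ T.rep_mem _ U.rep_mem) (hn _ T.rep_mem _ U.rep_mem)
  · rintro ⟨hne, hO⟩
    exact ⟨hne, fun a ha b hb =>
      hO.1.2 a (Finset.mem_union_left _ ha) b (Finset.mem_union_right _ hb)⟩

lemma nadj {T U : Tet D z} (hne : T ≠ U) (h : ¬ TAdj T U) :
    ∀ a ∈ T.1, ∀ b ∈ U.1, ¬ Commute a b := by
  rcases tet_cases S T.2 U.2 (fun e => hne (Tet.ext' e)) with hO | hn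
  · exact absurd ((tadj_iff S T U).2 ⟨hne, hO⟩) h
  · exact hn

lemma cimg_self {T : Tet D z} {x : G} (hx : x ∈ T.1) : cimg x T.1 = T.1 :=
  (Finset.image_congr fun a ha => conj_eq_of_commute (T.2.1.2 x hx a (Finset.mem_coe.1 ha))).trans
    Finset.image_id

/-- The reflection does not depend on the member. -/
lemma tref_eq {T U : Tet D z} {x : G} (hx : x ∈ T.1) : (tref S T U).1 = cimg x U.1 := by
  show cimg T.rep U.1 = cimg x U.1
  by_cases hTU : T = U
  · subst hTU; rw [cimg_self S T.rep_mem, cimg_self S hx]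
  by_cases hA : TAdj T U
  · rw [tet_fixed S ((tadj_iff S T U).1 hA).2 T.rep_mem, tet_fixed S ((tadj_iff S T U).1 hA).2 hx]
  · obtain ⟨b, hb⟩ := U.2.nonempty
    rw [tet_reflect S T.2 U.2 (nadj S hTU hA) T.rep_mem hb, tet_reflect S T.2 U.2 (nadj S hTU hA) hx hb]

lemma tref_val (T U : Tet D z) : (tref S T U).1 = cimg T.rep U.1 := rfl

lemma third_ne {T U : Tet D z} (hne : T ≠ U) (hA : ¬ TAdj T U) :
    tref S T U ≠ T ∧ tref S T U ≠ U ∧ ¬ TAdj T (tref S T U) ∧ ¬ TAdj U (tref S T U) := by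
  have hn := nadj S hne hA
  have hx := T.rep_mem
  have ha := U.rep_mem
  set x := T.rep
  set a := U.rep
  have hxD := T.2.1.1 (Finset.mem_coe.2 hx)
  have haD := U.2.1.1 (Finset.mem_coe.2 ha)
  have hmem : x * a * x⁻¹ ∈ (tref S T U).1 := Finset.mem_image_of_mem _ ha
  have hxa := hn x hx a ha
  have h1 : ¬ Commute x (x * a * x⁻¹) := fun h => hxa (by
    have := (conj_commute_iff x x a).1 (by rwa [show x * x * x⁻¹ = x by group])
    exact this)
  have h2 : ¬ Commute a (x * a * x⁻¹) := fun h => hxa (by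
    have hb := tt_braid S.tt hxD haD hxa
    rw [tt_inv S.tt hxD, hb] at h
    have h' := (conj_commute_iff a a x).1 (by
      rwa [show a * a * a⁻¹ = a by group, tt_inv S.tt haD])
    exact h'.symm)
  refine ⟨fun e => h1 ?_, fun e => h2 ?_, fun h => h1 (h.2 x hx _ hmem), fun h => h2 (h.2 a ha _ hmem)⟩
  · exact T.2.1.2 x hx _ (e ▸ hmem)
  · exact U.2.1.2 a ha _ (e ▸ hmem)

lemma cp_part {O : Finset G} (hO : IsOct D O) {T : Finset G} (hT : IsTet D z T) (hTO : T ⊆ O)
    {y : G} (hy : y ∈ cp D (↑O : Set G)) : ∃ U : Tet D z, y ∈ U.1 := by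
  have hTcp : y ∈ cp D (↑T : Set G) :=
    ⟨hy.1, fun m hm => hy.2 m (Finset.mem_coe.2 (hTO (Finset.mem_coe.1 hm)))⟩
  obtain ⟨O', -, -, -, h1, h2⟩ := tet_compl S hT hTcp
  exact ⟨⟨_, h1⟩, h2⟩

/-- A set of tetrads partitions what its members meet. -/
lemma card_of_partition (A : Finset (Tet D z)) (s : Set G)
    (h1 : ∀ T ∈ A, (↑T.1 : Set G) ⊆ s) (h2 : ∀ y ∈ s, ∃ T ∈ A, y ∈ T.1) :
    4 * A.card = s.ncard := by
  have he : s = ↑(A.biUnion fun T => T.1) := by
    ext y
    simp only [Finset.coe_biUnion, Set.mem_iUnion, Finset.mem_coe]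
    exact ⟨fun hy => by obtain ⟨T, hT, hyT⟩ := h2 y hy; exact ⟨T, hT, hyT⟩,
      fun ⟨T, hT, hyT⟩ => h1 T hT (Finset.mem_coe.2 hyT)⟩
  rw [he, Set.ncard_coe_finset, Finset.card_biUnion (fun T _ U _ hne =>
    tet_disjoint S T.2 U.2 fun e => hne (Tet.ext' e)),
    Finset.sum_const_nat (m := 4) (fun T _ => T.2.2.1), mul_comm]

lemma adj_both {a b c : Tet D z} (ha : TAdj a c) (hb : TAdj b c) (hab : TAdj a b) {y : G}
    (hy : y ∈ c.1) : y ∈ cp D (↑(a.1 ∪ b.1) : Set G) := by
  refine ⟨c.2.1.1 (Finset.mem_coe.2 hy), fun m hm => ⟨fun e => ?_, ?_⟩⟩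
  · rcases Finset.mem_union.1 (Finset.mem_coe.1 hm) with h | h
    · exact ha.1 (Tet.ext' (tet_eq S a.2 c.2 h (e ▸ hy)))
    · exact hb.1 (Tet.ext' (tet_eq S b.2 c.2 h (e ▸ hy)))
  · rcases Finset.mem_union.1 (Finset.mem_coe.1 hm) with h | h
    · exact ha.2 m h y hy
    · exact hb.2 m h y hy

lemma adj_of_cp {a b : Tet D z} {y : G} (hy : y ∈ cp D (↑(a.1 ∪ b.1) : Set G)) {U : Tet D z}
    (hU : y ∈ U.1) : TAdj a U ∧ TAdj b U := by
  have key : ∀ T : Tet D z, T.1 ⊆ a.1 ∪ b.1 → TAdj T U := by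
    intro T hT
    have hne : T ≠ U := fun e => notMem_of_cp hy (hT (e ▸ hU))
    refine Classical.byContradiction fun hn => nadj S hne hn _ T.rep_mem y hU ?_
    exact (hy.2 _ (Finset.mem_coe.2 (hT T.rep_mem))).2
  exact ⟨key a Finset.subset_union_left, key b Finset.subset_union_right⟩

/-- The system of the tetrads. -/
noncomputable def sys : Sys (Tet D z) where
  Adj := TAdj
  r := tref S
  symm := fun {t u} h => ⟨h.1.symm, fun a ha b hb => (h.2 b hb a ha).symm⟩
  irrefl := fun {t} h => h.1 rfl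
  fix_self := fun t => Tet.ext' (cimg_self S t.rep_mem)
  fix_adj := fun {t u} h => Tet.ext' (tet_fixed S ((tadj_iff S t u).1 h).2 t.rep_mem)
  invol := fun t u => Tet.ext' (by
    rw [tref_val, tref_val, cimg_cimg, tt_mul_self S.tt (t.2.1.1 (Finset.mem_coe.2 t.rep_mem)),
      cimg_one])
  map_adj := fun t {u v} h => (tconj_adj S _ _ u v).2 h
  swap := fun {t u} hne hA => Tet.ext' (by
    rw [tref_val, tref_val]
    exact tet_reflect S t.2 u.2 (nadj S hne hA) t.rep_mem u.rep_mem)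
  third := fun {t u} hne hA => third_ne S hne hA
  conj := fun t u w => Tet.ext' (by
    rw [tref_eq S (T := tref S t u) (x := t.rep * u.rep * t.rep⁻¹)
      (Finset.mem_image_of_mem _ u.rep_mem), tref_val, tref_val, tref_val, cimg_cimg, cimg_cimg]
    congr 1
    rw [tt_inv S.tt (t.2.1.1 (Finset.mem_coe.2 t.rep_mem))])
  common := fun {a b} h => by
    have hO := ((tadj_iff S a b).1 h).2
    let A := Finset.univ.filter fun c : Tet D z => TAdj a c ∧ TAdj b c
    have h4 := card_of_partition S A (cp D (↑(a.1 ∪ b.1) : Set G))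
      (fun T hT y hy => adj_both S (Finset.mem_filter.1 hT).2.1 (Finset.mem_filter.1 hT).2.2 h
        (Finset.mem_coe.1 hy))
      (fun y hy => by
        obtain ⟨U, hU⟩ := cp_part S hO a.2 Finset.subset_union_left hy
        exact ⟨U, Finset.mem_filter.2 ⟨Finset.mem_univ _, adj_of_cp S hy hU⟩, hU⟩)
    rw [hO.2.2] at h4
    rw [show {c | TAdj a c ∧ TAdj b c} = (↑A : Set (Tet D z)) by ext c; simp [A],
      Set.ncard_coe_finset]
    omega
  triple := fun {a b c} hab hac hbc => by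
    have hO := ((tadj_iff S a b).1 hab).2
    have hc := adj_both S hac hbc hab c.rep_mem
    set O := a.1 ∪ b.1 with hOdef
    set x := c.rep
    have hplane : ∀ d : Tet D z, TAdj a d → TAdj b d → TAdj c d → d.1 ⊆ plane D O x \ c.1 := by
      intro d h1 h2 h3 y hy
      exact Finset.mem_sdiff.2 ⟨mem_plane.2 ⟨adj_both S h1 h2 hab hy, h3.2 x c.rep_mem y hy⟩,
        fun h => h3.1 (Tet.ext' (tet_eq S c.2 d.2 h hy))⟩
    refine ⟨?_, fun d d' h1 h2 h3 h1' h2' h3' hne => ⟨hne, fun y hy y' hy' => ?_⟩⟩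
    · let A := Finset.univ.filter fun d : Tet D z => TAdj a d ∧ TAdj b d ∧ TAdj c d
      have h4 := card_of_partition S A (↑(plane D O x \ c.1) : Set G)
        (fun T hT => by
          obtain ⟨h1, h2, h3⟩ := (Finset.mem_filter.1 hT).2
          exact_mod_cast hplane T h1 h2 h3)
        (fun y hy => by
          obtain ⟨hy1, hy2⟩ := Finset.mem_sdiff.1 (Finset.mem_coe.1 hy)
          obtain ⟨hycp, hxy⟩ := mem_plane.1 hy1
          obtain ⟨U, hU⟩ := cp_part S hO a.2 Finset.subset_union_left hycp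
          refine ⟨U, Finset.mem_filter.2 ⟨Finset.mem_univ _, (adj_of_cp S hycp hU).1,
            (adj_of_cp S hycp hU).2, ?_⟩, hU⟩
          have hne : c ≠ U := fun e => hy2 (e ▸ hU)
          exact Classical.byContradiction fun hn => nadj S hne hn x c.rep_mem y hU hxy)
      have hsub : c.1 ⊆ plane D O x := fun y hy =>
        mem_plane.2 ⟨adj_both S hac hbc hab hy, c.2.1.2 x c.rep_mem y hy⟩
      rw [Set.ncard_coe_finset, Finset.card_sdiff_of_subset hsub, S.card_plane hO hc, c.2.2.1] at h4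
      rw [show {d | TAdj a d ∧ TAdj b d ∧ TAdj c d} = (↑A : Set (Tet D z)) by ext d; simp [A],
        Set.ncard_coe_finset]
      omega
    · have e := (Finset.mem_sdiff.1 (hplane d h1 h2 h3 hy)).1
      have e' := (Finset.mem_sdiff.1 (hplane d' h1' h2' h3' hy')).1
      exact (S.cliq_tt24 hO hc).2 y (Finset.mem_union_right _ e) y' (Finset.mem_union_right _ e')
  two := fun Φ t hc hcl htΦ => by
    obtain ⟨a, b, c, ha, hb, hc', hab, hac, hbc⟩ := Finset.two_lt_card_iff.1
      (show 2 < Φ.card by omega)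
    have hAab := hcl a ha b hb hab
    have hO := ((tadj_iff S a b).1 hAab).2
    have hx := adj_both S (hcl a ha c hc' hac) (hcl b hb c hc' hbc) hAab c.rep_mem
    set O := a.1 ∪ b.1 with hOdef
    set x := c.rep
    set Ω := tt24 D O x
    have hsub : ∀ d ∈ Φ, d.1 ⊆ Ω := by
      intro d hd y hy
      by_cases hda : d = a
      · exact Finset.mem_union_left _ (Finset.mem_union_left _ (hda ▸ hy))
      by_cases hdb : d = b
      · exact Finset.mem_union_left _ (Finset.mem_union_right _ (hdb ▸ hy))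
      refine Finset.mem_union_right _ (mem_plane.2 ⟨adj_both S
        (hcl a ha d hd fun e => hda e.symm) (hcl b hb d hd fun e => hdb e.symm) hAab hy, ?_⟩)
      by_cases hdc : d = c
      · exact c.2.1.2 x c.rep_mem y (hdc ▸ hy)
      · exact (hcl c hc' d hd fun e => hdc e.symm).2 x c.rep_mem y hy
    have hunion : (Φ.biUnion fun d => d.1) = Ω := by
      refine Finset.eq_of_subset_of_card_le (fun y hy => ?_) ?_
      · obtain ⟨d, hd, hyd⟩ := Finset.mem_biUnion.1 hy
        exact hsub d hd hyd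
      · rw [Finset.card_biUnion (fun T _ U _ hne => tet_disjoint S T.2 U.2 fun e => hne (Tet.ext' e)),
          Finset.sum_const_nat (m := 4) (fun T _ => T.2.2.1), hc, card_tt24 S hO hx]
    have hy0 := t.rep_mem
    set y := t.rep
    have hyn : y ∉ Ω := fun h => by
      rw [← hunion] at h
      obtain ⟨d, hd, hyd⟩ := Finset.mem_biUnion.1 h
      exact htΦ (Tet.ext' (tet_eq S t.2 d.2 hy0 hyd) ▸ hd)
    have hyo : y ∈ outs D O x := mem_outs.2 ⟨t.2.1.1 (Finset.mem_coe.2 hy0), hyn⟩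
    have hpos := seen_pos S hO hx hyo
    have h8 := seen_eight S hO hx hyo
    let A := Φ.filter fun d => TAdj t d
    have h4 := card_of_partition S A (↑(seen D O x y) : Set G)
      (fun d hd m hm => by
        obtain ⟨hdΦ, hA⟩ := Finset.mem_filter.1 hd
        exact Finset.mem_coe.2 (Finset.mem_filter.2
          ⟨hsub d hdΦ (Finset.mem_coe.1 hm), hA.2 y hy0 m (Finset.mem_coe.1 hm)⟩))
      (fun m hm => by
        obtain ⟨hmΩ, hym⟩ := Finset.mem_filter.1 (Finset.mem_coe.1 hm)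
        have hm' : m ∈ Φ.biUnion fun d => d.1 := hunion.symm ▸ hmΩ
        obtain ⟨d, hd, hmd⟩ := Finset.mem_biUnion.1 hm'
        have hne : t ≠ d := fun e => htΦ (e ▸ hd)
        exact ⟨d, Finset.mem_filter.2 ⟨hd,
          Classical.byContradiction fun hn => nadj S hne hn y hy0 m hmd hym⟩, hmd⟩)
    rw [Set.ncard_coe_finset] at h4
    show (Φ.filter fun d => TAdj t d).card = 2
    change 4 * (Φ.filter fun d => TAdj t d).card = _ at h4
    by_cases h3 : 3 ≤ (seen D O x y).card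
    · rw [h8 h3] at h4; omega
    · omega

/-- A labelled frame exists. -/
lemma exists_lab (T : Tet D z) : ∃ L : Lab (sys S (z := z)), L.e 0 = T := by
  obtain ⟨y, hy⟩ := Set.nonempty_of_ncard_ne_zero (s := cp D (↑T.1 : Set G))
    (by rw [S.ncard_cp T.2.1 (k := 4) le_rfl T.2.2.1]; simp [Ctx.E])
  obtain ⟨O, hO, hTO, -, hU', hyU⟩ := tet_compl S T.2 hy
  let U : Tet D z := ⟨_, hU'⟩
  have hTU : TAdj T U := (tadj_iff S T U).2
    ⟨fun e => notMem_of_cp hy (e.symm ▸ hyU : y ∈ T.1),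
      by show IsOct D (T.1 ∪ O \ T.1); rw [Finset.union_sdiff_of_subset hTO]; exact hO⟩
  obtain ⟨w, hw⟩ := Set.nonempty_of_ncard_ne_zero (s := {c | TAdj T c ∧ TAdj U c})
    (by rw [show {c | TAdj T c ∧ TAdj U c}.ncard = 12 from (sys S (z := z)).common hTU]; norm_num)
  have hF := (sys S (z := z)).fr_frame hTU hw.1 hw.2
  have hT : T ∈ (sys S (z := z)).fr T U w := (Sys.fr_mem _).2 (Or.inl rfl)
  let e' := ((sys S (z := z)).fr T U w).equivFinOfCardEq hF.1
  refine ⟨⟨fun i => (e'.symm (Equiv.swap 0 (e' ⟨T, hT⟩) i)).1,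
    fun i j h => (Equiv.injective _) (e'.symm.injective (Subtype.ext h)),
    fun {i j} hij => hF.2 _ (Subtype.prop _) _ (Subtype.prop _) fun h =>
      hij ((Equiv.injective _) (e'.symm.injective (Subtype.ext h)))⟩, ?_⟩
  show (e'.symm (Equiv.swap 0 (e' ⟨T, hT⟩) 0)).1 = T
  rw [Equiv.swap_apply_left, Equiv.symm_apply_apply]

lemma sys_adj_iff {T U : Tet D z} : (sys S).Adj T U ↔ TAdj T U := Iff.rfl

end H49.Sextet
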