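/-
The centraliser of the product acting on the tetrads.
-/
import Cfsg.Agent.H49.Sextet.System
import Cfsg.Agent.H49.Sextet.Orth

set_option autoImplicit false
set_option linter.unusedSectionVars false

namespace H49.Sextet

open Cfsg H99 H49.Parity Matrix
open scoped Classical symmDiff

variable {G : Type*} [Group G] [Finite G] {D : Set G} {z : G}

/-- The centraliser. -/
abbrev CZ (z : G) : Subgroup G := Subgroup.centralizer ({z} : Set G)

lemma cz_commute (g : ↥(CZ z)) : Commute (g : G) z :=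
  Subgroup.mem_centralizer_singleton_iff.1 g.2

variable (S : Ctx D)
include S

lemma cliq_ordered {U : Finset G} (hU : Cliq D U) (hc : U.card ≤ 5) (φ : G → G)
    (hφ : Cliq D (U.image φ)) (hinj : Set.InjOn φ ↑U) :
    ∃ g, ∀ m ∈ U, g * m * g⁻¹ = φ m := by
  induction U using Finset.induction_on with
  | empty => exact ⟨1, fun m hm => absurd hm (Finset.notMem_empty m)⟩
  | @insert a U ha ih =>
    rw [Finset.card_insert_of_notMem ha] at hc
    rw [Finset.image_insert] at hφ
    obtain ⟨g, hg⟩ := ih (hU.mono (Finset.subset_insert a U)) (by omega)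
      (hφ.mono (Finset.subset_insert _ _)) (hinj.mono (by simp))
    have himg : cimg g U = U.image φ := Finset.image_congr fun m hm => hg m hm
    have hy : φ a ∈ cp D (↑(U.image φ) : Set G) := by
      refine ⟨hφ.1 (Finset.mem_coe.2 (Finset.mem_insert_self _ _)), fun m hm => ?_⟩
      obtain ⟨m', hm', rfl⟩ := Finset.mem_image.1 (Finset.mem_coe.1 hm)
      refine ⟨fun e => ha ?_, hφ.2 _ (Finset.mem_insert_of_mem (Finset.mem_coe.1 hm)) _
        (Finset.mem_insert_self _ _)⟩
      have := hinj (by simp [hm']) (by simp) e.symm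
      exact this ▸ hm'
    have hy0 : g * a * g⁻¹ ∈ cp D (↑(U.image φ) : Set G) := by
      rw [← himg, S.cp_cimg]
      exact ⟨a, ⟨hU.1 (Finset.mem_coe.2 (Finset.mem_insert_self a U)), fun m hm => ⟨fun e => ha
        (e ▸ Finset.mem_coe.1 hm), hU.2 m (Finset.mem_insert_of_mem (Finset.mem_coe.1 hm)) a
        (Finset.mem_insert_self a U)⟩⟩, rfl⟩
    obtain ⟨h, hh, he⟩ := S.tr_cliq (hφ.mono (Finset.subset_insert _ _))
      (by rw [← himg, card_cimg]; omega) _ hy0 _ hy
    refine ⟨h * g, fun m hm => ?_⟩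
    rcases Finset.mem_insert.1 hm with rfl | hm
    · rw [← he]; group
    · rw [show h * g * m * (h * g)⁻¹ = h * (g * m * g⁻¹) * h⁻¹ by group, hg m hm]
      exact conj_eq_of_commute (mem_cen.1 hh _ (Finset.mem_image_of_mem φ hm))

/-- The action on tetrads. -/
noncomputable def piz : ↥(CZ z) →* Equiv.Perm (Tet D z) :=
  MonoidHom.mk'
    (fun g =>
      { toFun := tconj S g.1 (cz_commute g)
        invFun := tconj S g.1⁻¹ (cz_commute g).inv_left
        left_inv := fun T => Tet.ext' (cimg_inv _ _)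
        right_inv := fun T => Tet.ext' (by
          show cimg g.1 (cimg g.1⁻¹ T.1) = T.1
          rw [cimg_cimg, mul_inv_cancel, cimg_one]) })
    (fun g h => Equiv.ext fun T => Tet.ext' (cimg_cimg _ _ _).symm)

lemma piz_val (g : ↥(CZ z)) (T : Tet D z) : (piz S g T).1 = cimg g.1 T.1 := rfl

lemma piz_mem (g : ↥(CZ z)) : piz S g ∈ autGrp (sys S (z := z)) :=
  fun T U => tconj_adj S g.1 (cz_commute g) T U

/-- The order of the centraliser of a tetrad. -/
lemma card_cen_four {T : Finset G} (hT : IsTet D z T) : Nat.card ↥(cen T) = 106168320 := by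
  have key : ∀ k ≤ 4, ∀ N : Finset G, Cliq D N → N.card = k →
      (∏ j ∈ Finset.range k, Ctx.E j) * Nat.card ↥(cen N) = Nat.card G := by
    intro k hk
    induction k with
    | zero =>
      intro N _ hN
      rw [Finset.card_eq_zero.1 hN, Finset.prod_range_zero, one_mul,
        show cen (∅ : Finset G) = ⊤ from eq_top_iff.2 fun g _ => mem_cen.2 (by simp), Subgroup.card_top]
    | succ k ih =>
      intro N hNc hN
      obtain ⟨y, hy⟩ := Finset.card_pos.1 (by omega : 0 < N.card)
      have hc : (N.erase y).card = k := by rw [Finset.card_erase_of_mem hy]; omega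
      have h1 := S.card_cen_step (hNc.mono (Finset.erase_subset y N)) (by omega) hc (mem_cp_erase hNc hy)
      rw [Finset.insert_erase hy] at h1
      rw [Finset.prod_range_succ, mul_assoc, h1,
        ih (by omega) _ (hNc.mono (Finset.erase_subset y N)) hc]
  have h := key 4 le_rfl T hT.1 hT.2.1
  rw [S.card] at h
  simp only [Finset.prod_range_succ, Finset.prod_range_zero, Ctx.E] at h
  norm_num at h
  omega

/-- The centraliser is transitive on tetrads. -/
lemma piz_trans (T U : Tet D z) : ∃ g : ↥(CZ z), piz S g T = U := by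
  let e := Finset.equivOfCardEq (T.2.2.1.trans U.2.2.1.symm)
  let φ : G → G := fun m => if h : m ∈ T.1 then (e ⟨m, h⟩).1 else m
  have hφ : ∀ m (h : m ∈ T.1), φ m = (e ⟨m, h⟩).1 := fun m h => dif_pos h
  have himg : T.1.image φ = U.1 := by
    refine Finset.eq_of_subset_of_card_le (fun y hy => ?_) ?_
    · obtain ⟨m, hm, rfl⟩ := Finset.mem_image.1 hy
      rw [hφ m hm]; exact (e ⟨m, hm⟩).2
    · rw [Finset.card_image_of_injOn, T.2.2.1, U.2.2.1]
      intro a ha b hb hab
      rw [hφ a ha, hφ b hb] at hab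
      exact congrArg Subtype.val (e.injective (Subtype.ext hab))
  have hinj : Set.InjOn φ ↑T.1 := by
    intro a ha b hb hab
    rw [hφ a ha, hφ b hb] at hab
    exact congrArg Subtype.val (e.injective (Subtype.ext hab))
  obtain ⟨g, hg⟩ := cliq_ordered S T.2.1 (by rw [T.2.2.1]; norm_num) φ (by rw [himg]; exact U.2.1) hinj
  have hgT : cimg g T.1 = U.1 := by
    rw [← himg]; exact Finset.image_congr fun m hm => hg m hm
  have hgz : Commute g z := by
    have h := Ctx.pp_cimg g T.2.1.2
    rw [hgT, T.2.2.2, U.2.2.2] at h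
    exact (mul_inv_eq_iff_eq_mul.1 h.symm : g * z = z * g)
  exact ⟨⟨g, Subgroup.mem_centralizer_singleton_iff.2 hgz⟩, Tet.ext' hgT⟩

/-- The setwise stabiliser of a tetrad. -/
lemma card_stab (T : Tet D z) :
    Nat.card ↥((MulAction.stabilizer (Equiv.Perm (Tet D z)) T).comap (piz S)) = 24 * 106168320 := by
  set H := (MulAction.stabilizer (Equiv.Perm (Tet D z)) T).comap (piz S) with hH
  have hmem : ∀ h : ↥H, ∀ m ∈ T.1, h.1.1 * m * h.1.1⁻¹ ∈ T.1 := fun h m hm => by
    have h' : piz S h.1 T = T := h.2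
    have : h.1.1 * m * h.1.1⁻¹ ∈ (piz S h.1 T).1 := Finset.mem_image_of_mem _ hm
    rwa [h'] at this
  let f : ↥H →* Equiv.Perm {m // m ∈ T.1} := MonoidHom.mk'
    (fun h => Equiv.ofBijective (fun m => ⟨h.1.1 * m.1 * h.1.1⁻¹, hmem h m.1 m.2⟩)
      (Finite.injective_iff_bijective.1 fun a b e => Subtype.ext
        (conj_injective h.1.1 (congrArg Subtype.val e))))
    (fun g h => Equiv.ext fun m => Subtype.ext (by
      show g.1.1 * h.1.1 * m.1 * (g.1.1 * h.1.1)⁻¹ = g.1.1 * (h.1.1 * m.1 * h.1.1⁻¹) * g.1.1⁻¹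
      group))
  have hsurj : Function.Surjective f := by
    intro σ
    let φ : G → G := fun m => if h : m ∈ T.1 then (σ ⟨m, h⟩).1 else m
    have hφ : ∀ m (h : m ∈ T.1), φ m = (σ ⟨m, h⟩).1 := fun m h => dif_pos h
    have hinj : Set.InjOn φ ↑T.1 := by
      intro a ha b hb hab
      rw [hφ a ha, hφ b hb] at hab
      exact congrArg Subtype.val (σ.injective (Subtype.ext hab))
    have himg : T.1.image φ = T.1 := Finset.eq_of_subset_of_card_le (fun y hy => by
      obtain ⟨m, hm, rfl⟩ := Finset.mem_image.1 hy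
      rw [hφ m hm]; exact (σ ⟨m, hm⟩).2) (by rw [Finset.card_image_of_injOn hinj])
    obtain ⟨g, hg⟩ := cliq_ordered S T.2.1 (by rw [T.2.2.1]; norm_num) φ (by rw [himg]; exact T.2.1) hinj
    have hgT : cimg g T.1 = T.1 := (Finset.image_congr fun m hm => hg m hm).trans himg
    have hgz : Commute g z := by
      have h := Ctx.pp_cimg g T.2.1.2
      rw [hgT, T.2.2.2] at h
      exact (mul_inv_eq_iff_eq_mul.1 h.symm : g * z = z * g)
    refine ⟨⟨⟨g, Subgroup.mem_centralizer_singleton_iff.2 hgz⟩, Tet.ext' hgT⟩, Equiv.ext fun m => ?_⟩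
    apply Subtype.ext
    show g * m.1 * g⁻¹ = (σ m).1
    rw [hg m.1 m.2, hφ m.1 m.2]
  have hker : Nat.card ↥f.ker = Nat.card ↥(cen T.1) := by
    refine Nat.card_congr ⟨fun h => ⟨h.1.1.1, mem_cen.2 fun m hm => ?_⟩, fun g => ⟨⟨⟨g.1, ?_⟩, ?_⟩, ?_⟩,
      fun _ => rfl, fun _ => rfl⟩
    · have := congrArg (fun p : Equiv.Perm {m // m ∈ T.1} => (p ⟨m, hm⟩).1) h.2
      exact (mul_inv_eq_iff_eq_mul.1 (this : h.1.1.1 * m * h.1.1.1⁻¹ = m) : _ = _)
    · rw [Subgroup.mem_centralizer_singleton_iff]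
      have h := commute_pp T.2.1.2 fun u hu => (mem_cen.1 g.2 u hu : Commute g.1 u)
      rwa [T.2.2.2] at h
    · exact Tet.ext' ((Finset.image_congr fun m hm =>
        conj_eq_of_commute (mem_cen.1 g.2 m hm)).trans Finset.image_id)
    · exact Equiv.ext fun m => Subtype.ext (conj_eq_of_commute (mem_cen.1 g.2 m.1 m.2))
  rw [Subgroup.card_eq_card_quotient_mul_card_subgroup f.ker,
    Nat.card_congr (QuotientGroup.quotientKerEquivOfSurjective f hsurj).toEquiv, hker,
    card_cen_four S T.2, Nat.card_perm, Nat.card_eq_fintype_card, Fintype.card_coe, T.2.2.1]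
  rfl

/-- The order of the centraliser. -/
lemma card_cz (T : Tet D z) : Nat.card ↥(CZ z) = 126 * (24 * 106168320) := by
  obtain ⟨L, -⟩ := exists_lab S T
  obtain ⟨C⟩ := L.exists_bases
  letI : MulAction ↥(CZ z) (Tet D z) := MulAction.compHom (Tet D z) (piz S)
  have horb : MulAction.orbit ↥(CZ z) T = Set.univ := Set.eq_univ_of_forall fun U => by
    obtain ⟨g, hg⟩ := piz_trans S T U
    exact ⟨g, hg⟩
  have hst : Nat.card ↥(MulAction.stabilizer ↥(CZ z) T) = 24 * 106168320 := card_stab S T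
  rw [← Nat.card_congr (MulAction.orbitProdStabilizerEquivGroup ↥(CZ z) T), Nat.card_prod, horb, hst,
    Nat.card_congr (Equiv.Set.univ (Tet D z)), Nat.card_eq_fintype_card, Lab.card_points C]

end H49.Sextet
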