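/-
The clique of twenty-four under a frame of tetrads.
-/
import Cfsg.Agent.H49.Sextet.System

set_option autoImplicit false
set_option linter.unusedSectionVars false

namespace H49.Sextet

open Cfsg H99 H49.Parity
open scoped Classical symmDiff

variable {G : Type*} [Group G] [Finite G] {D : Set G} {z : G}

variable (S : Ctx D)

/-- The members of the tetrads of a frame. -/
noncomputable def om (L : Lab (sys S (z := z))) : Finset G :=
  Finset.univ.biUnion fun i => (L.e i).1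

variable {S}

lemma mem_om {L : Lab (sys S (z := z))} {y : G} : y ∈ om S L ↔ ∃ i, y ∈ (L.e i).1 := by
  simp [om]

lemma sub_om (L : Lab (sys S (z := z))) (i : Fin 6) : (L.e i).1 ⊆ om S L :=
  fun _ hy => mem_om.2 ⟨i, hy⟩

lemma label_eq (L : Lab (sys S (z := z))) {i j : Fin 6} {y : G} (hi : y ∈ (L.e i).1)
    (hj : y ∈ (L.e j).1) : i = j :=
  L.inj (Tet.ext' (tet_eq S (L.e i).2 (L.e j).2 hi hj))

lemma card_om (L : Lab (sys S (z := z))) : (om S L).card = 24 := by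
  rw [om, Finset.card_biUnion (fun i _ j _ hij => Finset.disjoint_left.2 fun y hi hj =>
    hij (label_eq L hi hj)), Finset.sum_const_nat (m := 4) (fun i _ => (L.e i).2.2.1),
    Finset.card_univ, Fintype.card_fin]

lemma cliq_om (L : Lab (sys S (z := z))) : Cliq D (om S L) := by
  refine ⟨fun y hy => ?_, fun a ha b hb => ?_⟩
  · obtain ⟨i, hi⟩ := mem_om.1 (Finset.mem_coe.1 hy)
    exact (L.e i).2.1.1 (Finset.mem_coe.2 hi)
  · obtain ⟨i, hi⟩ := mem_om.1 ha
    obtain ⟨j, hj⟩ := mem_om.1 hb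
    by_cases hij : i = j
    · exact (L.e i).2.1.2 a hi b (hij ▸ hj)
    · exact (L.adj hij).2 a hi b hj

lemma om_tt24 (L : Lab (sys S (z := z))) {i j k : Fin 6} (hij : i ≠ j) (hik : i ≠ k) (hjk : j ≠ k) :
    IsOct D ((L.e i).1 ∪ (L.e j).1) ∧ (L.e k).rep ∈ cp D (↑((L.e i).1 ∪ (L.e j).1) : Set G) ∧
      om S L = tt24 D ((L.e i).1 ∪ (L.e j).1) (L.e k).rep := by
  have hA := sys_adj_iff S |>.1 (L.adj hij)
  have hO := ((tadj_iff S _ _).1 hA).2
  have hx := adj_both S (L.adj hik) (L.adj hjk) hA (L.e k).rep_mem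
  refine ⟨hO, hx, Finset.eq_of_subset_of_card_le (fun y hy => ?_) ?_⟩
  · by_cases hyO : y ∈ (L.e i).1 ∪ (L.e j).1
    · exact Finset.mem_union_left _ hyO
    have hcl := cliq_om L
    refine Finset.mem_union_right _ (mem_plane.2 ⟨⟨hcl.1 (Finset.mem_coe.2 hy), fun m hm =>
      ⟨fun e => hyO (e ▸ Finset.mem_coe.1 hm), hcl.2 m ?_ y hy⟩⟩,
      hcl.2 _ (sub_om L k (L.e k).rep_mem) y hy⟩)
    rcases Finset.mem_union.1 (Finset.mem_coe.1 hm) with h | h
    exacts [sub_om L i h, sub_om L j h]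
  · rw [card_tt24 S hO hx, card_om]

lemma om_std (L : Lab (sys S (z := z))) :
    ∃ O x, IsOct D O ∧ x ∈ cp D (↑O : Set G) ∧ om S L = tt24 D O x :=
  ⟨_, _, om_tt24 L (i := 0) (j := 1) (k := 2) (by decide) (by decide) (by decide)⟩

variable (S)
include S

/-- Any octad inside a clique of twenty-four spans it. -/
lemma tt24_change {O O' : Finset G} {x x' : G} (hO : IsOct D O) (hx : x ∈ cp D (↑O : Set G))
    (hO' : IsOct D O') (hsub : O' ⊆ tt24 D O x) (hx' : x' ∈ tt24 D O x) (hn : x' ∉ O') :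
    x' ∈ cp D (↑O' : Set G) ∧ tt24 D O' x' = tt24 D O x := by
  have hcl := S.cliq_tt24 hO hx
  have key : ∀ y ∈ tt24 D O x, y ∉ O' → y ∈ cp D (↑O' : Set G) := fun y hy hyn =>
    ⟨hcl.1 (Finset.mem_coe.2 hy), fun m hm => ⟨fun e => hyn (e ▸ Finset.mem_coe.1 hm),
      hcl.2 m (hsub (Finset.mem_coe.1 hm)) y hy⟩⟩
  have h1 := key x' hx' hn
  refine ⟨h1, (Finset.eq_of_subset_of_card_le (fun y hy => ?_) ?_).symm⟩
  · by_cases hyO : y ∈ O'
    · exact Finset.mem_union_left _ hyO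
    · exact Finset.mem_union_right _ (mem_plane.2 ⟨key y hy hyO, hcl.2 x' hx' y hy⟩)
  · rw [card_tt24 S hO hx, card_tt24 S hO' h1]

/-- A frame through two adjacent tetrads. -/
lemma exists_lab_two {T U : Tet D z} (hTU : TAdj T U) :
    ∃ (L : Lab (sys S (z := z))) (i j : Fin 6), i ≠ j ∧ L.e i = T ∧ L.e j = U := by
  obtain ⟨w, hw⟩ := Set.nonempty_of_ncard_ne_zero (s := {c | TAdj T c ∧ TAdj U c})
    (by rw [show {c | TAdj T c ∧ TAdj U c}.ncard = 12 from (sys S (z := z)).common hTU]; norm_num)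
  have hF := (sys S (z := z)).fr_frame hTU hw.1 hw.2
  have hT : T ∈ (sys S (z := z)).fr T U w := (Sys.fr_mem _).2 (Or.inl rfl)
  have hU : U ∈ (sys S (z := z)).fr T U w := (Sys.fr_mem _).2 (Or.inr (Or.inl rfl))
  let e' := ((sys S (z := z)).fr T U w).equivFinOfCardEq hF.1
  refine ⟨⟨fun i => (e'.symm i).1, fun i j h => e'.symm.injective (Subtype.ext h),
    fun {i j} hij => hF.2 _ (Subtype.prop _) _ (Subtype.prop _) fun h =>
      hij (e'.symm.injective (Subtype.ext h))⟩, e' ⟨T, hT⟩, e' ⟨U, hU⟩, fun h => hTU.1 ?_, ?_, ?_⟩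
  · exact congrArg Subtype.val (e'.injective h)
  · show (e'.symm (e' ⟨T, hT⟩)).1 = T
    rw [Equiv.symm_apply_apply]
  · show (e'.symm (e' ⟨U, hU⟩)).1 = U
    rw [Equiv.symm_apply_apply]

end H49.Sextet
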