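/-
The centraliser of a clique of twenty-four, and of all tetrads.
-/
import Cfsg.Agent.H49.Sextet.Frame

set_option autoImplicit false
set_option linter.unusedSectionVars false

namespace H49.Sextet

open Cfsg H99 H49.Parity
open scoped Classical symmDiff

variable {G : Type*} [Group G] [Finite G] {D : Set G} {z : G}

variable (S : Ctx D)
include S

/-- What commutes with the partners of all triples of a large clique is trivial. -/
lemma eq_one_of_triples {M : Finset G} (hM : Cliq D M) (hc : 5 ≤ M.card) {g : G}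
    (hg : ∀ m ∈ M, Commute g m)
    (h3 : ∀ T, T ⊆ M → T.card = 3 → ∀ w ∈ cp D (↑T : Set G), Commute g w) : g = 1 := by
  have hcp : ∀ T, T ⊆ M → ∀ u ∈ M, u ∉ T → u ∈ cp D (↑T : Set G) := fun T hT u hu hn =>
    ⟨hM.1 (Finset.mem_coe.2 hu), fun m hm => ⟨fun e => hn (Finset.mem_coe.1 (e ▸ hm)),
      hM.2 m (hT (Finset.mem_coe.1 hm)) u hu⟩⟩
  have back : ∀ (h w : G), Commute g (h * w * h⁻¹) → Commute (h⁻¹ * g * h) w := fun h w hw => by
    have := (conj_commute_iff h (h⁻¹ * g * h) w).1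
    rw [show h * (h⁻¹ * g * h) * h⁻¹ = g by group] at this
    exact this hw
  have htwo : ∀ T, T ⊆ M → T.card = 2 → ∀ w ∈ cp D (↑T : Set G), Commute g w := by
    intro T hT hc2
    obtain ⟨h, rfl⟩ := S.exists_base (k := 2) (by norm_num) (hM.mono hT) hc2
    obtain ⟨u, hu, v, hv, huv⟩ := (Finset.one_lt_card (s := M \ cimg h (S.B 2))).1
      (by rw [Finset.card_sdiff_of_subset hT, hc2]; omega)
    have hB2 : (↑(S.B 2) : Set G) = {S.a, S.b} := by simp [Ctx.B]
    have hab : h * S.a * h⁻¹ ∈ M ∧ h * S.b * h⁻¹ ∈ M :=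
      ⟨hT (Finset.mem_image.2 ⟨_, by simp [Ctx.B], rfl⟩), hT (Finset.mem_image.2 ⟨_, by simp [Ctx.B], rfl⟩)⟩
    have hlift : ∀ x ∈ M \ cimg h (S.B 2), h⁻¹ * x * h ∈ cp D {S.a, S.b} := by
      intro x hx
      have h' := hcp _ hT x (Finset.mem_sdiff.1 hx).1 (Finset.mem_sdiff.1 hx).2
      rw [S.cp_cimg] at h'
      obtain ⟨x0, hx0, rfl⟩ := h'
      rw [← hB2, show h⁻¹ * (h * x0 * h⁻¹) * h = x0 by group]
      exact hx0
    have h3' : ∀ x ∈ M \ cimg h (S.B 2), ∀ w ∈ cp D {S.a, S.b, h⁻¹ * x * h},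
        Commute (h⁻¹ * g * h) w := by
      intro x hx w hw
      refine back h w (h3 (insert x (cimg h (S.B 2))) (Finset.insert_subset (Finset.mem_sdiff.1 hx).1 hT)
        (by rw [Finset.card_insert_of_notMem (Finset.mem_sdiff.1 hx).2, hc2]) _ ?_)
      have he : insert x (cimg h (S.B 2)) = cimg h (insert (h⁻¹ * x * h) (S.B 2)) := by
        rw [cimg, cimg, Finset.image_insert, show h * (h⁻¹ * x * h) * h⁻¹ = x by group]
      rw [he, S.cp_cimg]
      refine ⟨w, ?_, rfl⟩
      rw [Finset.coe_insert, hB2]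
      rwa [show insert (h⁻¹ * x * h) ({S.a, S.b} : Set G) = {S.a, S.b, h⁻¹ * x * h} by ext; simp; tauto]
    have hmem : ∀ x ∈ M \ cimg h (S.B 2), Commute (h⁻¹ * g * h) (h⁻¹ * x * h) := fun x hx =>
      back h _ (by rw [show h * (h⁻¹ * x * h) * h⁻¹ = x by group]; exact hg x (Finset.mem_sdiff.1 hx).1)
    have hkey := S.std.k2 (h⁻¹ * g * h) (h⁻¹ * u * h) (h⁻¹ * v * h) (back h _ (hg _ hab.1))
      (back h _ (hg _ hab.2)) (hlift u hu) (hlift v hv)
      (fun e => huv (mul_left_cancel (mul_right_cancel e))) (hmem u hu) (hmem v hv) (h3' u hu) (h3' v hv)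
    intro w hw
    rw [S.cp_cimg] at hw
    obtain ⟨w0, hw0, rfl⟩ := hw
    have h1 := (conj_commute_iff h _ w0).2 (hkey w0 (hB2 ▸ hw0))
    rwa [show h * (h⁻¹ * g * h) * h⁻¹ = g by group] at h1
  have hone : ∀ u ∈ M, ∀ w ∈ perp D u, Commute g w := by
    intro u hu
    obtain ⟨h, hh⟩ := S.exists_base (k := 1) (by norm_num) (hM.mono (Finset.singleton_subset_iff.2 hu))
      (Finset.card_singleton u)
    have hha : h * S.a * h⁻¹ = u := by simpa [cimg, Ctx.B] using hh
    subst hha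
    obtain ⟨x, hx, y, hy, hxy⟩ := (Finset.one_lt_card (s := M.erase (h * S.a * h⁻¹))).1
      (by rw [Finset.card_erase_of_mem hu]; omega)
    have hlift : ∀ x ∈ M.erase (h * S.a * h⁻¹), h⁻¹ * x * h ∈ cp D {S.a} := by
      intro x hx
      have h' := hcp {h * S.a * h⁻¹} (Finset.singleton_subset_iff.2 hu) x (Finset.mem_erase.1 hx).2
        (by simpa using (Finset.mem_erase.1 hx).1)
      rw [show ({h * S.a * h⁻¹} : Finset G) = cimg h {S.a} by simp [cimg], S.cp_cimg] at h'
      obtain ⟨x0, hx0, rfl⟩ := h'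
      rw [show h⁻¹ * (h * x0 * h⁻¹) * h = x0 by group]
      simpa using hx0
    have h2 : ∀ x ∈ M.erase (h * S.a * h⁻¹), ∀ w ∈ cp D {S.a, h⁻¹ * x * h},
        Commute (h⁻¹ * g * h) w := by
      intro x hx w hw
      refine back h w (htwo {h * S.a * h⁻¹, x} ?_ (Finset.card_pair (Finset.mem_erase.1 hx).1.symm) _ ?_)
      · exact Finset.insert_subset hu (Finset.singleton_subset_iff.2 (Finset.mem_erase.1 hx).2)
      · have he : ({h * S.a * h⁻¹, x} : Finset G) = cimg h {S.a, h⁻¹ * x * h} := by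
          rw [cimg, Finset.image_insert, Finset.image_singleton, show h * (h⁻¹ * x * h) * h⁻¹ = x by group]
        rw [he, S.cp_cimg]
        exact ⟨w, by simpa using hw, rfl⟩
    have hmem : ∀ x ∈ M.erase (h * S.a * h⁻¹), Commute (h⁻¹ * g * h) (h⁻¹ * x * h) := fun x hx =>
      back h _ (by rw [show h * (h⁻¹ * x * h) * h⁻¹ = x by group]; exact hg x (Finset.mem_erase.1 hx).2)
    have hkey := S.std.k1 (h⁻¹ * g * h) (h⁻¹ * x * h) (h⁻¹ * y * h) (back h _ (hg _ hu)) (hlift x hx)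
      (hlift y hy) (fun e => hxy (mul_left_cancel (mul_right_cancel e))) (hmem x hx) (hmem y hy)
      (h2 x hx) (h2 y hy)
    intro w hw
    have hw' : h⁻¹ * w * h⁻¹⁻¹ ∈ cp D {S.a} := by
      have := perp_conj S.conj h⁻¹ hw
      rw [show h⁻¹ * (h * S.a * h⁻¹) * h⁻¹⁻¹ = S.a by group] at this
      rwa [cp_singleton]
    have h1 := (conj_commute_iff h _ _).2 (hkey _ hw')
    rwa [show h * (h⁻¹ * g * h) * h⁻¹ = g by group, show h * (h⁻¹ * w * h⁻¹⁻¹) * h⁻¹ = w by group] at h1
  obtain ⟨u, hu, v, hv, huv⟩ := (Finset.one_lt_card (s := M)).1 (by omega)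
  rcases S.kern u g (hM.1 (Finset.mem_coe.2 hu)) (hg u hu) (hone u hu) with h | h
  · exact h
  rcases S.kern v g (hM.1 (Finset.mem_coe.2 hv)) (hg v hv) (hone v hv) with h' | h'
  · exact h'
  exact absurd (h.symm.trans h') huv

variable {O : Finset G} {x : G}

/-- What fixes the surroundings of every octad inside is trivial. -/
lemma eq_one_of_outs (hO : IsOct D O) (hx : x ∈ cp D (↑O : Set G)) {g : G}
    (hg : ∀ m ∈ tt24 D O x, Commute g m)
    (ho : ∀ O', IsOct D O' → O' ⊆ tt24 D O x →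
      ∀ y ∈ cp D (↑O' : Set G), y ∉ tt24 D O x → Commute g y) : g = 1 := by
  have hcl := S.cliq_tt24 hO hx
  refine eq_one_of_triples S hcl (by rw [card_tt24 S hO hx]; norm_num) hg fun T hT hc w hw => ?_
  by_cases hwΩ : w ∈ tt24 D O x
  · exact hg w hwΩ
  have hTs : T ⊆ seen D O x w := fun t ht =>
    Finset.mem_filter.2 ⟨hT ht, (hw.2 t (Finset.mem_coe.2 ht)).2.symm⟩
  have h8 := seen_eight S hO hx (mem_outs.2 ⟨hw.1, hwΩ⟩) (hc ▸ Finset.card_le_card hTs)
  obtain ⟨M, hMs, hM⟩ := Finset.exists_subset_card_eq (s := seen D O x w) (n := 5) (by omega)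
  have hMΩ : M ⊆ tt24 D O x := hMs.trans (Finset.filter_subset _ _)
  obtain ⟨O', ⟨hO', hMO'⟩, -⟩ := S.oct_five (hcl.mono hMΩ) hM
  have hsub := oct_sub S hO hx hO' hMO' hM hMΩ
  exact ho O' hO' hsub w
    (S.cp_five hO' hMO' hM (mem_cp_of_seen (mem_outs.2 ⟨hw.1, hwΩ⟩) hMs) fun h => hwΩ (hsub h)) hwΩ

/-- Squares of centralising elements fix the surroundings. -/
lemma sq_fix_out (hO : IsOct D O) (hx : x ∈ cp D (↑O : Set G)) {g : G}
    (hg : ∀ m ∈ tt24 D O x, Commute g m) :
    ∀ y ∈ cp D (↑O : Set G), y ∉ tt24 D O x → Commute (g * g) y := by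
  have hcl := S.cliq_tt24 hO hx
  intro y hy hyn
  have hy' : g * y * g⁻¹ ∈ cp D (↑O : Set G) := by
    refine ⟨S.conj g y hy.1, fun m hm => ?_⟩
    have hm' := conj_eq_of_commute (hg m (Finset.mem_union_left _ (Finset.mem_coe.1 hm)))
    refine ⟨fun e => (hy.2 m hm).1 (conj_injective g (e.trans hm'.symm)), ?_⟩
    have := (conj_commute_iff g m y).2 (hy.2 m hm).2
    rwa [hm'] at this
  have hyn' : g * y * g⁻¹ ∉ tt24 D O x := fun h => hyn (by
    have he : g * y * g⁻¹ = y := conj_injective g (conj_eq_of_commute (hg _ h))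
    rwa [he] at h)
  obtain ⟨a, ha, hae⟩ := S.tt24_orbit hO hx hy hyn hy' hyn'
  have hga : Commute g a := H5.TT.Fac.commute_closure (fun w hw => hg w (Finset.mem_coe.1 hw)) ha
  have haa : a * a = 1 := by
    obtain ⟨U, hU, rfl⟩ := exists_pp_of_mem_closure hcl.2 (hcl.sq S.tt) ha
    exact pp_sq (hcl.2.mono hU) fun u hu => hcl.sq S.tt u (hU hu)
  show g * g * y = y * (g * g)
  refine (mul_inv_eq_iff_eq_mul (a := g * g * y) (b := g * g) (c := y)).1 ?_
  calc g * g * y * (g * g)⁻¹ = g * (g * y * g⁻¹) * g⁻¹ := by group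
    _ = g * a * y * (g * a)⁻¹ := by rw [← hae]; group
    _ = a * g * y * (a * g)⁻¹ := by rw [hga.eq]
    _ = a * (g * y * g⁻¹) * a⁻¹ := by group
    _ = a * a * y * (a * a)⁻¹ := by rw [← hae]; group
    _ = y := by rw [haa]; group

/-- The clique generates its centraliser. -/
lemma cen_tt24 (hO : IsOct D O) (hx : x ∈ cp D (↑O : Set G)) :
    cen (tt24 D O x) = Subgroup.closure (↑(tt24 D O x) : Set G) ∧
      Nat.card ↥(cen (tt24 D O x)) = 4096 := by
  have hcl := S.cliq_tt24 hO hx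
  obtain ⟨u, hu, hu'⟩ := S.exists_noncomm hO hx
  have hA := (S.stab_eq hO hx hu hu').1
  have hle : Subgroup.closure (↑(tt24 D O x) : Set G) ≤ cen (tt24 D O x) := by
    rw [Subgroup.closure_le]
    exact fun t ht => mem_cen.2 fun m hm => hcl.2 t ht m hm
  have hsq : ∀ g ∈ cen (tt24 D O x), g * g = 1 := fun g hg => by
    have hg' := mem_cen.1 hg
    refine eq_one_of_outs S hO hx (fun m hm => (hg' m hm).mul_left (hg' m hm)) ?_
    intro O' hO' hsub y hy hyn
    obtain ⟨x', hx', hxn⟩ := Finset.exists_of_ssubset ((Finset.ssubset_iff_subset_ne).2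
      ⟨hsub, fun e => by
        have := congrArg Finset.card e
        rw [hO'.2.1, card_tt24 S hO hx] at this
        omega⟩)
    obtain ⟨hc, he⟩ := tt24_change S hO hx hO' hsub hx' hxn
    exact sq_fix_out S hO' hc (by rw [he]; exact hg') y hy (by rw [he]; exact hyn)
  haveI : Fact (Nat.Prime 2) := ⟨Nat.prime_two⟩
  have h2 : IsPGroup 2 ↥(cen (tt24 D O x)) := fun g => ⟨1, Subtype.ext (by
    rw [pow_one, SubgroupClass.coe_pow, pow_two]; exact hsq g g.2)⟩
  obtain ⟨M, hMO, hM⟩ := Finset.exists_subset_card_eq (s := O) (n := 5) (by rw [hO.2.1]; norm_num)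
  obtain ⟨o, ho, hcard⟩ := S.card_cen_six hO hx hMO hM
  have hsub : cen (tt24 D O x) ≤ cen (insert x M) := fun g hg => mem_cen.2 fun m hm => mem_cen.1 hg m (by
    rcases Finset.mem_insert.1 hm with h | h
    · rw [h]; exact Finset.mem_union_right _ (S.self_mem_plane hx)
    · exact Finset.mem_union_left _ (hMO h))
  obtain ⟨n, hn⟩ := IsPGroup.iff_card.1 h2
  have hdvd := Subgroup.card_dvd_of_le hsub
  rw [hcard, hn] at hdvd
  have hn12 : Nat.card ↥(cen (tt24 D O x)) ≤ 4096 := hn ▸ Nat.le_of_dvd (by norm_num)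
    ((Nat.Coprime.pow_left n (Nat.coprime_two_left.2 ho)).dvd_of_dvd_mul_right hdvd)
  have he := Subgroup.eq_of_le_of_card_ge hle (by omega)
  exact ⟨he.symm, by rw [← he, hA]⟩

lemma cen_om (L : Lab (sys S (z := z))) :
    cen (om S L) = Subgroup.closure (↑(om S L) : Set G) ∧ Nat.card ↥(cen (om S L)) = 4096 := by
  obtain ⟨O, x, hO, hx, he⟩ := om_std L
  rw [he]
  exact cen_tt24 S hO hx

/-- Relations inside three tetrads of a frame. -/
lemma rel_three (L : Lab (sys S (z := z))) {i j k : Fin 6} (hij : i ≠ j) (hik : i ≠ k) (hjk : j ≠ k)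
    {W : Finset G} (hW : W ⊆ (L.e i).1 ∪ (L.e j).1 ∪ (L.e k).1) (h1 : pp W = 1) :
    W = ∅ ∨ W = (L.e i).1 ∪ (L.e j).1 ∨ W = (L.e i).1 ∪ (L.e k).1 ∨ W = (L.e j).1 ∪ (L.e k).1 := by
  set A := (L.e i).1
  set B := (L.e j).1
  set C := (L.e k).1
  have hsub : A ∪ B ∪ C ⊆ om S L := Finset.union_subset (Finset.union_subset (sub_om L i) (sub_om L j)) (sub_om L k)
  have hcl := cliq_om L
  have hsq := hcl.sq S.tt
  have hd : ∀ {a b : Fin 6}, a ≠ b → ∀ y ∈ (L.e a).1, y ∉ (L.e b).1 :=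
    fun {a b} hab y h h' => hab (label_eq L h h')
  have key : ∀ U, U ⊆ A ∪ B ∪ C → pp U = 1 → (W ∆ U).card ≤ 6 → W = U := fun U hU hU1 hc => by
    have hsub' : W ∆ U ⊆ om S L := fun y hy => by
      rcases Finset.mem_symmDiff.1 hy with h | h
      exacts [hsub (hW h.1), hsub (hU h.1)]
    refine symmDiff_eq_bot.1 (no_rel_six S (hcl.mono hsub') hc ?_)
    rw [pp_symmDiff (hcl.2.mono (Finset.union_subset (hW.trans hsub) (hU.trans hsub)))
      (fun u hu => hsq u (Finset.union_subset (hW.trans hsub) (hU.trans hsub) hu)), h1, hU1, mul_one]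
  have hAB : pp (A ∪ B) = 1 := S.pp_oct ((tadj_iff S _ _).1 (L.adj hij)).2
  have hAC : pp (A ∪ C) = 1 := S.pp_oct ((tadj_iff S _ _).1 (L.adj hik)).2
  have hBC : pp (B ∪ C) = 1 := S.pp_oct ((tadj_iff S _ _).1 (L.adj hjk)).2
  have hsplit : ∀ U : Finset G, U ⊆ A ∪ B ∪ C →
      U.card = (U ∩ A).card + (U ∩ B).card + (U ∩ C).card := by
    intro U hU
    rw [← Finset.card_union_of_disjoint, ← Finset.card_union_of_disjoint, ← Finset.inter_union_distrib_left,
      ← Finset.inter_union_distrib_left, Finset.inter_eq_left.2 hU]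
    · rw [← Finset.inter_union_distrib_left, Finset.disjoint_left]
      intro y hy hy'
      rcases Finset.mem_union.1 (Finset.mem_inter.1 hy).2 with h | h
      · exact hd hik y h (Finset.mem_inter.1 hy').2
      · exact hd hjk y h (Finset.mem_inter.1 hy').2
    · exact Finset.disjoint_left.2 fun y hy hy' =>
        hd hij y (Finset.mem_inter.1 hy).2 (Finset.mem_inter.1 hy').2
  have hw := hsplit W hW
  have hcard : ∀ U : Finset G, U ⊆ A ∪ B ∪ C → (W ∆ U).card + 2 * (W ∩ U).card = W.card + U.card :=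
    fun U _ => card_symmDiff_add W U
  have hi : ∀ {P Q : Finset G}, (∀ y ∈ P, y ∉ Q) → (W ∩ (P ∪ Q)).card = (W ∩ P).card + (W ∩ Q).card ∧
      (P ∪ Q).card = P.card + Q.card := fun {P Q} h =>
    ⟨by rw [Finset.inter_union_distrib_left, Finset.card_union_of_disjoint (Finset.disjoint_left.2
        fun y hy hy' => h y (Finset.mem_inter.1 hy).2 (Finset.mem_inter.1 hy').2)],
      Finset.card_union_of_disjoint (Finset.disjoint_left.2 h)⟩
  have c1 := hcard _ (Finset.subset_union_left : A ∪ B ⊆ A ∪ B ∪ C)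
  have c2 := hcard (A ∪ C) (Finset.union_subset_union Finset.subset_union_left (le_refl C))
  have c3 := hcard (B ∪ C) (Finset.union_subset_union Finset.subset_union_right (le_refl C))
  rw [(hi (P := A) (Q := B) (hd hij)).1, (hi (P := A) (Q := B) (hd hij)).2] at c1
  rw [(hi (P := A) (Q := C) (hd hik)).1, (hi (P := A) (Q := C) (hd hik)).2] at c2
  rw [(hi (P := B) (Q := C) (hd hjk)).1, (hi (P := B) (Q := C) (hd hjk)).2] at c3
  have hA : A.card = 4 := (L.e i).2.2.1
  have hB : B.card = 4 := (L.e j).2.2.1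
  have hC : C.card = 4 := (L.e k).2.2.1
  by_cases h0 : W.card ≤ 6
  · exact Or.inl (key ∅ (Finset.empty_subset _) pp_empty
      (by rwa [← Finset.bot_eq_empty, symmDiff_bot]))
  by_cases h1 : (W ∆ (A ∪ B)).card ≤ 6
  · exact Or.inr (Or.inl (key _ Finset.subset_union_left hAB h1))
  by_cases h2 : (W ∆ (A ∪ C)).card ≤ 6
  · exact Or.inr (Or.inr (Or.inl (key _
      (Finset.union_subset_union Finset.subset_union_left (le_refl C)) hAC h2)))
  exact Or.inr (Or.inr (Or.inr (key _ (Finset.union_subset_union Finset.subset_union_right (le_refl C))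
    hBC (by omega))))

/-- Only the product commutes with all tetrads. -/
lemma cen_all (L : Lab (sys S (z := z))) {g : G}
    (hg : ∀ T : Tet D z, ∀ a ∈ T.1, Commute g a) : g = 1 ∨ g = z := by
  have hcl := cliq_om L
  have hsq := hcl.sq S.tt
  have hgA : g ∈ cen (om S L) := mem_cen.2 fun m hm => by
    obtain ⟨i, hi⟩ := mem_om.1 hm
    exact hg _ m hi
  have hoct : ∀ {i j k : Fin 6}, i ≠ j → i ≠ k → j ≠ k →
      ∃ U ⊆ (L.e i).1 ∪ (L.e j).1, pp U = g := by
    intro i j k hij hik hjk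
    obtain ⟨hO, hx, he⟩ := om_tt24 L hij hik hjk
    obtain ⟨u, hu, hu'⟩ := S.exists_noncomm hO hx
    obtain ⟨T, hT⟩ := cp_part S hO (L.e i).2 Finset.subset_union_left hu
    have hmem : g ∈ Subgroup.closure (↑(tt24 D ((L.e i).1 ∪ (L.e j).1) (L.e k).rep) : Set G) ⊓
        Subgroup.centralizer ({u} : Set G) := by
      refine ⟨?_, Subgroup.mem_centralizer_singleton_iff.2 (hg T u hT)⟩
      rw [← he, ← (cen_om S L).1]
      exact hgA
    rw [(S.stab_eq hO hx hu hu').2] at hmem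
    exact exists_pp_of_mem_closure hO.1.2 (hO.1.sq S.tt) hmem
  set A := (L.e 0).1
  set B := (L.e 1).1
  set C := (L.e 2).1
  obtain ⟨U, hU, hUg⟩ := hoct (i := 0) (j := 1) (k := 2) (by decide) (by decide) (by decide)
  obtain ⟨V, hV, hVg⟩ := hoct (i := 0) (j := 2) (k := 1) (by decide) (by decide) (by decide)
  obtain ⟨X, hX, hXg⟩ := hoct (i := 1) (j := 2) (k := 0) (by decide) (by decide) (by decide)
  have hsub : A ∪ B ∪ C ⊆ om S L :=
    Finset.union_subset (Finset.union_subset (sub_om L 0) (sub_om L 1)) (sub_om L 2)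
  have hU' : U ⊆ A ∪ B ∪ C := hU.trans Finset.subset_union_left
  have hV' : V ⊆ A ∪ B ∪ C := hV.trans (Finset.union_subset_union Finset.subset_union_left (le_refl C))
  have hX' : X ⊆ A ∪ B ∪ C := hX.trans (Finset.union_subset_union Finset.subset_union_right (le_refl C))
  have hrel : ∀ Y, Y ⊆ A ∪ B ∪ C → pp Y = g → U ∆ Y = ∅ ∨ U ∆ Y = A ∪ B ∨ U ∆ Y = A ∪ C ∨ U ∆ Y = B ∪ C := by
    intro Y hY hYg
    refine rel_three S L (by decide) (by decide) (by decide) (fun y hy => ?_) ?_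
    · rcases Finset.mem_symmDiff.1 hy with h | h
      exacts [hU' h.1, hY h.1]
    · rw [pp_symmDiff (hcl.2.mono (Finset.union_subset (hU'.trans hsub) (hY.trans hsub)))
        (fun u hu => hsq u (Finset.union_subset (hU'.trans hsub) (hY.trans hsub) hu)), hUg, hYg, ← hUg]
      exact pp_sq (hcl.2.mono (hU'.trans hsub)) fun u hu => hsq u (hU' |>.trans hsub hu)
  have hAB : ∀ y ∈ A, y ∉ B := fun y h h' => absurd (label_eq L h h') (by decide)
  have hAC : ∀ y ∈ A, y ∉ C := fun y h h' => absurd (label_eq L h h') (by decide)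
  have hBC : ∀ y ∈ B, y ∉ C := fun y h h' => absurd (label_eq L h h') (by decide)
  have hB' : U ∩ B = ∅ ∨ U ∩ B = B := by
    have he : U ∩ B = (U ∆ V) ∩ B := by
      ext y
      have : y ∈ B → y ∉ V := fun h hv => (Finset.mem_union.1 (hV hv)).elim
        (fun h' => hAB y h' h) (hBC y h)
      simp only [Finset.mem_inter, Finset.mem_symmDiff]
      tauto
    rw [he]
    rcases hrel V hV' hVg with e | e | e | e <;> rw [e]
    · exact Or.inl (Finset.empty_inter B)
    · exact Or.inr (Finset.inter_eq_right.2 Finset.subset_union_right)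
    · refine Or.inl (Finset.eq_empty_of_forall_notMem fun y hy => ?_)
      obtain ⟨h1, h2⟩ := Finset.mem_inter.1 hy
      rcases Finset.mem_union.1 h1 with h | h
      exacts [hAB y h h2, hBC y h2 h]
    · exact Or.inr (Finset.inter_eq_right.2 Finset.subset_union_left)
  have hA' : U ∩ A = ∅ ∨ U ∩ A = A := by
    have he : U ∩ A = (U ∆ X) ∩ A := by
      ext y
      have : y ∈ A → y ∉ X := fun h hv => (Finset.mem_union.1 (hX hv)).elim
        (hAB y h) (hAC y h)
      simp only [Finset.mem_inter, Finset.mem_symmDiff]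
      tauto
    rw [he]
    rcases hrel X hX' hXg with e | e | e | e <;> rw [e]
    · exact Or.inl (Finset.empty_inter A)
    · exact Or.inr (Finset.inter_eq_right.2 Finset.subset_union_left)
    · exact Or.inr (Finset.inter_eq_right.2 Finset.subset_union_left)
    · refine Or.inl (Finset.eq_empty_of_forall_notMem fun y hy => ?_)
      obtain ⟨h1, h2⟩ := Finset.mem_inter.1 hy
      rcases Finset.mem_union.1 h1 with h | h
      exacts [hAB y h2 h, hAC y h2 h]
  have hUe : U = U ∩ A ∪ U ∩ B := by rw [← Finset.inter_union_distrib_left, Finset.inter_eq_left.2 hU]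
  rcases hA' with a | a <;> rcases hB' with b | b <;> rw [a, b] at hUe <;> rw [← hUg, hUe]
  · exact Or.inl (by rw [Finset.union_empty, pp_empty])
  · exact Or.inr (by rw [Finset.empty_union]; exact (L.e 1).2.2.2)
  · exact Or.inr (by rw [Finset.union_empty]; exact (L.e 0).2.2.2)
  · exact Or.inl (S.pp_oct ((tadj_iff S _ _).1 (L.adj (show (0 : Fin 6) ≠ 1 by decide))).2)

end H49.Sextet
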