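/-
A bound by signs for elements commuting up to a central involution.
-/
import Mathlib

set_option autoImplicit false
set_option linter.unusedSectionVars false

namespace H49.Sextet

open scoped Classical commutatorElement

/-- The sign homomorphisms killing a central involution. -/
lemma card_sign_le {X : Type*} [Group X] [Finite X] {z : X} (hc : ∀ x, Commute z x) (hz : z ≠ 1) :
    2 * Nat.card {ψ : X →* ℤˣ // ψ z = 1} ≤ Nat.card X := by
  set Z := Subgroup.zpowers z with hZ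
  haveI hN : Z.Normal := ⟨fun y hy g => by
    obtain ⟨n, rfl⟩ := Subgroup.mem_zpowers_iff.1 hy
    rw [show g * z ^ n * g⁻¹ = z ^ n by rw [((hc g).zpow_left n).symm.eq, mul_inv_cancel_right]]
    exact hy⟩
  let A := Abelianization (X ⧸ Z)
  haveI : NeZero (Monoid.exponent A) := ⟨Monoid.exponent_ne_zero_of_finite⟩
  let ι : ℤˣ →* ℂˣ := Units.map (Int.castRingHom ℂ).toMonoidHom
  have hι : Function.Injective ι := Units.map_injective (fun a b h => Int.cast_injective h)
  let f : {ψ : X →* ℤˣ // ψ z = 1} → (A →* ℂˣ) := fun ψ =>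
    ι.comp (Abelianization.lift (QuotientGroup.lift Z ψ.1 (by
      rw [hZ, Subgroup.zpowers_le]; exact ψ.2)))
  have hf : Function.Injective f := by
    intro ψ χ h
    apply Subtype.ext
    ext x : 1
    have := congrArg (fun F : A →* ℂˣ => F (Abelianization.of (QuotientGroup.mk x : X ⧸ Z))) h
    simp only [f, MonoidHom.comp_apply, Abelianization.lift_apply_of, QuotientGroup.lift_mk] at this
    exact hι this
  haveI : Finite (A →* ℂˣ) := Nat.finite_of_card_ne_zero (by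
    rw [CommGroup.card_monoidHom_of_hasEnoughRootsOfUnity A ℂ]; exact Nat.card_pos.ne')
  have h1 := Nat.card_le_card_of_injective f hf
  rw [CommGroup.card_monoidHom_of_hasEnoughRootsOfUnity A ℂ] at h1
  have h2 : Nat.card A ≤ Nat.card (X ⧸ Z) :=
    Nat.card_le_card_of_surjective _ (show Function.Surjective (Abelianization.of : (X ⧸ Z) →* A) from QuotientGroup.mk'_surjective _)
  have h3 := Subgroup.card_eq_card_quotient_mul_card_subgroup Z
  have h4 : 2 ≤ Nat.card ↥Z := by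
    haveI : Nontrivial ↥Z := ⟨⟨1, ⟨z, Subgroup.mem_zpowers z⟩, fun e => hz (congrArg Subtype.val e).symm⟩⟩
    exact Finite.one_lt_card
  calc 2 * Nat.card {ψ : X →* ℤˣ // ψ z = 1} ≤ 2 * Nat.card (X ⧸ Z) :=
        Nat.mul_le_mul_left 2 (h1.trans h2)
    _ ≤ Nat.card X := by rw [h3, mul_comm 2]; exact Nat.mul_le_mul_left _ h4

/-- The bound. -/
theorem dual_bound {X : Type*} [Group X] [Finite X] {H V B : Subgroup X} {z : X} (hzV : z ∈ V)
    (hz : z ≠ 1) (hz2 : z * z = 1) (hzc : ∀ v ∈ V, Commute z v) (hzH : ∀ h ∈ H, Commute z h)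
    (hcomm : ∀ h ∈ H, ∀ v ∈ V, ⁅h, v⁆ = 1 ∨ ⁅h, v⁆ = z)
    (hB : ∀ h ∈ H, (∀ v ∈ V, Commute h v) → h ∈ B) :
    2 * Nat.card ↥H ≤ Nat.card ↥B * Nat.card ↥V := by
  let s : X → ℤˣ := fun x => if x = 1 then 1 else -1
  have hs : ∀ {x y : X}, (x = 1 ∨ x = z) → (y = 1 ∨ y = z) → s (x * y) = s x * s y := by
    intro x y hx hy
    rcases hx with rfl | rfl <;> rcases hy with rfl | rfl <;> simp [s, hz, hz2]
  let ε : ↥H → (↥V →* ℤˣ) := fun h => MonoidHom.mk' (fun v => s ⁅(h : X), (v : X)⁆) fun v w => by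
    show s ⁅(h : X), (v : X) * w⁆ = _
    have hv := hcomm h h.2 v v.2
    have hw := hcomm h h.2 w w.2
    have : ⁅(h : X), (v : X) * w⁆ = ⁅(h : X), (v : X)⁆ * ⁅(h : X), (w : X)⁆ := by
      have e : ⁅(h : X), (v : X) * w⁆ = ⁅(h : X), (v : X)⁆ * ((v : X) * ⁅(h : X), (w : X)⁆ * (v : X)⁻¹) := by
        simp only [commutatorElement_def]; group
      rw [e]
      rcases hw with e' | e' <;> rw [e']
      · group
      · rw [← (hzc v v.2).eq, mul_inv_cancel_right]
    rw [this]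
    exact hs hv hw
  let Φ : ↥H →* (↥V →* ℤˣ) := MonoidHom.mk' ε fun h k => by
    ext v : 1
    show s ⁅(h : X) * k, (v : X)⁆ = s ⁅(h : X), (v : X)⁆ * s ⁅(k : X), (v : X)⁆
    have hv := hcomm h h.2 v v.2
    have hk := hcomm k k.2 v v.2
    have : ⁅(h : X) * k, (v : X)⁆ = ⁅(k : X), (v : X)⁆ * ⁅(h : X), (v : X)⁆ := by
      have e : ⁅(h : X) * k, (v : X)⁆ = (h : X) * ⁅(k : X), (v : X)⁆ * (h : X)⁻¹ * ⁅(h : X), (v : X)⁆ := by
        simp only [commutatorElement_def]; group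
      rw [e]
      rcases hk with e' | e' <;> rw [e']
      · group
      · rw [← (hzH h h.2).eq, mul_inv_cancel_right]
    rw [this, hs hk hv, mul_comm]
  have hker : Nat.card ↥Φ.ker ≤ Nat.card ↥B := by
    refine Nat.card_le_card_of_injective (fun h => (⟨h.1.1, hB h.1.1 h.1.2 fun v hv => ?_⟩ : ↥B))
      fun a b e => Subtype.ext (Subtype.ext (show (a.1.1 : X) = b.1.1 from congrArg (fun x : ↥B => (x : X)) e))
    have := congrArg (fun F : ↥V →* ℤˣ => F ⟨v, hv⟩) (MonoidHom.mem_ker.1 h.2)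
    change s ⁅(h.1.1 : X), v⁆ = 1 at this
    rw [← commutatorElement_eq_one_iff_commute]
    by_contra hn
    simp only [s, if_neg hn] at this
    exact absurd this (by decide)
  haveI : Finite (↥V →* ℤˣ) := Finite.of_injective (fun F : ↥V →* ℤˣ => (F : ↥V → ℤˣ)) DFunLike.coe_injective
  have hrange : Nat.card ↥Φ.range ≤ Nat.card {ψ : ↥V →* ℤˣ // ψ ⟨z, hzV⟩ = 1} := by
    refine Nat.card_le_card_of_injective (fun ψ => ⟨ψ.1, ?_⟩) fun a b e =>
      Subtype.ext (show (a.1 : ↥V →* ℤˣ) = b.1 from congrArg (fun x : {ψ : ↥V →* ℤˣ // ψ ⟨z, hzV⟩ = 1} => x.1) e)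
    obtain ⟨h, hh⟩ := ψ.2
    rw [← hh]
    show s ⁅(h : X), z⁆ = 1
    rw [commutatorElement_eq_one_iff_commute.2 (hzH h h.2).symm]
    exact if_pos rfl
  have hV := card_sign_le (X := ↥V) (z := ⟨z, hzV⟩) (fun v => Subtype.ext (hzc v v.2).eq)
    fun e => hz (congrArg Subtype.val e)
  rw [Subgroup.card_eq_card_quotient_mul_card_subgroup Φ.ker,
    Nat.card_congr (QuotientGroup.quotientKerEquivRange Φ).toEquiv]
  calc 2 * (Nat.card ↥Φ.range * Nat.card ↥Φ.ker) = (2 * Nat.card ↥Φ.range) * Nat.card ↥Φ.ker := by ring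
    _ ≤ Nat.card ↥V * Nat.card ↥B := Nat.mul_le_mul ((Nat.mul_le_mul_left 2 hrange).trans hV) hker
    _ = _ := mul_comm _ _

end H49.Sextet
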