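/-
The automorphisms of the system are the projective isometries of the sum of six squares.
-/
import Cfsg.Agent.H49.Sextet.Orth
import Cfsg.Agent.H50.Simple

set_option autoImplicit false
set_option linter.unusedSectionVars false

namespace H49.Sextet

open Cfsg Matrix
open scoped Classical commutatorElement

variable {P : Type*} [Fintype P] {Y : Sys P}

namespace Lab

variable {L : Lab Y} (C : L.Bases)

/-- A representing vector. -/
noncomputable def vec (t : P) : Fin 6 → ZMod 3 := (pt_surj C t).choose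

lemma vec_norm (t : P) : ip (vec C t) (vec C t) = 1 := (pt_surj C t).choose_spec.1

lemma pt_vec (t : P) : pt C (vec C t) = t := (pt_surj C t).choose_spec.2

/-- The underlying matrix. -/
noncomputable abbrev mx (g : ↥GO6) : Matrix (Fin 6) (Fin 6) (ZMod 3) :=
  ((g : GL (Fin 6) (ZMod 3)) : Matrix (Fin 6) (Fin 6) (ZMod 3))

/-- The action of an isometry on a point. -/
noncomputable def act (g : ↥GO6) (t : P) : P := pt C (mx g *ᵥ vec C t)

lemma act_pt (g : ↥GO6) {v : Fin 6 → ZMod 3} (hv : ip v v = 1) :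
    act C g (pt C v) = pt C (mx g *ᵥ v) := by
  have h := (pt_eq C hv (vec_norm C (pt C v))).1 (pt_vec C _).symm
  rw [act]
  refine ((pt_eq C ((GO6_ip g v v).trans hv) ((GO6_ip g _ _).trans (vec_norm C _))).2 ?_).symm
  rcases h with h | h
  · exact Or.inl (by rw [h])
  · exact Or.inr (by rw [h, Matrix.mulVec_neg])

lemma act_mul (g h : ↥GO6) (t : P) : act C (g * h) t = act C g (act C h t) := by
  conv_rhs => rw [act.eq_def C h t]
  rw [act_pt C g ((GO6_ip h _ _).trans (vec_norm C t)), Matrix.mulVec_mulVec]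
  rfl

lemma act_one (t : P) : act C 1 t = t := by
  show pt C ((1 : Matrix (Fin 6) (Fin 6) (ZMod 3)) *ᵥ vec C t) = t
  rw [Matrix.one_mulVec, pt_vec]

/-- The action of the isometries. -/
noncomputable def rho : ↥GO6 →* Equiv.Perm P :=
  MonoidHom.mk'
    (fun g =>
      { toFun := act C g
        invFun := act C g⁻¹
        left_inv := fun t => by rw [← act_mul, inv_mul_cancel, act_one]
        right_inv := fun t => by rw [← act_mul, mul_inv_cancel, act_one] })
    (fun g h => Equiv.ext fun t => act_mul C g h t)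

lemma rho_pt (g : ↥GO6) {v : Fin 6 → ZMod 3} (hv : ip v v = 1) :
    rho C g (pt C v) = pt C (mx g *ᵥ v) := act_pt C g hv

lemma rho_mem (g : ↥GO6) : rho C g ∈ autGrp Y := fun u w => by
  show Y.Adj (act C g u) (act C g w) ↔ _
  rw [act, act, pt_adj C ((GO6_ip g _ _).trans (vec_norm C u)) ((GO6_ip g _ _).trans (vec_norm C w)),
    GO6_ip, ← pt_adj C (vec_norm C u) (vec_norm C w), pt_vec, pt_vec]

lemma ker_sign {g : ↥GO6} (hg : rho C g = 1) : mx g = 1 ∨ mx g = -1 := by
  have hfix : ∀ v, ip v v = 1 → mx g *ᵥ v = v ∨ mx g *ᵥ v = -v := fun v hv => by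
    have h := rho_pt C g hv
    rw [hg, Equiv.Perm.one_apply] at h
    exact (pt_eq C hv ((GO6_ip g v v).trans hv)).1 h
  have h1 : ∀ i : Fin 6, ip (Pi.single i 1) (Pi.single i 1) = 1 := fun i => by
    simp [ip, Pi.single_apply]
  have hcol : ∀ i j : Fin 6, i ≠ j → mx g i j = 0 := by
    intro i j hij
    rcases hfix _ (h1 j) with h | h <;>
      simpa [Matrix.mulVec_single, hij] using congrFun h i
  have hdiag : mx g = Matrix.diagonal fun i => mx g i i := by
    ext i j
    by_cases h : i = j
    · subst h; simp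
    · rw [hcol i j h, Matrix.diagonal_apply_ne _ h]
  have hu : ∀ i, mx g i i = 1 ∨ mx g i i = -1 := fun i => by
    rcases hfix _ (h1 i) with h | h
    · left; simpa [Matrix.mulVec_single] using congrFun h i
    · right; simpa [Matrix.mulVec_single] using congrFun h i
  have hp : ∀ i j : Fin 6, mx g i i = mx g j j := by
    intro i j
    obtain ⟨a, b, hab, hai, hbi, haj, hbj⟩ : ∃ a b : Fin 6, a ≠ b ∧ a ≠ i ∧ b ≠ i ∧ a ≠ j ∧ b ≠ j := by
      revert i j; decide
    let v : Fin 6 → ZMod 3 := fun k => if k ∈ K a b then 1 else 0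
    have hv : ip v v = 1 := by
      have : ∀ a b : Fin 6, a ≠ b → ip (fun k => if k ∈ K a b then (1 : ZMod 3) else 0)
          (fun k => if k ∈ K a b then (1 : ZMod 3) else 0) = 1 := by decide +kernel
      exact this a b hab
    have hi : i ∈ K a b := mem_K.2 ⟨hai.symm, hbi.symm⟩
    have hj : j ∈ K a b := mem_K.2 ⟨haj.symm, hbj.symm⟩
    rcases hfix v hv with h | h <;>
    · have e1 := congrFun h i
      have e2 := congrFun h j
      rw [hdiag] at e1 e2
      simp only [Matrix.mulVec_diagonal, Pi.neg_apply, v, if_pos hi, if_pos hj, mul_one] at e1 e2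
      rw [e1, e2]
  rcases hu 0 with h | h
  · left; rw [hdiag, ← Matrix.diagonal_one]; congr 1; funext i; rw [hp i 0, h]
  · right; rw [hdiag, ← Matrix.diagonal_one, Matrix.diagonal_neg]; congr 1; funext i; rw [hp i 0, h]

lemma mx_inj {g h : ↥GO6} (e : mx g = mx h) : g = h := Subtype.ext (Units.ext e)

lemma rho_neg {g : ↥GO6} (hg : mx g = -1) : rho C g = 1 := by
  refine Equiv.ext fun t => ?_
  obtain ⟨v, hv, rfl⟩ := pt_surj C t
  rw [rho_pt C g hv, hg, Equiv.Perm.one_apply, Matrix.neg_mulVec, Matrix.one_mulVec]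
  exact ((pt_eq C hv (by simpa [ip] using hv)).2 (Or.inr rfl)).symm

lemma card_ker_le : Nat.card ↥(rho C).ker ≤ 2 := by
  obtain ⟨m, -, hm⟩ := neg_one_mem
  refine le_trans (Nat.card_mono (Finset.finite_toSet ({1, m} : Finset ↥GO6)) ?_) ?_
  · intro g hg
    rcases ker_sign C hg with h | h
    · exact Finset.mem_coe.2 (Finset.mem_insert.2 (Or.inl (mx_inj h)))
    · exact Finset.mem_coe.2 (Finset.mem_insert_of_mem
        (Finset.mem_singleton.2 (mx_inj (h.trans hm.symm))))
  · rw [Nat.card_coe_set_eq, Set.ncard_coe_finset]; exact Finset.card_le_two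

include C in
theorem range_eq : (rho C).range = autGrp Y ∧ Nat.card ↥(autGrp Y) = 13063680 := by
  have hle : (rho C).range ≤ autGrp Y := by rintro _ ⟨g, rfl⟩; exact rho_mem C g
  have h := Subgroup.card_eq_card_quotient_mul_card_subgroup (rho C).ker
  rw [card_GO6, Nat.card_congr (QuotientGroup.quotientKerEquivRange (rho C)).toEquiv] at h
  have h1 : 26127360 ≤ Nat.card ↥(rho C).range * 2 :=
    h.le.trans (Nat.mul_le_mul_left _ (card_ker_le C))
  have h2 := card_aut_le C
  have h3 : (rho C).range = autGrp Y := Subgroup.eq_of_le_of_card_ge hle (by omega)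
  refine ⟨h3, ?_⟩
  rw [h3] at h1
  omega

include C in
lemma derived_eq : ⁅autGrp Y, autGrp Y⁆ = (commutator ↥GO6).map (rho C) := by
  rw [← (range_eq C).1, MonoidHom.range_eq_map, ← Subgroup.map_commutator, commutator_def]

/-- The derived group of the automorphism group. -/
theorem derived_psu (C : L.Bases) : ∃ (K : Type) (_ : Field K) (_ : Fintype K), Fintype.card K = 9 ∧
    Nat.card ↥⁅autGrp Y, autGrp Y⁆ = 3265920 ∧ IsSimpleGroup ↥⁅autGrp Y, autGrp Y⁆ ∧
    Nonempty (↥⁅autGrp Y, autGrp Y⁆ ≃* PSU 4 K 3) := by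
  obtain ⟨K, _, _, hK, hcard, ⟨e⟩⟩ := exists_psu
  let f := (rho C).comp (commutator ↥GO6).subtype
  have hker : f.ker = Subgroup.center ↥(commutator ↥GO6) := by
    ext g
    constructor
    · intro hg
      refine Subgroup.mem_center_iff.2 fun y => Subtype.ext ?_
      rcases ker_sign C (show rho C g.1 = 1 from hg) with h | h
      · exact mx_inj (show mx y.1 * mx g.1 = mx g.1 * mx y.1 by rw [h, mul_one, one_mul])
      · exact mx_inj (show mx y.1 * mx g.1 = mx g.1 * mx y.1 by
          rw [h, mul_neg, neg_mul, mul_one, one_mul])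
    · intro hg
      have h := scalar_of_central (c := g.1) fun y hy =>
        (congrArg Subtype.val (Subgroup.mem_center_iff.1 hg ⟨y, hy⟩) : _ = _).symm
      rcases h with h | h
      · show rho C g.1 = 1
        rw [show g.1 = 1 from mx_inj h, map_one]
      · exact rho_neg C h
  have hrange : f.range = ⁅autGrp Y, autGrp Y⁆ := by
    rw [derived_eq C, MonoidHom.range_comp, Subgroup.range_subtype]
  have e' : ↥⁅autGrp Y, autGrp Y⁆ ≃* PSU 4 K 3 :=
    ((MulEquiv.subgroupCongr hrange.symm).trans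
      ((QuotientGroup.quotientKerEquivRange f).symm.trans
        (QuotientGroup.quotientMulEquivOfEq hker))).trans e
  have hS : IsSimpleGroup (PSU 4 K 3) :=
    H50.PSU_isSimple (by rw [hK]; norm_num) (by norm_num) (by norm_num)
  exact ⟨K, inferInstance, inferInstance, hK, (Nat.card_congr e'.toEquiv).trans hcard,
    e'.isSimpleGroup, ⟨e'⟩⟩

/-- The derived group has trivial centraliser. -/
theorem centraliser_derived (C : L.Bases) {σ : Equiv.Perm P} (hσ : σ ∈ autGrp Y)
    (h : ∀ τ ∈ ⁅autGrp Y, autGrp Y⁆, Commute σ τ) : σ = 1 := by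
  rw [← (range_eq C).1] at hσ
  obtain ⟨g, rfl⟩ := hσ
  obtain ⟨K, _, _, hK, hcard, ⟨e⟩⟩ := exists_psu
  obtain ⟨m, hm, hme⟩ := neg_one_mem
  have hker : ∀ y ∈ commutator ↥GO6, ⁅g, y⁆ ∈ (rho C).ker := fun y hy => by
    rw [MonoidHom.mem_ker, map_commutatorElement, commutatorElement_eq_one_iff_commute]
    exact h _ (by rw [derived_eq C]; exact Subgroup.mem_map_of_mem _ hy)
  have hz : ∀ k ∈ (rho C).ker, k ∈ Subgroup.center ↥GO6 := by
    intro k hk
    refine Subgroup.mem_center_iff.2 fun y => ?_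
    rcases ker_sign C hk with e | e
    · exact mx_inj (show mx y * mx k = mx k * mx y by rw [e, mul_one, one_mul])
    · exact mx_inj (show mx y * mx k = mx k * mx y by rw [e, mul_neg, neg_mul, mul_one, one_mul])
  let s : ↥(commutator ↥GO6) →* ↥(rho C).ker := MonoidHom.mk' (fun y => ⟨⁅g, y.1⁆, hker y.1 y.2⟩)
    (fun a b => Subtype.ext (by
      show ⁅g, a.1 * b.1⁆ = ⁅g, a.1⁆ * ⁅g, b.1⁆
      have hc := Subgroup.mem_center_iff.1 (hz _ (hker b.1 b.2)) a.1
      have : ⁅g, a.1 * b.1⁆ = ⁅g, a.1⁆ * (a.1 * ⁅g, b.1⁆ * a.1⁻¹) := by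
        simp only [commutatorElement_def]; group
      rw [this, hc, mul_inv_cancel_right]))
  have hle : Subgroup.center ↥(commutator ↥GO6) ≤ s.ker := by
    intro y hy
    have hcy := scalar_of_central (c := y.1) fun x hx =>
      (congrArg Subtype.val (Subgroup.mem_center_iff.1 hy ⟨x, hx⟩) : _ = _).symm
    refine Subtype.ext (commutatorElement_eq_one_iff_commute.2 ?_)
    have hcy' : mx y.1 = 1 ∨ mx y.1 = -1 := hcy
    rcases hcy' with e | e
    · exact mx_inj (show mx g * mx y.1 = mx y.1 * mx g by rw [e, mul_one, one_mul])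
    · exact mx_inj (show mx g * mx y.1 = mx y.1 * mx g by rw [e, mul_neg, neg_mul, mul_one, one_mul])
  let s' := (QuotientGroup.lift _ s hle).comp e.symm.toMonoidHom
  haveI : IsSimpleGroup (PSU 4 K 3) :=
    H50.PSU_isSimple (by rw [hK]; norm_num) (by norm_num) (by norm_num)
  have hs' : s'.ker = ⊤ := by
    refine (Subgroup.Normal.eq_bot_or_eq_top (MonoidHom.normal_ker s')).resolve_left fun h0 => ?_
    have := Nat.card_le_card_of_injective s' ((MonoidHom.ker_eq_bot_iff s').1 h0)
    have := card_ker_le C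
    omega
  have hcomm : ∀ y ∈ commutator ↥GO6, Commute g y := fun y hy => by
    have h0 : s' (e (QuotientGroup.mk ⟨y, hy⟩)) = 1 := by
      rw [← MonoidHom.mem_ker, hs']; trivial
    simp only [s', MonoidHom.comp_apply, MulEquiv.coe_toMonoidHom, MulEquiv.symm_apply_apply,
      QuotientGroup.lift_mk] at h0
    exact commutatorElement_eq_one_iff_commute.1 (congrArg Subtype.val h0)
  rcases scalar_of_central hcomm with e | e
  · rw [show g = 1 from mx_inj e, map_one]
  · exact rho_neg C e

end Lab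

end H49.Sextet
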