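/-
How the kernel of the action moves the pairs inside the tetrads.
-/
import Cfsg.Agent.H49.Sextet.CentOm
import Cfsg.Agent.H49.Sextet.Action

set_option autoImplicit false
set_option linter.unusedSectionVars false

namespace H49.Sextet

open Cfsg H99 H49.Parity
open scoped Classical symmDiff

variable {G : Type*} [Group G] [Finite G] {D : Set G} {z : G}

/-- The element keeps each of the three pairings of the set. -/
def PairFix (z g : G) (T : Finset G) : Prop :=
  ∀ a ∈ T, ∀ b ∈ T, g * (a * b) * g⁻¹ = a * b ∨ g * (a * b) * g⁻¹ = a * b * z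

/-- The element fixes each tetrad. -/
def Keeps (D : Set G) (z g : G) : Prop := Commute g z ∧ ∀ T : Tet D z, cimg g T.1 = T.1

variable (S : Ctx D)
include S

lemma pair_z (T : Tet D z) {a b : G} (ha : a ∈ T.1) (hb : b ∈ T.1) : b * z ≠ a := by
  intro h
  have hcl := T.2.1
  have hsq := hcl.sq S.tt
  by_cases hab : a = b
  · subst hab
    exact S.pp_ne_one hcl T.2.nonempty (T.2.2.1.le) (T.2.2.2.trans (mul_eq_left.1 h))
  have hbe : b ∈ T.1.erase a := Finset.mem_erase.2 ⟨Ne.symm hab, hb⟩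
  have h1 : z = a * (b * pp ((T.1.erase a).erase b)) := by
    rw [← pp_insert (by rw [Finset.insert_erase hbe]; exact hcl.2.mono (Finset.erase_subset a T.1))
      (Finset.notMem_erase b _), Finset.insert_erase hbe,
      ← pp_insert (by rw [Finset.insert_erase ha]; exact hcl.2) (Finset.notMem_erase a _),
      Finset.insert_erase ha, T.2.2.2]
  have hp : pp ((T.1.erase a).erase b) = 1 := by
    rw [h1, ← mul_assoc, (hcl.2 b hb a ha).eq, mul_assoc, ← mul_assoc b b, hsq b hb, one_mul,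
      mul_eq_left] at h
    exact h
  have hc : ((T.1.erase a).erase b).card = 2 := by
    rw [Finset.card_erase_of_mem hbe, Finset.card_erase_of_mem ha, T.2.2.1]
  exact S.pp_ne_one (hcl.mono ((Finset.erase_subset b _).trans (Finset.erase_subset a T.1)))
    (Finset.card_pos.1 (by omega)) (by omega) hp

lemma mem_conj {g : G} {T : Tet D z} (hg : cimg g T.1 = T.1) {a : G} (ha : a ∈ T.1) :
    g * a * g⁻¹ ∈ T.1 := by
  have h : g * a * g⁻¹ ∈ cimg g T.1 := Finset.mem_image_of_mem _ ha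
  rwa [hg] at h

/-- Two such elements agreeing on one member agree on the tetrad. -/
lemma perm_eq {g h : G} {T : Tet D z} (hg : cimg g T.1 = T.1) (hh : cimg h T.1 = T.1)
    (pg : PairFix z g T.1) (ph : PairFix z h T.1) (hgz : Commute g z) {a : G} (ha : a ∈ T.1)
    (he : g * a * g⁻¹ = h * a * h⁻¹) {b : G} (hb : b ∈ T.1) : g * b * g⁻¹ = h * b * h⁻¹ := by
  have hsplit : ∀ k : G, k * (a * b) * k⁻¹ = k * a * k⁻¹ * (k * b * k⁻¹) := fun k => by group
  have hz2 : z * z = 1 := T.2.2.2 ▸ pp_sq T.2.1.2 (T.2.1.sq S.tt)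
  have hm1 := mem_conj S hg hb
  have hm2 := mem_conj S hh hb
  rcases pg a ha b hb with e | e <;> rcases ph a ha b hb with e' | e' <;> rw [hsplit] at e e'
  · exact mul_left_cancel (a := g * a * g⁻¹) (by rw [e, he, e'])
  · exfalso
    refine pair_z S T hm2 hm1 (mul_left_cancel (a := g * a * g⁻¹) ?_)
    rw [← mul_assoc, e]; conv_rhs => rw [he, e']
  · exfalso
    refine pair_z S T hm1 hm2 (mul_left_cancel (a := g * a * g⁻¹) ?_)
    rw [e]; conv_lhs => rw [he, ← mul_assoc, e']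
  · exact mul_left_cancel (a := g * a * g⁻¹) (by rw [e, he, e'])

lemma fix_all_of_one {g : G} {T : Tet D z} (hg : cimg g T.1 = T.1) (pg : PairFix z g T.1)
    (hgz : Commute g z) {a : G} (ha : a ∈ T.1) (he : g * a * g⁻¹ = a) {b : G} (hb : b ∈ T.1) :
    Commute g b := by
  have := perm_eq S hg (cimg_one T.1) pg (fun u _ v _ => Or.inl (by group)) hgz ha
    (by rw [he]; group) hb
  exact mul_inv_eq_iff_eq_mul.1 (by rw [this]; group : g * b * g⁻¹ = b)

lemma swap_back {g : G} {T : Tet D z} (hg : cimg g T.1 = T.1) (pg : PairFix z g T.1) {a : G}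
    (ha : a ∈ T.1) : g * (g * a * g⁻¹) * g⁻¹ = a := by
  have hm := mem_conj S hg ha
  have hm' := mem_conj S hg hm
  have hc : a * (g * a * g⁻¹) = g * a * g⁻¹ * a := (T.2.1.2 a ha _ hm).eq
  have hsplit : g * (a * (g * a * g⁻¹)) * g⁻¹ = g * a * g⁻¹ * (g * (g * a * g⁻¹) * g⁻¹) := by group
  rcases pg a ha _ hm with e | e <;> rw [hsplit, hc] at e
  · exact mul_left_cancel e
  · exfalso
    rw [mul_assoc (g * a * g⁻¹) a z] at e
    exact pair_z S T hm' ha (mul_left_cancel e).symm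

lemma perm_comm {g h : G} {T : Tet D z} (hg : cimg g T.1 = T.1) (hh : cimg h T.1 = T.1)
    (pg : PairFix z g T.1) (ph : PairFix z h T.1) (hgz : Commute g z) (hhz : Commute h z) {a : G}
    (ha : a ∈ T.1) : g * (h * a * h⁻¹) * g⁻¹ = h * (g * a * g⁻¹) * h⁻¹ := by
  set u := g * a * g⁻¹ with hu
  set v := h * a * h⁻¹ with hv
  have hum : u ∈ T.1 := mem_conj S hg ha
  have hvm : v ∈ T.1 := mem_conj S hh ha
  by_cases h1 : u = v
  · rw [← perm_eq S hg hh pg ph hgz ha h1 hum, h1]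
  by_cases h2 : u = a
  · rw [h2, conj_eq_of_commute (fix_all_of_one S hg pg hgz ha h2 hvm)]
  by_cases h3 : v = a
  · rw [h3, conj_eq_of_commute (fix_all_of_one S hh ph hhz ha h3 hum)]
  have hrest : ((((T.1.erase a).erase u).erase v)).card = 1 := by
    rw [Finset.card_erase_of_mem (Finset.mem_erase.2 ⟨Ne.symm h1, Finset.mem_erase.2 ⟨h3, hvm⟩⟩),
      Finset.card_erase_of_mem (Finset.mem_erase.2 ⟨h2, hum⟩), Finset.card_erase_of_mem ha, T.2.2.1]
  obtain ⟨w, hw⟩ := Finset.card_eq_one.1 hrest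
  have hmem : ∀ {y}, y ∈ T.1 → y ≠ a → y ≠ u → y ≠ v → y = w := fun {y} hy ya yu yv => by
    have : y ∈ ((T.1.erase a).erase u).erase v :=
      Finset.mem_erase.2 ⟨yv, Finset.mem_erase.2 ⟨yu, Finset.mem_erase.2 ⟨ya, hy⟩⟩⟩
    rwa [hw, Finset.mem_singleton] at this
  have e1 : g * v * g⁻¹ = w := by
    refine hmem (mem_conj S hg hvm) (fun e => h1 ?_) (fun e => h3 ?_) fun e => h2 ?_
    · refine (conj_injective g ?_).symm
      show g * v * g⁻¹ = g * u * g⁻¹
      rw [e]; exact (swap_back S hg pg ha).symm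
    · exact conj_injective g (e.trans hu : (fun y => g * y * g⁻¹) v = (fun y => g * y * g⁻¹) a)
    · exact (conj_eq_of_commute (fix_all_of_one S hg pg hgz hvm e ha) : g * a * g⁻¹ = a)
  have e2 : h * u * h⁻¹ = w := by
    refine hmem (mem_conj S hh hum) (fun e => h1 ?_) (fun e => h3 ?_) fun e => h2 ?_
    · refine conj_injective h ?_
      show h * u * h⁻¹ = h * v * h⁻¹
      rw [e]; exact (swap_back S hh ph ha).symm
    · exact (conj_eq_of_commute (fix_all_of_one S hh ph hhz hum e ha) : h * a * h⁻¹ = a)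
    · exact conj_injective h (e.trans hv : (fun y => h * y * h⁻¹) u = (fun y => h * y * h⁻¹) a)
  rw [e1, e2]

/-- Four members split into two pairs. -/
lemma compl_pair (T : Tet D z) {a b c d : G} (ha : a ∈ T.1) (hb : b ∈ T.1) (hc : c ∈ T.1) (hd : d ∈ T.1)
    (hab : a ≠ b) (h1 : c ≠ a) (h3 : d ≠ a) (h2 : c ≠ b) (h4 : d ≠ b) (hcd : c ≠ d) :
    c * d = a * b * z := by
  have hcl := T.2.1
  have hT : ({a, b, c, d} : Finset G) = T.1 := by
    refine Finset.eq_of_subset_of_card_le ?_ ?_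
    · simp [Finset.insert_subset_iff, ha, hb, hc, hd]
    · simp [T.2.2.1, hab, hcd, Ne.symm h1, Ne.symm h2, Ne.symm h3, Ne.symm h4]
  have hz : z = a * b * (c * d) := by
    have hC : Comm ({a, b, c, d} : Finset G) := hT ▸ hcl.2
    rw [← T.2.2.2, ← hT, pp_insert hC (by simp [hab, Ne.symm h1, Ne.symm h3]),
      pp_insert (hC.mono (Finset.subset_insert a _)) (by simp [Ne.symm h2, Ne.symm h4]),
      pp_insert (hC.mono ((Finset.subset_insert b _).trans (Finset.subset_insert a _))) (by simp [hcd]),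
      ← insert_empty_eq d, pp_insert (by
        rw [insert_empty_eq]
        exact hC.mono ((Finset.subset_insert c _).trans
          ((Finset.subset_insert b _).trans (Finset.subset_insert a _)))) (Finset.notMem_empty d),
      pp_empty, mul_one, mul_assoc]
  rw [hz, ← mul_assoc (a * b) (a * b), show a * b * (a * b) = 1 by
    rw [mul_assoc, ← mul_assoc b a b, (hcl.2 b hb a ha).eq, mul_assoc a b b, hcl.sq S.tt b hb, mul_one,
      hcl.sq S.tt a ha], one_mul]

/-- Two pairs are equal, complementary, or share one member. -/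
lemma pair_cases (T : Tet D z) {a b c d : G} (ha : a ∈ T.1) (hb : b ∈ T.1) (hab : a ≠ b) (hc : c ∈ T.1)
    (hd : d ∈ T.1) (hcd : c ≠ d) :
    c * d = a * b ∨ c * d = a * b * z ∨ ∃ u v w, u ∈ T.1 ∧ v ∈ T.1 ∧ w ∈ T.1 ∧ u ≠ v ∧ u ≠ w ∧ v ≠ w ∧
      a * b = u * v ∧ c * d = u * w := by
  have hcl := T.2.1
  by_cases h1 : c = a
  · subst h1
    by_cases h2 : d = b
    · exact Or.inl (by rw [h2])
    · exact Or.inr (Or.inr ⟨c, b, d, hc, hb, hd, hab, hcd, Ne.symm h2, rfl, rfl⟩)
  by_cases h2 : c = b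
  · subst h2
    by_cases h3 : d = a
    · exact Or.inl (by rw [h3]; exact (hcl.2 c hc a ha).eq)
    · exact Or.inr (Or.inr ⟨c, a, d, hc, ha, hd, h1, hcd, Ne.symm h3, (hcl.2 a ha c hc).eq, rfl⟩)
  by_cases h3 : d = a
  · subst h3
    exact Or.inr (Or.inr ⟨d, b, c, hd, hb, hc, hab, Ne.symm hcd, Ne.symm h2, rfl, (hcl.2 c hc d hd).eq⟩)
  by_cases h4 : d = b
  · subst h4
    exact Or.inr (Or.inr ⟨d, a, c, hd, ha, hc, Ne.symm hab, Ne.symm hcd, Ne.symm h1,
      (hcl.2 a ha d hd).eq, (hcl.2 c hc d hd).eq⟩)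
  exact Or.inr (Or.inl (compl_pair S T ha hb hc hd hab h1 h3 h2 h4 hcd))

/-- Pairs sharing a member act differently on an opposite tetrad. -/
lemma pair_inj {T U : Tet D z} (hne : T ≠ U) (hA : ¬ TAdj T U) {x : G} (hx : x ∈ U.1) {u v w : G}
    (hu : u ∈ T.1) (hv : v ∈ T.1) (hw : w ∈ T.1) (hvw : v ≠ w)
    (h : u * v * x * (u * v)⁻¹ = u * w * x * (u * w)⁻¹) : False := by
  have hv2 := tt_inv S.tt (T.2.1.1 (Finset.mem_coe.2 hv))
  have hc : Commute x (v * w) := by
    have e : (v * w) * x * (v * w)⁻¹ = x := by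
      calc (v * w) * x * (v * w)⁻¹ = v * u⁻¹ * (u * w * x * (u * w)⁻¹) * u * v⁻¹ := by group
        _ = v * u⁻¹ * (u * v * x * (u * v)⁻¹) * u * v⁻¹ := by rw [h]
        _ = v * v * x * (v * v)⁻¹ := by group
        _ = x := by rw [tt_mul_self S.tt (T.2.1.1 (Finset.mem_coe.2 hv))]; group
    exact (mul_inv_eq_iff_eq_mul.1 e).symm
  have := (H99.Fi.commute_of_pair S.tt (T.2.1.1 (Finset.mem_coe.2 hv)) (T.2.1.1 (Finset.mem_coe.2 hw))
    (U.2.1.1 (Finset.mem_coe.2 hx)) (T.2.1.2 v hv w hw) hvw hc).1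
  exact nadj S hne hA v hv x hx this.symm

omit S in
/-- The parities of a set over a frame. -/
noncomputable def par {S : Ctx D} (L : Lab (sys S (z := z))) (W : Finset G) : Finset (Fin 6) :=
  Finset.univ.filter fun i => Odd (W ∩ (L.e i).1).card

lemma piz_pp (L : Lab (sys S (z := z))) {W : Finset G} (hW : W ⊆ om S L) (T : Tet D z) :
    cimg (pp W) T.1 = (L.R (par L W) T).1 := by
  induction W using Finset.induction_on with
  | empty =>
    rw [pp_empty, cimg_one, show par L (∅ : Finset G) = ∅ by simp [par], L.R_empty]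
  | @insert a W ha ih =>
    obtain ⟨i, hi⟩ := mem_om.1 (hW (Finset.mem_insert_self a W))
    rw [pp_insert ((cliq_om L).2.mono hW) ha, ← cimg_cimg,
      ih ((Finset.subset_insert a W).trans hW)]
    have hpar : par L (insert a W) = {i} ∆ par L W := by
      ext j
      by_cases hji : j = i
      · subst hji
        rw [par, par, Finset.mem_filter, Finset.insert_inter_of_mem hi,
          Finset.card_insert_of_notMem (fun h => ha (Finset.mem_inter.1 h).1)]
        simp [Finset.mem_symmDiff, Nat.odd_add_one]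
      · rw [par, par, Finset.mem_filter, Finset.insert_inter_of_notMem
          (fun h => hji (label_eq L h hi))]
        simp [Finset.mem_symmDiff, hji]
    rw [hpar, ← L.r_R]
    exact (tref_eq S hi).symm

lemma par_rel (L : Lab (sys S (z := z))) (C : L.Bases) {U : Finset (Fin 6)}
    (h : ∀ T, L.R U T = T) : U = ∅ ∨ U = Finset.univ := by
  by_contra hn
  push Not at hn
  obtain ⟨k, hk⟩ := hn.1
  obtain ⟨l, hl⟩ : ∃ l, l ∉ U := by
    by_contra he
    push Not at he
    exact hn.2 (Finset.eq_univ_of_forall he)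
  have hkl : k ≠ l := fun e => hl (e ▸ hk)
  obtain ⟨a, b, hab, hak, hbk, hal, hbl⟩ : ∃ a b : Fin 6, a ≠ b ∧ a ≠ k ∧ b ≠ k ∧ a ≠ l ∧ b ≠ l := by
    have : ∀ k l : Fin 6, k ≠ l → ∃ a b : Fin 6, a ≠ b ∧ a ≠ k ∧ b ≠ k ∧ a ≠ l ∧ b ≠ l := by decide
    exact this k l hkl
  rcases (L.R_eq_self (C.orb a b hab) U).1 (h _) with e | e
  · have : k ∈ U ∩ Lab.K a b := Finset.mem_inter.2 ⟨hk, Lab.mem_K.2 ⟨hak.symm, hbk.symm⟩⟩
    rw [e] at this
    exact Finset.notMem_empty k this
  · have : l ∈ U ∩ Lab.K a b := e.symm ▸ Lab.mem_K.2 ⟨hal.symm, hbl.symm⟩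
    exact hl (Finset.mem_inter.1 this).1

end H49.Sextet
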