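/-
Keeping one pairing means keeping all pairings.
-/
import Cfsg.Agent.H49.Sextet.Pairs

set_option autoImplicit false
set_option linter.unusedSectionVars false

namespace H49.Sextet

open Cfsg H99 H49.Parity
open scoped Classical symmDiff

variable {G : Type*} [Group G] [Finite G] {D : Set G} {z : G}

variable (S : Ctx D)
include S

lemma par_pp_one (L : Lab (sys S (z := z))) (C : L.Bases) {W : Finset G} (hW : W ⊆ om S L)
    (h1 : pp W = 1) : par L W = ∅ ∨ par L W = Finset.univ := by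
  refine par_rel S L C fun T => Tet.ext' ?_
  rw [← piz_pp S L hW T, h1, cimg_one]

lemma card_split (L : Lab (sys S (z := z))) {W : Finset G} (hW : W ⊆ om S L) :
    W.card = ∑ m, (W ∩ (L.e m).1).card := by
  rw [← Finset.card_biUnion (fun a _ b _ hab => Finset.disjoint_left.2 fun y ha hb =>
    hab (label_eq L (Finset.mem_inter.1 ha).2 (Finset.mem_inter.1 hb).2))]
  congr 1
  ext y
  simp only [Finset.mem_biUnion, Finset.mem_univ, true_and, Finset.mem_inter]
  exact ⟨fun hy => by obtain ⟨i, hi⟩ := mem_om.1 (hW hy); exact ⟨i, hy, hi⟩,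
    fun ⟨i, hy, _⟩ => hy⟩

/-- The octads with two pairs on two labels. -/
lemma pair_oct (L : Lab (sys S (z := z))) (C : L.Bases) {i j : Fin 6} (hij : i ≠ j) {a b p q : G}
    (ha : a ∈ (L.e i).1) (hb : b ∈ (L.e i).1) (hab : a ≠ b) (hp : p ∈ (L.e j).1) (hq : q ∈ (L.e j).1)
    (hpq : p ≠ q) :
    ∃ l k R, l ≠ k ∧ i ≠ l ∧ i ≠ k ∧ j ≠ l ∧ j ≠ k ∧ R ⊆ (L.e l).1 ∪ (L.e k).1 ∧
      a * b * (p * q) * pp R = 1 := by
  obtain ⟨l, hli, hlj⟩ := Lab.exists_off i j hij
  obtain ⟨c, hc⟩ := (L.e l).2.nonempty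
  have hcl := cliq_om L
  have hne : ∀ {m n : Fin 6}, m ≠ n → ∀ {u v}, u ∈ (L.e m).1 → v ∈ (L.e n).1 → u ≠ v :=
    fun {m n} hmn {u v} hu hv e => hmn (label_eq L hu (e ▸ hv))
  set M : Finset G := {a, b, p, q, c} with hM
  have hMc : M.card = 5 := by
    simp [hM, hab, hpq, hne hij ha hp, hne hij ha hq, hne hij hb hp, hne hij hb hq,
      hne hli.symm ha hc, hne hli.symm hb hc, hne hlj.symm hp hc, hne hlj.symm hq hc]
  have hMΩ : M ⊆ om S L := by
    simp [hM, Finset.insert_subset_iff, sub_om L i ha, sub_om L i hb, sub_om L j hp, sub_om L j hq,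
      sub_om L l hc]
  obtain ⟨O, ⟨hO, hMO⟩, -⟩ := S.oct_five (hcl.mono hMΩ) hMc
  obtain ⟨O0, x0, hO0, hx0, he0⟩ := om_std L
  have hOΩ : O ⊆ om S L := by
    rw [he0]
    exact oct_sub S hO0 hx0 hO hMO hMc (he0 ▸ hMΩ)
  have mem : ∀ y ∈ M, y ∈ O := fun y hy => hMO hy
  set w := fun m => (O ∩ (L.e m).1).card with hw
  have hsum : ∑ m, w m = 8 := (card_split S L hOΩ).symm.trans hO.2.1
  have hwle : ∀ m, w m ≤ 4 := fun m => (Finset.card_le_card Finset.inter_subset_right).trans_eq (L.e m).2.2.1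
  have two : ∀ {m : Fin 6} {u v}, u ∈ (L.e m).1 → v ∈ (L.e m).1 → u ∈ M → v ∈ M → u ≠ v →
      2 ≤ w m := fun {m u v} hu hv huM hvM huv => by
    rw [← Finset.card_pair huv]
    refine Finset.card_le_card ?_
    simp [Finset.insert_subset_iff, mem u huM, mem v hvM, hu, hv]
  have wi : 2 ≤ w i := two ha hb (by simp [hM]) (by simp [hM]) hab
  have wj : 2 ≤ w j := two hp hq (by simp [hM]) (by simp [hM]) hpq
  have wl : 1 ≤ w l := Finset.card_pos.2 ⟨c, Finset.mem_inter.2 ⟨mem c (by simp [hM]), hc⟩⟩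
  have four : ∀ {m n : Fin 6} {u}, m ≠ n → l ≠ m → l ≠ n → u ∈ (L.e n).1 → u ∈ M → w m ≠ 4 := by
    intro m n u hmn hlm hln hu huM h4
    have hsub : (L.e m).1 ⊆ O := by
      have := Finset.eq_of_subset_of_card_le (Finset.inter_subset_right : O ∩ (L.e m).1 ⊆ _)
        (by rw [(L.e m).2.2.1]; exact h4.ge)
      exact this ▸ Finset.inter_subset_left
    have h5 : (insert u (L.e m).1).card = 5 := by
      rw [Finset.card_insert_of_notMem fun h => hne hmn h hu rfl, (L.e m).2.2.1]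
    obtain ⟨hO', -, -⟩ := om_tt24 L hmn hlm.symm hln.symm
    have hOe : O = (L.e m).1 ∪ (L.e n).1 := (S.oct_five (hcl.mono (Finset.insert_subset (sub_om L n hu)
        (sub_om L m))) h5).unique ⟨hO, Finset.insert_subset (mem u huM) hsub⟩
      ⟨hO', Finset.insert_subset (Finset.mem_union_right _ hu) Finset.subset_union_left⟩
    rcases Finset.mem_union.1 (hOe ▸ mem c (by simp [hM])) with h | h
    exacts [hlm (label_eq L hc h), hln (label_eq L hc h)]
  have wi4 := four hij hli hlj hp (by simp [hM])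
  have wj4 := four hij.symm hlj hli ha (by simp [hM])
  set R' := ((Finset.univ.erase i).erase j).erase l with hR'
  have hsum' : w i + (w j + (w l + ∑ m ∈ R', w m)) = 8 := by
    rw [Finset.add_sum_erase _ _ (Finset.mem_erase.2 ⟨hlj, Finset.mem_erase.2 ⟨hli, Finset.mem_univ l⟩⟩),
      Finset.add_sum_erase _ _ (Finset.mem_erase.2 ⟨hij.symm, Finset.mem_univ j⟩),
      Finset.add_sum_erase _ _ (Finset.mem_univ i)]
    exact hsum
  have hR3 : R'.card = 3 := by
    rw [hR', Finset.card_erase_of_mem (Finset.mem_erase.2 ⟨hlj, Finset.mem_erase.2 ⟨hli, Finset.mem_univ l⟩⟩),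
      Finset.card_erase_of_mem (Finset.mem_erase.2 ⟨hij.symm, Finset.mem_univ j⟩),
      Finset.card_erase_of_mem (Finset.mem_univ i)]
    rfl
  have heven : ∀ m, Even (w m) := by
    rcases par_pp_one S L C hOΩ (S.pp_oct hO) with h | h
    · intro m
      have : m ∉ par L O := by rw [h]; exact Finset.notMem_empty m
      simpa [par] using this
    · exfalso
      have hodd : ∀ m, Odd (w m) := fun m => by
        have : m ∈ par L O := by rw [h]; exact Finset.mem_univ m
        simpa [par] using this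
      have h1 : R'.card * 1 ≤ ∑ m ∈ R', w m :=
        (le_of_eq (smul_eq_mul _ _).symm).trans (Finset.card_nsmul_le_sum R' w 1 fun m _ => (hodd m).pos)
      have := Nat.odd_iff.1 (hodd i)
      have := Nat.odd_iff.1 (hodd j)
      omega
  have ei := Nat.even_iff.1 (heven i)
  have ej := Nat.even_iff.1 (heven j)
  have el := Nat.even_iff.1 (heven l)
  have hwi : w i = 2 := by have := hwle i; omega
  have hwj : w j = 2 := by have := hwle j; omega
  obtain ⟨k, hkR, hk⟩ : ∃ k ∈ R', ∀ m ∈ R', m ≠ k → w m = 0 := by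
    by_cases h : ∃ k ∈ R', w k ≠ 0
    · obtain ⟨k, hk, hk0⟩ := h
      refine ⟨k, hk, fun m hm hmk => ?_⟩
      have h2 := Finset.add_sum_erase R' w hk
      have h3 : w m ≤ ∑ x ∈ R'.erase k, w x :=
        Finset.single_le_sum (fun x _ => Nat.zero_le (w x)) (Finset.mem_erase.2 ⟨hmk, hm⟩)
      have := Nat.even_iff.1 (heven k)
      have := Nat.even_iff.1 (heven m)
      omega
    · push Not at h
      obtain ⟨k, hk⟩ := Finset.card_pos.1 (by omega : 0 < R'.card)
      exact ⟨k, hk, fun m hm _ => h m hm⟩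
  obtain ⟨hkl, hkj, hki, -⟩ : k ≠ l ∧ k ≠ j ∧ k ≠ i ∧ True := by simpa [hR'] using hkR
  have hOi : O ∩ (L.e i).1 = {a, b} := (Finset.eq_of_subset_of_card_le
    (by simp [Finset.insert_subset_iff, mem a (by simp [hM]), mem b (by simp [hM]), ha, hb])
    (by rw [Finset.card_pair hab]; exact hwi.le)).symm
  have hOj : O ∩ (L.e j).1 = {p, q} := (Finset.eq_of_subset_of_card_le
    (by simp [Finset.insert_subset_iff, mem p (by simp [hM]), mem q (by simp [hM]), hp, hq])
    (by rw [Finset.card_pair hpq]; exact hwj.le)).symm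
  set R := O \ ({a, b, p, q} : Finset G) with hR
  refine ⟨l, k, R, hkl.symm, hli.symm, hki.symm, hlj.symm, hkj.symm, fun y hy => ?_, ?_⟩
  · obtain ⟨hyO, hyn⟩ := Finset.mem_sdiff.1 hy
    obtain ⟨m, hm⟩ := mem_om.1 (hOΩ hyO)
    simp only [Finset.mem_insert, Finset.mem_singleton, not_or] at hyn
    by_cases hmi : m = i
    · subst hmi
      have : y ∈ O ∩ (L.e m).1 := Finset.mem_inter.2 ⟨hyO, hm⟩
      rw [hOi] at this
      simp [hyn.1, hyn.2.1] at this
    by_cases hmj : m = j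
    · subst hmj
      have : y ∈ O ∩ (L.e m).1 := Finset.mem_inter.2 ⟨hyO, hm⟩
      rw [hOj] at this
      simp [hyn.2.2.1, hyn.2.2.2] at this
    by_cases hml : m = l
    · exact Finset.mem_union_left _ (hml ▸ hm)
    by_cases hmk : m = k
    · exact Finset.mem_union_right _ (hmk ▸ hm)
    exfalso
    have h0 := hk m (Finset.mem_erase.2 ⟨hml, Finset.mem_erase.2 ⟨hmj, Finset.mem_erase.2
      ⟨hmi, Finset.mem_univ m⟩⟩⟩) hmk
    exact Finset.notMem_empty y (Finset.card_eq_zero.1 h0 ▸ Finset.mem_inter.2 ⟨hyO, hm⟩)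
  · have hsub : ({a, b, p, q} : Finset G) ⊆ O := by
      simp [Finset.insert_subset_iff, mem a (by simp [hM]), mem b (by simp [hM]), mem p (by simp [hM]),
        mem q (by simp [hM])]
    have hC := hO.1.2.mono hsub
    have h := pp_union (U := ({a, b, p, q} : Finset G)) (V := R) (by
      rw [hR, Finset.union_sdiff_of_subset hsub]; exact hO.1.2) Finset.disjoint_sdiff
    rw [hR, Finset.union_sdiff_of_subset hsub, S.pp_oct hO, ← hR,
      pp_insert hC (by simp [hab, hne hij ha hp, hne hij ha hq]),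
      pp_insert (hC.mono (Finset.subset_insert a _)) (by simp [hne hij hb hp, hne hij hb hq]),
      pp_insert (hC.mono ((Finset.subset_insert b _).trans (Finset.subset_insert a _))) (by simp [hpq]),
      ← insert_empty_eq q, pp_insert (by
        rw [insert_empty_eq]
        exact hC.mono ((Finset.subset_insert p _).trans
          ((Finset.subset_insert b _).trans (Finset.subset_insert a _)))) (Finset.notMem_empty q),
      pp_empty, mul_one] at h
    rw [h]
    group

/-- One pairing kept on a frame tetrad keeps those of another. -/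
lemma fix_step (L : Lab (sys S (z := z))) {i j : Fin 6} (hij : i ≠ j) {g : G} (hg : Keeps D z g)
    {p q : G} (hp : p ∈ (L.e j).1) (hq : q ∈ (L.e j).1) (hpq : p ≠ q)
    (hfix : g * (p * q) * g⁻¹ = p * q ∨ g * (p * q) * g⁻¹ = p * q * z) : PairFix z g (L.e i).1 := by
  intro a ha b hb
  by_cases hab : a = b
  · subst hab
    exact Or.inl (by rw [tt_mul_self S.tt ((L.e i).2.1.1 (Finset.mem_coe.2 ha))]; group)
  obtain ⟨C⟩ := L.exists_bases
  obtain ⟨l, k, R, hlk, hil, hik, hjl, hjk, hR, hrel⟩ := pair_oct S L C hij ha hb hab hp hq hpq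
  set T := C.B l k with hT
  have hTo := C.orb l k hlk
  have hadj : ∀ m, TAdj T (L.e m) ↔ m = l ∨ m = k := fun m => L.adj_e hTo
  have hrc : ∀ u ∈ T.1, Commute (pp R) u := by
    intro u hu
    refine (commute_pp ((cliq_om L).2.mono fun y hy => ?_) fun y hy => ?_).symm
    · rcases Finset.mem_union.1 (hR hy) with h | h
      exacts [sub_om L l h, sub_om L k h]
    · rcases Finset.mem_union.1 (hR hy) with h | h
      exacts [((hadj l).2 (Or.inl rfl)).2 u hu y h, ((hadj k).2 (Or.inr rfl)).2 u hu y h]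
  have hsame : ∀ u ∈ T.1, a * b * u * (a * b)⁻¹ = p * q * u * (p * q)⁻¹ := by
    intro u hu
    have e : a * b = (pp R)⁻¹ * (p * q)⁻¹ := by
      rw [← mul_inv_rev]; exact eq_inv_of_mul_eq_one_left (by rw [← mul_assoc]; exact hrel)
    have hcl := (L.e j).2.1
    have hpq2 : (p * q)⁻¹ = p * q := by
      rw [mul_inv_rev, tt_inv S.tt (hcl.1 (Finset.mem_coe.2 hp)),
        tt_inv S.tt (hcl.1 (Finset.mem_coe.2 hq))]
      exact (hcl.2 q hq p hp).eq
    have hc : Commute (pp R) (p * q) := by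
      refine (commute_pp ((cliq_om L).2.mono fun y hy => ?_) fun y hy => ?_).symm
      · rcases Finset.mem_union.1 (hR hy) with h | h
        exacts [sub_om L l h, sub_om L k h]
      · have hy' : y ∈ om S L := by
          rcases Finset.mem_union.1 (hR hy) with h | h
          exacts [sub_om L l h, sub_om L k h]
        exact ((cliq_om L).2 p (sub_om L j hp) y hy').mul_left ((cliq_om L).2 q (sub_om L j hq) y hy')
    rw [e, hpq2, hc.inv_left.eq, show p * q * (pp R)⁻¹ * u * (p * q * (pp R)⁻¹)⁻¹ =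
      p * q * ((pp R)⁻¹ * u * (pp R)⁻¹⁻¹) * (p * q)⁻¹ by group, conj_eq_of_commute (hrc u hu).inv_left, hpq2]
  have hgab : g * a * g⁻¹ ≠ g * b * g⁻¹ := fun e => hab (conj_injective g e)
  obtain ⟨x, hx⟩ := T.2.nonempty
  have hact : g * (a * b) * g⁻¹ * x * (g * (a * b) * g⁻¹)⁻¹ = a * b * x * (a * b)⁻¹ := by
    have hx' : g⁻¹ * x * g ∈ T.1 := by
      have h : g⁻¹ * x * g⁻¹⁻¹ ∈ cimg g⁻¹ (cimg g T.1) := Finset.mem_image_of_mem _ (by rw [hg.2 T]; exact hx)
      rw [cimg_inv, inv_inv] at h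
      exact h
    rw [hsame x hx]
    calc g * (a * b) * g⁻¹ * x * (g * (a * b) * g⁻¹)⁻¹
        = g * (a * b * (g⁻¹ * x * g) * (a * b)⁻¹) * g⁻¹ := by group
      _ = g * (p * q * (g⁻¹ * x * g) * (p * q)⁻¹) * g⁻¹ := by rw [hsame _ hx']
      _ = g * (p * q) * g⁻¹ * x * (g * (p * q) * g⁻¹)⁻¹ := by group
      _ = p * q * x * (p * q)⁻¹ := by
        rcases hfix with e | e <;> rw [e]
        rw [show p * q * z * x * (p * q * z)⁻¹ = p * q * (z * x * z⁻¹) * (p * q)⁻¹ by group,
          conj_eq_of_commute (T.2.commute_z hx).symm]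
  have hmem : ∀ u ∈ (L.e i).1, g * u * g⁻¹ ∈ (L.e i).1 := fun u hu => mem_conj S (hg.2 _) hu
  have hsplit : g * (a * b) * g⁻¹ = g * a * g⁻¹ * (g * b * g⁻¹) := by group
  rcases pair_cases S (L.e i) ha hb hab (hmem a ha) (hmem b hb) hgab with e | e | ⟨u, v, w, hu, hv, hw, -, -, hvw, e1, e2⟩
  · exact Or.inl (hsplit.trans e)
  · exact Or.inr (hsplit.trans e)
  · exfalso
    rw [hsplit, e2, e1] at hact
    refine pair_inj S (T := L.e i) (U := T) (fun e => hTo.2.1 i e.symm) (fun h => ?_) hx hu hv hw hvw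
      hact.symm
    rcases (hadj i).1 ((sys S).symm h) with e | e
    exacts [hil e, hik e]

lemma exists_pair (T : Tet D z) : ∃ a ∈ T.1, ∃ b ∈ T.1, a ≠ b :=
  Finset.one_lt_card.1 (by rw [T.2.2.1]; norm_num)

/-- One pairing kept keeps all. -/
lemma triv_of_fix {g : G} (hg : Keeps D z g) {T : Tet D z} {a b : G} (ha : a ∈ T.1) (hb : b ∈ T.1)
    (hab : a ≠ b) (h : g * (a * b) * g⁻¹ = a * b ∨ g * (a * b) * g⁻¹ = a * b * z) :
    ∀ U : Tet D z, PairFix z g U.1 := by
  have step : ∀ {T U : Tet D z}, TAdj T U → ∀ {a b : G}, a ∈ T.1 → b ∈ T.1 → a ≠ b →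
      (g * (a * b) * g⁻¹ = a * b ∨ g * (a * b) * g⁻¹ = a * b * z) → PairFix z g U.1 := by
    intro T U hTU a b ha hb hab h
    obtain ⟨L, i, j, hij, hi, hj⟩ := exists_lab_two S hTU
    subst hi hj
    exact fix_step S L hij.symm hg ha hb hab h
  have step' : ∀ {T U : Tet D z}, TAdj T U → PairFix z g T.1 → PairFix z g U.1 := fun {T U} hTU hp => by
    obtain ⟨a, ha, b, hb, hab⟩ := exists_pair S T
    exact step hTU ha hb hab (hp a ha b hb)
  obtain ⟨L, hL⟩ := exists_lab S T
  have h1 : PairFix z g (L.e 1).1 := step (hL ▸ L.adj (show (0 : Fin 6) ≠ 1 by decide)) ha hb hab h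
  have h0 : PairFix z g (L.e 0).1 := step' (L.adj (show (1 : Fin 6) ≠ 0 by decide)) h1
  have hall : ∀ i, PairFix z g (L.e i).1 := fun i => by
    by_cases hi : i = 0
    · exact hi ▸ h0
    · exact step' (L.adj (Ne.symm hi)) h0
  intro U
  rcases L.exists_orb U with ⟨i, rfl⟩ | ⟨a, b, -, ho⟩
  · exact hall i
  · exact step' (L.orb_common ho).1 (hall a)

end H49.Sextet
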