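/-
The kernel of the action on tetrads.
-/
import Cfsg.Agent.H49.Sextet.Triv
import Cfsg.Agent.H49.Sextet.Dual
import Cfsg.Agent.H49.Sextet.Model

set_option autoImplicit false
set_option linter.unusedSectionVars false

namespace H49.Sextet

open Cfsg H99 H49.Parity
open scoped Classical symmDiff commutatorElement

variable {G : Type*} [Group G] [Finite G] {D : Set G} {z : G}

variable (S : Ctx D)

/-- The elements keeping every tetrad and every pairing. -/
noncomputable def triv : Subgroup ↥(CZ z) where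
  carrier := {g | ∀ T : Tet D z, cimg (g : G) T.1 = T.1 ∧ PairFix z (g : G) T.1}
  one_mem' := fun T => ⟨cimg_one T.1, fun a _ b _ => Or.inl (by simp)⟩
  mul_mem' := fun {g h} hg hh T => by
    refine ⟨by rw [Subgroup.coe_mul, ← cimg_cimg, (hh T).1, (hg T).1], fun a ha b hb => ?_⟩
    have hgz : (g : G) * z * (g : G)⁻¹ = z := conj_eq_of_commute (cz_commute g)
    have hz2 : z * z = 1 := T.2.2.2 ▸ pp_sq T.2.1.2 (T.2.1.sq S.tt)
    have e1 : ((g * h : ↥(CZ z)) : G) * (a * b) * ((g * h : ↥(CZ z)) : G)⁻¹ =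
        g * ((h : G) * (a * b) * (h : G)⁻¹) * (g : G)⁻¹ := by rw [Subgroup.coe_mul]; group
    have e2 : (g : G) * (a * b * z) * (g : G)⁻¹ = g * (a * b) * (g : G)⁻¹ * z := by
      rw [show (g : G) * (a * b * z) * (g : G)⁻¹ =
        g * (a * b) * (g : G)⁻¹ * (g * z * (g : G)⁻¹) by group, hgz]
    rcases (hh T).2 a ha b hb with e | e <;> rcases (hg T).2 a ha b hb with e' | e' <;> rw [e1, e]
    · exact Or.inl e'
    · exact Or.inr e'
    · exact Or.inr (by rw [e2, e'])
    · exact Or.inl (by rw [e2, e', mul_assoc _ z z, hz2, mul_one])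
  inv_mem' := fun {g} hg T => by
    refine ⟨by
      have h := cimg_inv (g : G) T.1
      rwa [(hg T).1] at h, fun a ha b hb => ?_⟩
    have hgz : (g : G)⁻¹ * z * (g : G)⁻¹⁻¹ = z := conj_eq_of_commute (cz_commute g).inv_left
    have hz2 : z * z = 1 := T.2.2.2 ▸ pp_sq T.2.1.2 (T.2.1.sq S.tt)
    rw [Subgroup.coe_inv]
    rcases (hg T).2 a ha b hb with e | e
    · left
      conv_lhs => rw [← e]
      group
    · right
      have e4 : a * b = (g : G)⁻¹ * (a * b) * (g : G)⁻¹⁻¹ * z := by
        calc a * b = (g : G)⁻¹ * ((g : G) * (a * b) * (g : G)⁻¹) * (g : G)⁻¹⁻¹ := by group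
          _ = (g : G)⁻¹ * (a * b * z) * (g : G)⁻¹⁻¹ := by rw [e]
          _ = (g : G)⁻¹ * (a * b) * (g : G)⁻¹⁻¹ * ((g : G)⁻¹ * z * (g : G)⁻¹⁻¹) := by group
          _ = _ := by rw [hgz]
      conv_rhs => rw [e4, mul_assoc _ z z, hz2, mul_one]

lemma mem_ker_iff {g : ↥(CZ z)} : g ∈ (piz S (z := z)).ker ↔ ∀ T : Tet D z, cimg (g : G) T.1 = T.1 := by
  refine ⟨fun h T => ?_, fun h => Equiv.ext fun T => Tet.ext' ?_⟩
  · rw [← piz_val S g T, MonoidHom.mem_ker.1 h, Equiv.Perm.one_apply]
  · rw [piz_val]; exact h T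

lemma keeps_of_ker {g : ↥(CZ z)} (hg : g ∈ (piz S (z := z)).ker) : Keeps D z (g : G) :=
  ⟨cz_commute g, (mem_ker_iff S).1 hg⟩

lemma triv_le_ker : triv S ≤ (piz S (z := z)).ker := fun _ hg => (mem_ker_iff S).2 fun T => (hg T).1

include S

lemma z_sq (T : Tet D z) : z * z = 1 := T.2.2.2 ▸ pp_sq T.2.1.2 (T.2.1.sq S.tt)

lemma z_ne (T : Tet D z) : z ≠ 1 := fun h =>
  S.pp_ne_one T.2.1 T.2.nonempty T.2.2.1.le (T.2.2.2.trans h)

/-- The pairs lie in the group. -/
lemma pair_mem_triv {T : Tet D z} {a b : G} (ha : a ∈ T.1) (hb : b ∈ T.1) :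
    ∃ h : a * b ∈ CZ z, (⟨a * b, h⟩ : ↥(CZ z)) ∈ triv S := by
  have hc : Commute (a * b) z := (T.2.commute_z ha).mul_left (T.2.commute_z hb)
  refine ⟨Subgroup.mem_centralizer_singleton_iff.2 hc.eq, fun U => ?_⟩
  have hk : Keeps D z (a * b) := ⟨hc, fun V => by
    rw [← cimg_cimg, ← tref_eq S (T := T) (U := V) hb, ← tref_eq S (T := T) (U := tref S T V) ha]
    exact congrArg Subtype.val ((sys S).invol T V)⟩
  obtain ⟨p, hp, q, hq, hpq⟩ := exists_pair S T
  refine ⟨hk.2 U, triv_of_fix S hk hp hq hpq (Or.inl ?_) U⟩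
  exact conj_eq_of_commute (((T.2.1.2 a ha p hp).mul_right (T.2.1.2 a ha q hq)).mul_left
    ((T.2.1.2 b hb p hp).mul_right (T.2.1.2 b hb q hq)))

omit S in
/-- The products of two members of one tetrad. -/
def pairs (D : Set G) (z : G) : Set ↥(CZ z) :=
  {g | ∃ T : Tet D z, ∃ a ∈ T.1, ∃ b ∈ T.1, (g : G) = a * b}

lemma pairs_le : Subgroup.closure (pairs D z) ≤ triv S := by
  rw [Subgroup.closure_le]
  rintro g ⟨T, a, ha, b, hb, e⟩
  obtain ⟨h, hm⟩ := pair_mem_triv S ha hb
  exact (Subtype.ext e : g = ⟨a * b, h⟩) ▸ hm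

/-- Commuting with the pairs of a tetrad fixes it. -/
lemma fix_of_pairs {T : Tet D z} {g : G}
    (hg : ∀ a ∈ T.1, ∀ b ∈ T.1, Commute g (a * b)) {a : G} (ha : a ∈ T.1) : Commute g a := by
  obtain ⟨b, hb, c, hc, hbc⟩ := Finset.one_lt_card.1
    (show 1 < (T.1.erase a).card by rw [Finset.card_erase_of_mem ha, T.2.2.1]; norm_num)
  have hcl := T.2.1
  have key : ∀ x ∈ T.1.erase a, g * a * g⁻¹ = a ∨ g * a * g⁻¹ = x := by
    intro x hx
    obtain ⟨hxa, hxT⟩ := Finset.mem_erase.1 hx
    have hD : ∀ y ∈ T.1, y ∈ D := fun y hy => hcl.1 (Finset.mem_coe.2 hy)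
    have heq : g * a * g⁻¹ * (g * x * g⁻¹) = a * x := by
      rw [show g * a * g⁻¹ * (g * x * g⁻¹) = g * (a * x) * g⁻¹ by group]
      exact conj_eq_of_commute (hg a ha x hxT)
    have h' : Commute (g * a * g⁻¹) (g * x * g⁻¹) := (conj_commute_iff g a x).2 (hcl.2 a ha x hxT)
    have hca : ∀ y, y = g * a * g⁻¹ ∨ y = g * x * g⁻¹ → Commute y (a * x) := by
      rintro y (rfl | rfl) <;> rw [← heq]
      exacts [(Commute.refl _).mul_right h', h'.symm.mul_right (Commute.refl _)]
    have hax := H99.Fi.commute_of_pair S.tt (hD a ha) (hD x hxT) (S.conj g a (hD a ha))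
      (hcl.2 a ha x hxT) (Ne.symm hxa) (hca _ (Or.inl rfl))
    have hxx := H99.Fi.commute_of_pair S.tt (hD a ha) (hD x hxT) (S.conj g x (hD x hxT))
      (hcl.2 a ha x hxT) (Ne.symm hxa) (hca _ (Or.inr rfl))
    set P : Finset G := {g * a * g⁻¹, g * x * g⁻¹} with hP
    set R : Finset G := {a, x} with hR
    have hPR : Cliq D (P ∪ R) := by
      refine ⟨fun y hy => ?_, fun u hu v hv => ?_⟩
      · simp [hP, hR] at hy
        rcases hy with e | e | e | e <;> rw [e] <;>
          first | exact S.conj g a (hD a ha) | exact S.conj g x (hD x hxT) | exact hD a ha | exact hD x hxT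
      · simp [hP, hR] at hu hv
        rcases hu with e | e | e | e <;> rcases hv with e' | e' | e' | e' <;> rw [e, e'] <;>
          first
            | exact Commute.refl _
            | exact h'
            | exact h'.symm
            | exact hax.1
            | exact hax.1.symm
            | exact hax.2
            | exact hax.2.symm
            | exact hxx.1
            | exact hxx.1.symm
            | exact hxx.2
            | exact hxx.2.symm
            | exact hcl.2 _ ha _ hxT
            | exact (hcl.2 _ ha _ hxT).symm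
    have hsq := hPR.sq S.tt
    have hpair : ∀ {u v : G}, Comm ({u, v} : Finset G) → u ≠ v → pp ({u, v} : Finset G) = u * v := by
      intro u v hc huv
      rw [pp_insert hc (by simp [huv]), ← insert_empty_eq v, pp_insert (by
        rw [insert_empty_eq]; exact hc.mono (Finset.subset_insert u _)) (Finset.notMem_empty v),
        pp_empty, mul_one]
    have h1 : pp (P ∆ R) = 1 := by
      rw [pp_symmDiff hPR.2 hsq, hpair (hPR.2.mono Finset.subset_union_left)
          (fun e => hxa (conj_injective g e).symm),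
        hpair (hPR.2.mono Finset.subset_union_right) (Ne.symm hxa), heq, ← heq,
        ← hpair (hPR.2.mono Finset.subset_union_left) (fun e => hxa (conj_injective g e).symm)]
      exact pp_sq (hPR.2.mono Finset.subset_union_left) fun u hu => hsq u (Finset.mem_union_left _ hu)
    have hsub : P ∆ R ⊆ P ∪ R := fun y hy => by
      rcases Finset.mem_symmDiff.1 hy with h | h
      exacts [Finset.mem_union_left _ h.1, Finset.mem_union_right _ h.1]
    have hc4 : (P ∆ R).card ≤ 6 := (Finset.card_le_card hsub).trans ((Finset.card_union_le P R).trans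
      (by rw [hP, hR]
          have := Finset.card_le_two (a := g * a * g⁻¹) (b := g * x * g⁻¹)
          have := Finset.card_le_two (a := a) (b := x)
          omega))
    have he : P = R := symmDiff_eq_bot.1 (no_rel_six S (hPR.mono hsub) hc4 h1)
    have hm : g * a * g⁻¹ ∈ R := he ▸ Finset.mem_insert_self _ _
    simpa [hR] using hm
  rcases key b hb with e | e
  · exact mul_inv_eq_iff_eq_mul.1 e
  rcases key c hc with e' | e'
  · exact mul_inv_eq_iff_eq_mul.1 e'
  exact absurd (e.symm.trans e') hbc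

omit S in
/-- The product as an element of its centraliser. -/
def zc (z : G) : ↥(CZ z) := ⟨z, Subgroup.mem_centralizer_singleton_iff.2 rfl⟩

/-- Fixing all members means being one of two elements. -/
lemma eq_of_fix (L : Lab (sys S (z := z))) {g : ↥(CZ z)}
    (hg : ∀ T : Tet D z, ∀ a ∈ T.1, Commute (g : G) a) : g = 1 ∨ g = zc z :=
  (cen_all S L hg).imp (fun e => Subtype.ext e) fun e => Subtype.ext e

lemma triv_comm (L : Lab (sys S (z := z))) {g h : ↥(CZ z)} (hg : g ∈ triv S) (hh : h ∈ triv S) :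
    ⁅g, h⁆ = 1 ∨ ⁅g, h⁆ = zc z := by
  refine eq_of_fix S L fun T b hb => ?_
  have hk : cimg ((h * g : ↥(CZ z)) : G)⁻¹ T.1 = T.1 :=
    ((triv S).inv_mem ((triv S).mul_mem hh hg) T).1
  set a := ((h * g : ↥(CZ z)) : G)⁻¹ * b * ((h * g : ↥(CZ z)) : G)⁻¹⁻¹ with hadef
  have ha : a ∈ T.1 := mem_conj S hk hb
  have hab : b = (h : G) * ((g : G) * a * (g : G)⁻¹) * (h : G)⁻¹ := by
    rw [hadef, Subgroup.coe_mul]; group
  have e := perm_comm S (hg T).1 (hh T).1 (hg T).2 (hh T).2 (cz_commute g) (cz_commute h) ha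
  refine mul_inv_eq_iff_eq_mul.1 ?_
  show ((⁅g, h⁆ : ↥(CZ z)) : G) * b * ((⁅g, h⁆ : ↥(CZ z)) : G)⁻¹ = b
  conv_rhs => rw [hab, ← e]
  conv_lhs => rw [hab]
  simp only [commutatorElement_def, Subgroup.coe_mul, Subgroup.coe_inv]
  group

lemma triv_sq (L : Lab (sys S (z := z))) {g : ↥(CZ z)} (hg : g ∈ triv S) :
    g * g = 1 ∨ g * g = zc z := by
  refine eq_of_fix S L fun T a ha => mul_inv_eq_iff_eq_mul.1 ?_
  show (g : G) * g * a * ((g : G) * g)⁻¹ = a
  conv_rhs => rw [← swap_back S (hg T).1 (hg T).2 ha]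
  group

lemma cent_pairs (L : Lab (sys S (z := z))) {g : ↥(CZ z)} (hg : ∀ h ∈ pairs D z, Commute g h) :
    g = 1 ∨ g = zc z := by
  refine eq_of_fix S L fun T a ha => fix_of_pairs S (T := T) (fun a ha b hb => ?_) ha
  obtain ⟨h, -⟩ := pair_mem_triv S ha hb
  exact congrArg Subtype.val (hg ⟨a * b, h⟩ ⟨T, a, ha, b, hb, rfl⟩).eq

omit S in
/-- The kernel elements fixing the frame pointwise. -/
noncomputable def frameFix (S : Ctx D) (L : Lab (sys S (z := z))) : Subgroup ↥(CZ z) :=
  (piz S).ker ⊓ (cen (om S L)).comap (CZ z).subtype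

lemma cen_om_le (L : Lab (sys S (z := z))) : cen (om S L) ≤ CZ z := fun g hg => by
  refine Subgroup.mem_centralizer_singleton_iff.2 ?_
  have h := commute_pp (g := g) (L.e 0).2.1.2 fun u hu => mem_cen.1 hg u (sub_om L 0 hu)
  rw [(L.e 0).2.2.2] at h
  exact h.eq

lemma card_frameFix (L : Lab (sys S (z := z))) : Nat.card ↥(frameFix S L) ≤ 128 := by
  obtain ⟨C⟩ := L.exists_bases
  let f := (piz S (z := z)).comp (Subgroup.inclusion (cen_om_le S L))
  let I := ((Finset.univ : Finset (Fin 6)).erase 0).powerset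
  have hmem : ∀ U : ↥I, (L.R U.1 : Equiv.Perm (Tet D z)) ∈ f.range := fun U => by
    set W := U.1.image fun i => (L.e i).rep
    have hW : W ⊆ om S L := Finset.image_subset_iff.2 fun i _ => sub_om L i (L.e i).rep_mem
    have hcen : pp W ∈ cen (om S L) := mem_cen.2 fun m hm =>
      (commute_pp ((cliq_om L).2.mono hW) fun u hu => (cliq_om L).2 m hm u (hW hu)).symm
    have hpar : par L W = U.1 := by
      ext i
      simp only [par, Finset.mem_filter, Finset.mem_univ, true_and]
      by_cases hi : i ∈ U.1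
      · refine iff_of_true ?_ hi
        rw [show W ∩ (L.e i).1 = {(L.e i).rep} from ?_, Finset.card_singleton]
        · exact odd_one
        ext y
        simp only [W, Finset.mem_inter, Finset.mem_image, Finset.mem_singleton]
        exact ⟨fun ⟨⟨j, _, e⟩, hy⟩ => by
          subst e; rw [label_eq L (L.e j).rep_mem hy], fun e => ⟨⟨i, hi, e.symm⟩, e ▸ (L.e i).rep_mem⟩⟩
      · refine iff_of_false ?_ hi
        rw [Finset.card_eq_zero.2 (Finset.eq_empty_of_forall_notMem fun y hy => ?_)]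
        · decide
        obtain ⟨hy1, hy2⟩ := Finset.mem_inter.1 hy
        obtain ⟨j, hj, rfl⟩ := Finset.mem_image.1 hy1
        exact hi (label_eq L hy2 (L.e j).rep_mem ▸ hj)
    refine ⟨⟨pp W, hcen⟩, Equiv.ext fun T => Tet.ext' ?_⟩
    show (piz S ⟨pp W, cen_om_le S L hcen⟩ T).1 = _
    rw [piz_val, piz_pp S L hW T, hpar]
  have h32 : 32 ≤ Nat.card ↥f.range := by
    refine le_trans (le_of_eq ?_) (Nat.card_le_card_of_injective
      (fun U : ↥I => (⟨L.R U.1, hmem U⟩ : ↥f.range)) fun U V e => ?_)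
    · rw [Nat.card_eq_fintype_card, Fintype.card_coe, Finset.card_powerset,
        Finset.card_erase_of_mem (Finset.mem_univ 0)]
      rfl
    · have h0 : ∀ T, L.R (U.1 ∆ V.1) T = T := fun T => by
        have e' : L.R U.1 T = L.R V.1 T :=
          congrArg (fun p : ↥f.range => (p.1 : Equiv.Perm (Tet D z)) T) e
        rw [symmDiff_comm, ← L.R_R, e', L.R_invol]
      rcases par_rel S L C h0 with h | h
      · exact Subtype.ext (symmDiff_eq_bot.1 h)
      · exfalso
        have : (0 : Fin 6) ∈ U.1 ∆ V.1 := h ▸ Finset.mem_univ _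
        rcases Finset.mem_symmDiff.1 this with h' | h'
        · exact (Finset.mem_erase.1 (Finset.mem_powerset.1 U.2 h'.1)).1 rfl
        · exact (Finset.mem_erase.1 (Finset.mem_powerset.1 V.2 h'.1)).1 rfl
  have hc := Subgroup.card_eq_card_quotient_mul_card_subgroup f.ker
  rw [(cen_om S L).2, Nat.card_congr (QuotientGroup.quotientKerEquivRange f).toEquiv] at hc
  have hk : Nat.card ↥(frameFix S L) ≤ Nat.card ↥f.ker := by
    refine Nat.card_le_card_of_injective (fun g => (⟨⟨g.1.1, g.2.2⟩, ?_⟩ : ↥f.ker)) fun a b e => ?_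
    · exact g.2.1
    · exact Subtype.ext (Subtype.ext (congrArg (fun x : ↥f.ker => (x.1 : G)) e))
  have := Nat.mul_le_mul_right (Nat.card ↥f.ker) h32
  omega

lemma frameFix_le (L : Lab (sys S (z := z))) : frameFix S L ≤ triv S := fun g hg T => by
  obtain ⟨a, ha, b, hb, hab⟩ := exists_pair S (L.e 0)
  exact ⟨(mem_ker_iff S).1 hg.1 T, triv_of_fix S (keeps_of_ker S hg.1) ha hb hab
    (Or.inl (conj_eq_of_commute ((mem_cen.1 hg.2 a (sub_om L 0 ha)).mul_right
      (mem_cen.1 hg.2 b (sub_om L 0 hb))))) T⟩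

lemma card_triv_le (L : Lab (sys S (z := z))) : Nat.card ↥(triv S (z := z)) ≤ 8192 := by
  have hT := L.e 0
  have hz : zc z ≠ 1 := fun e => z_ne S hT (congrArg Subtype.val e)
  have hc : ∀ g : ↥(CZ z), Commute (zc z) g := fun g => Subtype.ext (cz_commute g).eq.symm
  have hzm : zc z ∈ frameFix S L := by
    refine ⟨(mem_ker_iff S).2 fun T => ?_, mem_cen.2 fun m hm => ?_⟩
    · refine (Finset.image_congr fun a ha => ?_).trans Finset.image_id
      exact conj_eq_of_commute (T.2.commute_z (Finset.mem_coe.1 ha)).symm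
    · obtain ⟨i, hi⟩ := mem_om.1 hm
      exact ((L.e i).2.commute_z hi).symm
  have h := dual_bound (H := triv S (z := z)) (V := frameFix S L) (B := frameFix S L) hzm hz
    (Subtype.ext (z_sq S hT)) (fun v _ => hc v) (fun v _ => hc v)
    (fun g hg v hv => triv_comm S L hg (frameFix_le S L hv))
    (fun g hg hcomm => ⟨triv_le_ker S hg, mem_cen.2 fun m hm => by
      obtain ⟨i, hi⟩ := mem_om.1 hm
      refine fix_of_pairs S (T := L.e i) (fun a ha b hb => ?_) hi
      obtain ⟨hab, hab'⟩ := pair_mem_triv S ha hb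
      exact congrArg Subtype.val (hcomm ⟨a * b, hab⟩ ⟨triv_le_ker S hab', mem_cen.2 fun u hu =>
        ((cliq_om L).2 a (sub_om L i ha) u hu).mul_left ((cliq_om L).2 b (sub_om L i hb) u hu)⟩).eq⟩)
  have h' := card_frameFix S L
  have := Nat.mul_le_mul h' h'
  omega

lemma card_ker_le_three (T : Tet D z) :
    Nat.card ↥(piz S (z := z)).ker ≤ 3 * Nat.card ↥(triv S (z := z)) := by
  obtain ⟨a, ha, -, -, -⟩ := exists_pair S T
  obtain ⟨b, c, d, hbc, hbd, hcd, he⟩ := Finset.card_eq_three.1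
    (show (T.1.erase a).card = 3 by rw [Finset.card_erase_of_mem ha, T.2.2.1])
  have hm : ∀ x ∈ ({b, c, d} : Finset G), x ∈ T.1 ∧ x ≠ a := fun x hx => by
    rw [← he, Finset.mem_erase] at hx; exact ⟨hx.2, hx.1⟩
  obtain ⟨hb, hba⟩ := hm b (by simp)
  have hz2 := z_sq S T
  let cls : G → Finset G := fun x => {x, x * z}
  let tgt : Finset (Finset G) := {cls (a * b), cls (a * c), cls (a * d)}
  let f : ↥(piz S (z := z)).ker → Finset G := fun g => cls ((g.1 : G) * (a * b) * (g.1 : G)⁻¹)
  have hcls : ∀ x, cls (x * z) = cls x := fun x => by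
    simp only [cls]; rw [mul_assoc, hz2, mul_one, Finset.pair_comm]
  have hin : ∀ g, f g ∈ tgt := by
    intro g
    have hg := keeps_of_ker S g.2
    have h1 := mem_conj S (hg.2 T) ha
    have h2 := mem_conj S (hg.2 T) hb
    set u := (g.1 : G) * a * (g.1 : G)⁻¹
    set v := (g.1 : G) * b * (g.1 : G)⁻¹
    have huv : u ≠ v := fun e => hba (conj_injective (g.1 : G) e).symm
    have hs : (g.1 : G) * (a * b) * (g.1 : G)⁻¹ = u * v := by simp only [u, v]; group
    have hmem : ∀ x ∈ T.1, x ≠ a → cls (a * x) ∈ tgt := fun x hx hxa => by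
      have : x ∈ ({b, c, d} : Finset G) := he ▸ Finset.mem_erase.2 ⟨hxa, hx⟩
      simp only [Finset.mem_insert, Finset.mem_singleton] at this
      rcases this with e | e | e <;> simp [tgt, e]
    show cls _ ∈ tgt
    rw [hs]
    by_cases hu : u = a
    · rw [hu]; exact hmem v h2 fun e => huv (hu.trans e.symm)
    by_cases hv : v = a
    · rw [(T.2.1.2 u h1 v h2).eq, hv]; exact hmem u h1 hu
    obtain ⟨e, he'⟩ := Finset.card_pos.1 (show 0 < (((T.1.erase a).erase u).erase v).card by
      rw [Finset.card_erase_of_mem (Finset.mem_erase.2 ⟨Ne.symm huv, Finset.mem_erase.2 ⟨hv, h2⟩⟩),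
        Finset.card_erase_of_mem (Finset.mem_erase.2 ⟨hu, h1⟩), Finset.card_erase_of_mem ha, T.2.2.1]
      norm_num)
    simp only [Finset.mem_erase] at he'
    obtain ⟨hev, heu, hea, heT⟩ := he'
    rw [compl_pair S T ha heT h1 h2 (Ne.symm hea) hu hv (Ne.symm heu) (Ne.symm hev) huv, hcls]
    exact hmem e heT hea
  let Q := (triv S (z := z)).subgroupOf (piz S (z := z)).ker
  have hcard : Nat.card (↥(piz S (z := z)).ker ⧸ Q) ≤ 3 := by
    refine (Nat.card_le_card_of_injective (fun q => (⟨f q.out, hin _⟩ : ↥tgt)) fun q q' e => ?_).trans ?_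
    · have e' : f q.out = f q'.out := congrArg Subtype.val e
      rw [← Quotient.out_eq' q, ← Quotient.out_eq' q']
      refine QuotientGroup.eq.2 ?_
      rw [Subgroup.mem_subgroupOf]
      have hk : (q.out⁻¹ * q'.out).1 ∈ (piz S (z := z)).ker := (q.out⁻¹ * q'.out).2
      intro U
      refine ⟨(mem_ker_iff S).1 hk U, triv_of_fix S (keeps_of_ker S hk) ha hb (Ne.symm hba) ?_ U⟩
      have hq : (q'.out.1 : G) * (a * b) * (q'.out.1 : G)⁻¹ ∈ f q.out := e' ▸ Finset.mem_insert_self _ _
      simp only [f, cls, Finset.mem_insert, Finset.mem_singleton] at hq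
      have hqz : (q.out.1 : G)⁻¹ * z * (q.out.1 : G)⁻¹⁻¹ = z :=
        conj_eq_of_commute (cz_commute q.out.1).inv_left
      rw [show ((q.out⁻¹ * q'.out).1 : G) * (a * b) * ((q.out⁻¹ * q'.out).1 : G)⁻¹ = (q.out.1 : G)⁻¹ *
        ((q'.out.1 : G) * (a * b) * (q'.out.1 : G)⁻¹) * (q.out.1 : G)⁻¹⁻¹ by
          simp only [Subgroup.coe_mul, Subgroup.coe_inv]; group]
      rcases hq with h | h <;> rw [h]
      · left; group
      · right
        conv_rhs => rw [← hqz]
        group
    · rw [Nat.card_eq_fintype_card, Fintype.card_coe]; exact Finset.card_le_three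
  rw [Subgroup.card_eq_card_quotient_mul_card_subgroup Q,
    Nat.card_congr (Subgroup.subgroupOfEquivOfLe (triv_le_ker S)).toEquiv]
  exact Nat.mul_le_mul_right _ hcard

/-- The orders of the kernel, its large part and the image. -/
theorem kernel_facts (L : Lab (sys S (z := z))) :
    Nat.card ↥(triv S (z := z)) = 8192 ∧ Nat.card ↥(piz S (z := z)).ker = 24576 ∧
      (piz S (z := z)).range = autGrp (sys S (z := z)) ∧
      Nat.card ↥(autGrp (sys S (z := z))) = 13063680 := by
  obtain ⟨C⟩ := L.exists_bases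
  have h1 := card_triv_le S L
  have h2 := card_ker_le_three S (L.e 0)
  have h3 := (Lab.range_eq C).2
  have hle : (piz S (z := z)).range ≤ autGrp (sys S (z := z)) := by
    rintro _ ⟨g, rfl⟩; exact piz_mem S g
  have h4 := Subgroup.card_le_of_le hle
  have h5 := Subgroup.card_eq_card_quotient_mul_card_subgroup (piz S (z := z)).ker
  rw [card_cz S (L.e 0), Nat.card_congr (QuotientGroup.quotientKerEquivRange _).toEquiv] at h5
  set r := Nat.card ↥(piz S (z := z)).range
  set k := Nat.card ↥(piz S (z := z)).ker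
  set a := Nat.card ↥(autGrp (sys S (z := z)))
  have hk : k ≤ 24576 := by omega
  have hk' : 24576 ≤ k := by
    by_contra hn
    have := Nat.mul_le_mul (h3 ▸ h4 : r ≤ 13063680) (show k ≤ 24575 by omega)
    omega
  have hr : 13063680 ≤ r := by
    rw [show k = 24576 by omega] at h5
    omega
  exact ⟨by omega, by omega, Subgroup.eq_of_le_of_card_ge hle (by omega), h3⟩

/-- The large part is generated by the pairs. -/
theorem triv_eq_pairs (L : Lab (sys S (z := z))) :
    triv S (z := z) = Subgroup.closure (pairs D z) := by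
  have hT := L.e 0
  have hz : zc z ≠ 1 := fun e => z_ne S hT (congrArg Subtype.val e)
  have hc : ∀ g : ↥(CZ z), Commute (zc z) g := fun g => Subtype.ext (cz_commute g).eq.symm
  have hzm : zc z ∈ Subgroup.closure (pairs D z) := by
    obtain ⟨a, ha, b, hb, hab⟩ := exists_pair S hT
    obtain ⟨c, hcT, d, hdT, hcd⟩ := Finset.one_lt_card.1 (show 1 < ((hT.1.erase a).erase b).card by
      rw [Finset.card_erase_of_mem (Finset.mem_erase.2 ⟨Ne.symm hab, hb⟩),
        Finset.card_erase_of_mem ha, hT.2.2.1]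
      norm_num)
    simp only [Finset.mem_erase] at hcT hdT
    have e := compl_pair S hT ha hb hcT.2.2 hdT.2.2 hab hcT.2.1 hdT.2.1 hcT.1 hdT.1 hcd
    obtain ⟨h1, -⟩ := pair_mem_triv S ha hb
    obtain ⟨h2, -⟩ := pair_mem_triv S hcT.2.2 hdT.2.2
    have he : zc z = (⟨a * b, h1⟩ : ↥(CZ z))⁻¹ * ⟨c * d, h2⟩ := Subtype.ext (by
      show z = (a * b)⁻¹ * (c * d)
      rw [e]; group)
    rw [he]
    exact Subgroup.mul_mem _ (Subgroup.inv_mem _ (Subgroup.subset_closure ⟨hT, a, ha, b, hb, rfl⟩))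
      (Subgroup.subset_closure ⟨hT, c, hcT.2.2, d, hdT.2.2, rfl⟩)
  have hB : Nat.card ↥(Subgroup.zpowers (zc z)) = 2 := by
    rw [Nat.card_zpowers, orderOf_eq_prime_iff]
    exact ⟨by rw [pow_two]; exact Subtype.ext (z_sq S hT), hz⟩
  have h := dual_bound (H := triv S (z := z)) (V := Subgroup.closure (pairs D z))
    (B := Subgroup.zpowers (zc z)) hzm hz (Subtype.ext (z_sq S hT)) (fun v _ => hc v) (fun v _ => hc v)
    (fun g hg v hv => triv_comm S L hg (pairs_le S hv))
    (fun g hg hcomm => by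
      rcases cent_pairs S L fun x hx => hcomm x (Subgroup.subset_closure hx) with e | e <;> rw [e]
      exacts [Subgroup.one_mem _, Subgroup.mem_zpowers _])
  rw [hB] at h
  exact (Subgroup.eq_of_le_of_card_ge (pairs_le S) (by omega)).symm

end H49.Sextet
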