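/-
The centraliser in the kernel of the parity of a product of four commuting members.
-/
import Cfsg.Agent.H49.Sextet.KerCard
import Cfsg.Agent.H49.Parity.Commutator
import Cfsg.Agent.H69.Char2
import Cfsg.Agent.H69.Setting

set_option autoImplicit false
set_option linter.unusedSectionVars false

namespace H49.Sextet

open Cfsg H99 H49.Parity
open scoped Classical symmDiff commutatorElement

variable {G : Type*} [Group G] [Finite G] {D : Set G} {z : G}

omit [Finite G] in
lemma card_comap_eq {H : Type*} [Group H] (f : H →* G) (hf : Function.Injective f) {K : Subgroup G}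
    (hK : K ≤ f.range) : Nat.card ↥(K.comap f) = Nat.card ↥K := by
  refine Nat.card_congr (Equiv.ofBijective (fun h => (⟨f h.1, h.2⟩ : ↥K))
    ⟨fun a b e => Subtype.ext (hf (congrArg Subtype.val e)), fun k => ?_⟩)
  obtain ⟨h, hh⟩ := hK k.2
  exact ⟨⟨h, by show f h ∈ K; rw [hh]; exact k.2⟩, Subtype.ext hh⟩

variable (S : Ctx D)
include S

lemma triv_normal : (triv S (z := z)).Normal := by
  refine ⟨fun g hg h T => ?_⟩
  have hh : ∀ k : ↥(CZ z), ∀ U : Tet D z, cimg (k : G) U.1 = (piz S k U).1 := fun k U => rfl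
  set U := piz S h⁻¹ T with hU
  have hT : cimg (h : G) U.1 = T.1 := by
    rw [hU, piz_val, Subgroup.coe_inv, cimg_cimg, mul_inv_cancel, cimg_one]
  have hU1 : U.1 = cimg (h : G)⁻¹ T.1 := by rw [← hT, cimg_inv]
  refine ⟨?_, fun a ha b hb => ?_⟩
  · rw [Subgroup.coe_mul, Subgroup.coe_mul, Subgroup.coe_inv, ← cimg_cimg, ← cimg_cimg, ← hU1,
      (hg U).1, hT]
  · have hmem : ∀ x ∈ T.1, (h : G)⁻¹ * x * (h : G)⁻¹⁻¹ ∈ U.1 := fun x hx => by
      rw [hU1]; exact Finset.mem_image_of_mem _ hx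
    have e1 : ((h * g * h⁻¹ : ↥(CZ z)) : G) * (a * b) * ((h * g * h⁻¹ : ↥(CZ z)) : G)⁻¹ =
        (h : G) * ((g : G) * (((h : G)⁻¹ * a * (h : G)⁻¹⁻¹) * ((h : G)⁻¹ * b * (h : G)⁻¹⁻¹)) *
          (g : G)⁻¹) * (h : G)⁻¹ := by
      simp only [Subgroup.coe_mul, Subgroup.coe_inv]; group
    have hz : (h : G) * z * (h : G)⁻¹ = z := conj_eq_of_commute (cz_commute h)
    rcases (hg U).2 _ (hmem a ha) _ (hmem b hb) with e | e <;> rw [e1, e]
    · left; group
    · right
      conv_rhs => rw [← hz]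
      group

/-- The structure of the centraliser. -/
theorem centraliser_structure (φ : G →* ℤˣ) (hφ : ∀ d ∈ D, φ d = -1) (T : Tet D z) :
    ∃ (Q : Subgroup ↥(φ.ker ⊓ CZ z)) (_ : Q.Normal),
      Cfsg.generalizedFittingSubgroup ↥(φ.ker ⊓ CZ z) = Q ∧ Cfsg.IsExtraspecial 2 ↥Q ∧
      Nat.card Q = 2 ^ 13 ∧ ∃ (N M : Subgroup ↥(φ.ker ⊓ CZ z)) (_ : N.Normal) (_ : M.Normal),
        Q ≤ N ∧ N ≤ M ∧ Nat.card N = 3 * Nat.card Q ∧
        (∃ (K : Type) (_ : Field K) (_ : Fintype K), Fintype.card K = 9 ∧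
          Nonempty (↥M ⧸ N.subgroupOf M ≃* Cfsg.PSU 4 K 3)) ∧ M.index = 2 := by
  haveI : Fact (Nat.Prime 2) := ⟨Nat.prime_two⟩
  obtain ⟨L, -⟩ := exists_lab S T
  obtain ⟨B⟩ := L.exists_bases
  obtain ⟨hQc, hKc, hrange, hAc⟩ := kernel_facts S L
  obtain ⟨K, _, _, hK, hXc, hXs, ⟨eX⟩⟩ := Lab.derived_psu B
  haveI := hXs
  set X := ⁅autGrp (sys S (z := z)), autGrp (sys S (z := z))⁆ with hX
  haveI hQn : (triv S (z := z)).Normal := triv_normal S
  let ψ : ↥(CZ z) →* ℤˣ := φ.comp (CZ z).subtype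
  have hψsurj : Function.Surjective ψ := by
    intro u
    rcases Int.units_eq_one_or u with rfl | rfl
    · exact ⟨1, map_one ψ⟩
    · exact ⟨⟨T.rep, Subgroup.mem_centralizer_singleton_iff.2 (T.2.commute_z T.rep_mem).eq⟩,
        hφ _ (T.2.1.1 (Finset.mem_coe.2 T.rep_mem))⟩
  have hQψ : triv S (z := z) ≤ ψ.ker := by
    rw [triv_eq_pairs S L, Subgroup.closure_le]
    rintro g ⟨U, a, ha, b, hb, e⟩
    show φ (g : G) = 1
    rw [e, map_mul, hφ a (U.2.1.1 (Finset.mem_coe.2 ha)), hφ b (U.2.1.1 (Finset.mem_coe.2 hb))]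
    decide
  have hidx : ((triv S (z := z)).subgroupOf (piz S (z := z)).ker).index = 3 := by
    have h := Subgroup.card_mul_index ((triv S (z := z)).subgroupOf (piz S (z := z)).ker)
    rw [Nat.card_congr (Subgroup.subgroupOfEquivOfLe (triv_le_ker S)).toEquiv, hQc, hKc] at h
    omega
  have hKψ : (piz S (z := z)).ker ≤ ψ.ker := by
    intro g hg
    haveI : ((triv S (z := z)).subgroupOf (piz S (z := z)).ker).Normal := hQn.subgroupOf _
    have h3 := Subgroup.pow_index_mem ((triv S (z := z)).subgroupOf (piz S (z := z)).ker) ⟨g, hg⟩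
    rw [hidx] at h3
    have h1 : ψ (g ^ 3) = 1 := hQψ h3
    rw [map_pow] at h1
    show ψ g = 1
    rcases Int.units_eq_one_or (ψ g) with e | e
    · exact e
    · rw [e] at h1; exact absurd h1 (by decide)
  let ι : ↥(φ.ker ⊓ CZ z) →* ↥(CZ z) := Subgroup.inclusion inf_le_right
  have hι : Function.Injective ι := Subgroup.inclusion_injective _
  have hιr : ι.range = ψ.ker := by
    ext g
    constructor
    · rintro ⟨c, rfl⟩; exact c.2.1
    · intro hg; exact ⟨⟨g.1, ⟨hg, g.2⟩⟩, Subtype.ext rfl⟩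
  let π := (piz S (z := z)).comp ι
  set N := π.ker with hN
  set Q := (triv S (z := z)).comap ι with hQ
  set M := X.comap π with hM
  have hNc : Nat.card ↥N = 24576 := by
    rw [hN, show π.ker = (piz S (z := z)).ker.comap ι from (MonoidHom.comap_ker _ ι).symm,
      card_comap_eq ι hι (hιr ▸ hKψ), hKc]
  have hQ13 : Nat.card ↥Q = 8192 := by rw [hQ, card_comap_eq ι hι (hιr ▸ hQψ), hQc]
  have hCc : 2 * Nat.card ↥(φ.ker ⊓ CZ z) = 321052999680 := by
    have h := Subgroup.card_eq_card_quotient_mul_card_subgroup ψ.ker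
    rw [Nat.card_congr (QuotientGroup.quotientKerEquivOfSurjective ψ hψsurj).toEquiv, card_cz S T,
      ← hιr, ← Nat.card_congr (MonoidHom.ofInjective hι).toEquiv, Nat.card_eq_fintype_card (α := ℤˣ),
      Fintype.card_units_int] at h
    omega
  have hXπ : X ≤ π.range := by
    rw [hX, ← hrange, MonoidHom.range_eq_map, ← Subgroup.map_commutator, MonoidHom.range_comp, hιr]
    refine Subgroup.map_mono ?_
    rw [← commutator_def]
    exact Abelianization.commutator_subset_ker ψ
  let f : ↥M →* ↥X := MonoidHom.mk' (fun m => ⟨π m.1, m.2⟩) fun a b => Subtype.ext (map_mul π a.1 b.1)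
  have hf : Function.Surjective f := fun x => by
    obtain ⟨c, hc⟩ := hXπ x.2
    exact ⟨⟨c, show π c ∈ X by rw [hc]; exact x.2⟩, Subtype.ext hc⟩
  have hfker : f.ker = N.subgroupOf M := by
    ext m
    exact ⟨fun h => congrArg Subtype.val h, fun h => Subtype.ext h⟩
  have hNM : N ≤ M := fun c hc => show π c ∈ X by rw [MonoidHom.mem_ker.1 hc]; exact X.one_mem
  have hQN : Q ≤ N := fun c hc => triv_le_ker S hc
  have hMc : Nat.card ↥M = 3265920 * 24576 := by
    rw [Subgroup.card_eq_card_quotient_mul_card_subgroup f.ker,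
      Nat.card_congr (QuotientGroup.quotientKerEquivOfSurjective f hf).toEquiv, hXc, hfker,
      Nat.card_congr (Subgroup.subgroupOfEquivOfLe hNM).toEquiv, hNc]
  have hMi : M.index = 2 := by
    have h := Subgroup.card_mul_index M
    rw [hMc] at h
    omega
  haveI hMn : M.Normal := Subgroup.normal_of_index_eq_two hMi
  have hz : zc z ≠ 1 := fun e => z_ne S T (congrArg Subtype.val e)
  haveI hQCn : Q.Normal := hQn.comap ι
  have hQp : IsPGroup 2 ↥Q := IsPGroup.of_card (n := 13) (by rw [hQ13]; norm_num)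
  -- centraliser of the extraspecial part
  have hcent : ∀ c : ↥(φ.ker ⊓ CZ z), (∀ q ∈ Q, q * c = c * q) → ι c = 1 ∨ ι c = zc z := by
    intro c hc
    refine cent_pairs S L fun h hh => ?_
    have hh' : h ∈ triv S (z := z) := pairs_le S (Subgroup.subset_closure hh)
    obtain ⟨q, hq⟩ := (hιr ▸ hQψ hh' : h ∈ ι.range)
    have hqQ : q ∈ Q := show ι q ∈ triv S (z := z) by rw [hq]; exact hh'
    have := congrArg ι (hc q hqQ)
    rw [map_mul, map_mul, hq] at this
    exact this.symm
  have hzt : zc z ∈ triv S (z := z) := fun U =>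
    ⟨(Finset.image_congr fun a ha => conj_eq_of_commute
      (U.2.commute_z (Finset.mem_coe.1 ha)).symm).trans Finset.image_id,
      fun a ha b hb => Or.inl (conj_eq_of_commute
        ((U.2.commute_z ha).symm.mul_right (U.2.commute_z hb).symm))⟩
  obtain ⟨cz0, hcz0⟩ := (hιr ▸ hQψ hzt : zc z ∈ ι.range)
  have hcz0Q : cz0 ∈ Q := show ι cz0 ∈ triv S (z := z) by rw [hcz0]; exact hzt
  have hext : Cfsg.IsExtraspecial 2 ↥Q := by
    refine H69.isExtraspecial_two_of ⟨cz0, hcz0Q⟩ hQp (fun x => ?_) (fun x y => ?_) ?_ (fun x hx => ?_)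
    · rcases triv_sq S L (g := ι x.1) x.2 with e | e
      · exact Or.inl (Subtype.ext (hι (by rw [Subgroup.coe_mul, map_mul, e]; exact (map_one ι).symm)))
      · exact Or.inr (Subtype.ext (hι (by rw [Subgroup.coe_mul, map_mul, e]; exact hcz0.symm)))
    · rcases triv_comm S L (g := ι x.1) (h := ι y.1) x.2 y.2 with e | e
      · refine Or.inl (Subtype.ext (hι ?_))
        rw [Subgroup.coe_mul, Subgroup.coe_mul, map_mul, map_mul]
        exact (commutatorElement_eq_one_iff_commute.1 e).eq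
      · refine Or.inr (Subtype.ext (hι ?_))
        rw [Subgroup.coe_mul, Subgroup.coe_mul, Subgroup.coe_mul, map_mul, map_mul, map_mul, hcz0, ← e]
        simp only [commutatorElement_def]; group
    · by_contra hn
      push Not at hn
      have h2 : ∀ x : ↥Q, x.1 = 1 ∨ x.1 = cz0 := fun x => by
        rcases hcent x.1 (fun q hq => (congrArg Subtype.val (hn x ⟨q, hq⟩)).symm) with e | e
        · exact Or.inl (hι (e.trans (map_one ι).symm))
        · exact Or.inr (hι (e.trans hcz0.symm))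
      have : Nat.card ↥Q ≤ 2 := by
        refine le_trans (Nat.card_mono (Finset.finite_toSet ({1, cz0} : Finset ↥(φ.ker ⊓ CZ z)))
          (fun x hx => ?_)) ?_
        · rcases h2 ⟨x, hx⟩ with e | e <;> simp [show x = _ from e]
        · rw [Nat.card_coe_set_eq, Set.ncard_coe_finset]; exact Finset.card_le_two
      omega
    · rcases hcent x.1 (fun q hq => congrArg Subtype.val (hx ⟨q, hq⟩)) with e | e
      · exact Or.inl (Subtype.ext (hι (e.trans (map_one ι).symm)))
      · exact Or.inr (Subtype.ext (hι (e.trans hcz0.symm)))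
  -- the largest normal 2-subgroup
  have hO2 : Cfsg.pCore 2 ↥(φ.ker ⊓ CZ z) = Q := by
    refine le_antisymm ?_ (Cfsg.Comp.le_pCore hQCn hQp)
    set P := Cfsg.pCore 2 ↥(φ.ker ⊓ CZ z) with hP
    have hPp : IsPGroup 2 ↥P := Cfsg.Comp.pCore_isPGroup 2
    haveI hPn : P.Normal := inferInstance
    -- the image meets the simple group trivially
    set Y := (P.map π).subgroupOf X with hY
    haveI hYn : Y.Normal := by
      refine ⟨fun y hy x => ?_⟩
      obtain ⟨c, hc⟩ := hXπ x.2
      obtain ⟨p, hp, hpe⟩ := (hy : (y : Equiv.Perm (Tet D z)) ∈ P.map π)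
      refine ⟨c * p * c⁻¹, hPn.conj_mem p hp c, ?_⟩
      rw [map_mul, map_mul, map_inv, hc, hpe]
      rfl
    have hYbot : Y = ⊥ := by
      refine (Subgroup.Normal.eq_bot_or_eq_top hYn).resolve_right fun htop => ?_
      have h1 : X ≤ P.map π := fun x hx => by
        have : (⟨x, hx⟩ : ↥X) ∈ Y := htop ▸ Subgroup.mem_top _
        exact this
      obtain ⟨n, hn⟩ := IsPGroup.iff_card.1 ((hPp.map π).to_le h1)
      rw [hXc] at hn
      have h3 : 3 ∣ 2 ^ n := ⟨1088640, by omega⟩
      exact absurd (Nat.prime_three.dvd_of_dvd_pow h3) (by norm_num)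
    have hPN : P ≤ N := by
      intro p hp
      have hσ : π p ∈ autGrp (sys S (z := z)) := piz_mem S (ι p)
      refine Lab.centraliser_derived B hσ fun τ hτ => ?_
      obtain ⟨c, rfl⟩ := hXπ hτ
      refine commutatorElement_eq_one_iff_commute.1 ?_
      rw [← map_commutatorElement]
      have hm : π ⁅p, c⁆ ∈ X := by
        rw [map_commutatorElement, commutatorElement_def]
        refine X.mul_mem ?_ (X.inv_mem hτ)
        have hn : (X.subgroupOf (autGrp (sys S (z := z)))).Normal := by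
          refine ⟨fun y hy x => ?_⟩
          have hy' : (y : Equiv.Perm (Tet D z)) ∈ (⁅autGrp (sys S (z := z)), autGrp (sys S (z := z))⁆) := hy
          show (x : Equiv.Perm (Tet D z)) * y * (x : Equiv.Perm (Tet D z))⁻¹ ∈ X
          rw [show (x : Equiv.Perm (Tet D z)) * y * (x : Equiv.Perm (Tet D z))⁻¹ =
            ⁅(x : Equiv.Perm (Tet D z)), (y : Equiv.Perm (Tet D z))⁆ * y by
              simp only [commutatorElement_def]; group]
          exact X.mul_mem (Subgroup.commutator_mem_commutator x.2 y.2) hy'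
        exact hn.conj_mem ⟨π c, piz_mem S (ι c)⟩ hτ ⟨π p, hσ⟩
      have hmP : ⁅p, c⁆ ∈ P := by
        rw [commutatorElement_def, show p * c * p⁻¹ * c⁻¹ = p * (c * p⁻¹ * c⁻¹) by group]
        exact P.mul_mem hp (hPn.conj_mem _ (P.inv_mem hp) c)
      have hmem : (⟨π ⁅p, c⁆, hm⟩ : ↥X) ∈ Y := ⟨_, hmP, rfl⟩
      rw [hYbot, Subgroup.mem_bot] at hmem
      exact congrArg Subtype.val hmem
    -- a 2-subgroup of the kernel lies in the extraspecial part
    intro p hp
    have hidx' : (Q.subgroupOf N).index = 3 := by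
      have h := Subgroup.card_mul_index (Q.subgroupOf N)
      rw [Nat.card_congr (Subgroup.subgroupOfEquivOfLe hQN).toEquiv, hQ13, hNc] at h
      omega
    haveI : (Q.subgroupOf N).Normal := hQCn.subgroupOf N
    have h3 := Subgroup.pow_index_mem (Q.subgroupOf N) ⟨p, hPN hp⟩
    rw [hidx'] at h3
    have h3' : p ^ 3 ∈ Q := h3
    obtain ⟨k, hk⟩ := hPp ⟨p, hp⟩
    have hk' : p ^ 2 ^ k = 1 := congrArg Subtype.val hk
    have hpow : p ^ (Nat.gcd 3 (2 ^ k) : ℕ) ∈ Q := by
      rw [← zpow_natCast, Nat.gcd_eq_gcd_ab, zpow_add, zpow_mul, zpow_mul, zpow_natCast, zpow_natCast,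
        hk', one_zpow, mul_one]
      exact Q.zpow_mem h3' _
    rwa [Nat.Coprime.pow_right k (by norm_num : Nat.Coprime 3 2), pow_one] at hpow
  have hF : Cfsg.generalizedFittingSubgroup ↥(φ.ker ⊓ CZ z) = Q := by
    rw [H69.fStar_eq_of_char_two ?_, hO2]
    unfold Cfsg.IsOfCharacteristicTwo
    rw [hO2]
    intro c hc
    rcases hcent c (fun q hq => Subgroup.mem_centralizer_iff.1 hc q hq) with e | e
    · rw [hι (e.trans (map_one ι).symm)]; exact Q.one_mem
    · rw [hι (e.trans hcz0.symm)]; exact hcz0Q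
  refine ⟨Q, hQCn, hF, hext, by rw [hQ13]; norm_num, N, M, inferInstance, hMn, hQN, hNM,
    by rw [hNc, hQ13], ⟨K, inferInstance, inferInstance, hK, ⟨?_⟩⟩, hMi⟩
  exact ((QuotientGroup.quotientMulEquivOfEq hfker.symm).trans
    (QuotientGroup.quotientKerEquivOfSurjective f hf)).trans eX

end H49.Sextet
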